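import Mathlib
import Cfsg.Agent.Lib.Small.AltDeg.Perm

/-!
Alternating groups: generation by two elements and Carmichael's presentation.
-/

set_option autoImplicit false
set_option linter.style.haveILetI false

namespace Cfsg.Agent.Small.BoundedPres

open Cfsg.Agent.Small.AltDeg Equiv

variable {n : ℕ}

/-- Carmichael's relations bound the order. -/
theorem carmichael_finite {Q : Type*} [Group Q] (x : ℕ → Q) : ∀ n : ℕ,
    (∀ i, i ≤ n → x i ^ 3 = 1) → (∀ i j, i ≤ n → j ≤ n → i ≠ j → (x i * x j) ^ 2 = 1) →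
    (Subgroup.closure (x '' {i | i ≤ n}) : Set Q).Finite ∧
      2 * Nat.card ↥(Subgroup.closure (x '' {i | i ≤ n})) ≤ (n + 3).factorial := by
  intro n
  induction n with
  | zero =>
    intro h3 _
    have e : x '' {i | i ≤ 0} = {x 0} := by ext; simp [eq_comm]
    rw [e, ← Subgroup.zpowers_eq_closure, Nat.card_zpowers]
    refine ⟨IsOfFinOrder.finite_zpowers (isOfFinOrder_iff_pow_eq_one.2 ⟨3, by norm_num, h3 0 le_rfl⟩), ?_⟩
    have := Nat.le_of_dvd (by norm_num) (orderOf_dvd_of_pow_eq_one (h3 0 le_rfl))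
    simp [Nat.factorial]
    omega
  | succ n ih =>
    intro h3 hp
    obtain ⟨hfinI, hI⟩ := ih (fun i hi => h3 i (by omega)) fun i j hi hj => hp i j (by omega) (by omega)
    obtain ⟨H, hH⟩ : ∃ H, H = Subgroup.closure (x '' {i | i ≤ n}) := ⟨_, rfl⟩
    rw [← hH] at hI hfinI
    haveI : Finite ↥H := hfinI.to_subtype
    obtain ⟨y, hy⟩ : ∃ y, y = x (n + 1) := ⟨_, rfl⟩
    have y3 : y ^ 3 = 1 := hy ▸ h3 _ le_rfl
    have xH : ∀ i, i ≤ n → x i ∈ H := fun i hi => hH ▸ Subgroup.subset_closure ⟨i, hi, rfl⟩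
    have yinv : y⁻¹ = y * y := inv_eq_of_mul_eq_one_right (by rw [← mul_assoc, ← pow_two, ← pow_succ, y3])
    have xinv : ∀ i, i ≤ n → (x i)⁻¹ = x i * x i := fun i hi =>
      inv_eq_of_mul_eq_one_right (by rw [← mul_assoc, ← pow_two, ← pow_succ, h3 i (by omega)])
    have rel : ∀ k, k ≤ n → y * x k * y = (x k)⁻¹ := fun k hk => by
      refine eq_inv_of_mul_eq_one_left ?_
      rw [mul_assoc (y * x k), ← pow_two, hy]
      exact hp (n + 1) k le_rfl (by omega) (by omega)
    have rel' : ∀ k, k ≤ n → x k * y * x k = y⁻¹ := fun k hk => by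
      refine eq_inv_of_mul_eq_one_left ?_
      rw [mul_assoc (x k * y), ← pow_two, hy]
      exact hp k (n + 1) (by omega) le_rfl (by omega)
    obtain ⟨S, hS⟩ : ∃ S : Set Q, S = {q | q ∈ H ∨ q * y⁻¹ ∈ H ∨ q * (y * y)⁻¹ ∈ H ∨
      ∃ k ≤ n, q * (y * y * x k)⁻¹ ∈ H} := ⟨_, rfl⟩
    have mem0 : ∀ q ∈ H, q ∈ S := fun q hq => hS ▸ Or.inl hq
    have mem1 : ∀ h ∈ H, h * y ∈ S := fun h hh => hS ▸ Or.inr (Or.inl (by rwa [mul_inv_cancel_right]))
    have mem2 : ∀ h ∈ H, h * (y * y) ∈ S := fun h hh => hS ▸ Or.inr (Or.inr (Or.inl (by rwa [mul_inv_cancel_right])))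
    have mem3 : ∀ h ∈ H, ∀ k ≤ n, h * (y * y * x k) ∈ S := fun h hh k hk =>
      hS ▸ Or.inr (Or.inr (Or.inr ⟨k, hk, by rwa [mul_inv_cancel_right]⟩))
    have decomp : ∀ q ∈ S, q ∈ H ∨ (∃ h ∈ H, q = h * y) ∨ (∃ h ∈ H, q = h * (y * y)) ∨
        ∃ k ≤ n, ∃ h ∈ H, q = h * (y * y * x k) := by
      intro q hq
      rw [hS] at hq
      rcases hq with h | h | h | ⟨k, hk, h⟩
      · exact Or.inl h
      · exact Or.inr (Or.inl ⟨_, h, by rw [inv_mul_cancel_right]⟩)
      · exact Or.inr (Or.inr (Or.inl ⟨_, h, by rw [inv_mul_cancel_right]⟩))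
      · exact Or.inr (Or.inr (Or.inr ⟨k, hk, _, h, by rw [inv_mul_cancel_right]⟩))
    have ry : ∀ k, k ≤ n → y * x k = (x k)⁻¹ * y⁻¹ := fun k hk => by rw [← rel k hk, mul_inv_cancel_right]
    have ry' : ∀ k, k ≤ n → y⁻¹ * (x k)⁻¹ = x k * y := fun k hk => by rw [← rel' k hk, mul_inv_cancel_right]
    have ry'' : ∀ k, k ≤ n → y * (x k)⁻¹ = (x k)⁻¹ * (y * y * x k) := fun k hk => by
      rw [← yinv, ← mul_assoc, ← ry k hk, mul_assoc, ← xinv k hk]
    have step : ∀ q ∈ S, ∀ i, i ≤ n + 1 → q * x i ∈ S := by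
      intro q hq i hi
      rcases Nat.lt_or_ge i (n + 1) with hlt | hge
      · have hi' : i ≤ n := by omega
        rcases decomp q hq with h | ⟨h, hh, rfl⟩ | ⟨h, hh, rfl⟩ | ⟨k, hk, h, hh, rfl⟩
        · exact mem0 _ (H.mul_mem h (xH i hi'))
        · rw [mul_assoc h y, ry i hi', ← mul_assoc, yinv]
          exact mem2 _ (H.mul_mem hh (H.inv_mem (xH i hi')))
        · rw [mul_assoc]
          exact mem3 h hh i hi'
        · by_cases hki : k = i
          · subst hki
            rw [mul_assoc h, mul_assoc (y * y), ← xinv k hk, ← yinv, ry' k hk, ← mul_assoc]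
            exact mem1 _ (H.mul_mem hh (xH k hk))
          · have c : x k * x i = (x i)⁻¹ * (x k)⁻¹ := by
              rw [← mul_inv_rev]
              refine eq_inv_of_mul_eq_one_left ?_
              rw [← pow_two]
              exact hp k i (by omega) (by omega) hki
            have e : h * (y * y * x k) * x i = h * (x i * (x k)⁻¹) * (y * y * x k) := by
              rw [mul_assoc h (y * y * x k), mul_assoc (y * y) (x k), c, ← mul_assoc (y * y), ← yinv, ry' i hi',
                mul_assoc (x i) y, ry'' k hk, ← yinv]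
              simp only [mul_assoc]
            rw [e]
            exact mem3 _ (H.mul_mem hh (H.mul_mem (xH i hi') (H.inv_mem (xH k hk)))) k hk
      · have e : i = n + 1 := by omega
        rw [e, ← hy]
        rcases decomp q hq with h | ⟨h, hh, rfl⟩ | ⟨h, hh, rfl⟩ | ⟨k, hk, h, hh, rfl⟩
        · exact mem1 _ h
        · rw [mul_assoc]
          exact mem2 h hh
        · rw [mul_assoc, ← pow_two, ← pow_succ, y3, mul_one]
          exact mem0 h hh
        · have e : y * y * x k * y = (x k)⁻¹ * (y * y * x k) := by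
            rw [mul_assoc, mul_assoc y y, ← mul_assoc y (x k), rel k hk, ry'' k hk]
          rw [mul_assoc h, e, ← mul_assoc]
          exact mem3 _ (H.mul_mem hh (H.inv_mem (xH k hk))) k hk
    have hsub : (Subgroup.closure (x '' {i | i ≤ n + 1}) : Set Q) ⊆ S := by
      intro q hq
      induction hq using Subgroup.closure_induction_right with
      | one => exact mem0 1 H.one_mem
      | mul_right a hprev b hb ha =>
        obtain ⟨i, hi, rfl⟩ := hb
        exact step a ha i hi
      | mul_inv_cancel a hprev b hb ha =>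
        obtain ⟨i, hi, rfl⟩ := hb
        rw [inv_eq_of_mul_eq_one_right (b := x i * x i) (by rw [← mul_assoc, ← pow_two, ← pow_succ, h3 i hi]),
          ← mul_assoc]
        exact step _ (step a ha i hi) i hi
    classical
    obtain ⟨f, hf⟩ : ∃ f : (↥H ⊕ ↥H ⊕ ↥H ⊕ (Fin (n + 1) × ↥H)) → Q, f =
        Sum.elim (fun h : ↥H => (h : Q)) (Sum.elim (fun h : ↥H => (h : Q) * y) (Sum.elim (fun h : ↥H => (h : Q) * (y * y))
          (fun p : Fin (n + 1) × ↥H => (p.2 : Q) * (y * y * x p.1)))) := ⟨_, rfl⟩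
    have hcov : S ⊆ Set.range f := by
      intro q hq
      rw [hf]
      rcases decomp q hq with h | ⟨h, hh, rfl⟩ | ⟨h, hh, rfl⟩ | ⟨k, hk, h, hh, rfl⟩
      · exact ⟨Sum.inl ⟨q, h⟩, rfl⟩
      · exact ⟨Sum.inr (Sum.inl ⟨h, hh⟩), rfl⟩
      · exact ⟨Sum.inr (Sum.inr (Sum.inl ⟨h, hh⟩)), rfl⟩
      · exact ⟨Sum.inr (Sum.inr (Sum.inr (⟨k, by omega⟩, ⟨h, hh⟩))), rfl⟩
    have hfin : (Subgroup.closure (x '' {i | i ≤ n + 1}) : Set Q).Finite :=
      (Set.finite_range f).subset (hsub.trans hcov)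
    refine ⟨hfin, ?_⟩
    have hcard : Nat.card ↥(Subgroup.closure (x '' {i | i ≤ n + 1})) ≤ (n + 4) * Nat.card ↥H := by
      have h1 : Set.ncard (Subgroup.closure (x '' {i | i ≤ n + 1}) : Set Q) ≤ Set.ncard (Set.range f) :=
        Set.ncard_le_ncard (hsub.trans hcov) (Set.finite_range f)
      have h2 : Nat.card ↥(Set.range f) ≤ _ := Finite.card_range_le f
      rw [Nat.card_sum, Nat.card_sum, Nat.card_sum, Nat.card_prod, Nat.card_fin] at h2
      rw [← Nat.card_coe_set_eq, ← Nat.card_coe_set_eq] at h1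
      refine h1.trans (h2.trans (le_of_eq ?_))
      ring
    rw [show n + 1 + 3 = (n + 3) + 1 by omega, Nat.factorial_succ]
    calc 2 * Nat.card ↥(Subgroup.closure (x '' {i | i ≤ n + 1})) ≤ 2 * ((n + 4) * Nat.card ↥H) :=
          Nat.mul_le_mul_left 2 hcard
      _ = (n + 4) * (2 * Nat.card ↥H) := by ring
      _ ≤ (n + 3 + 1) * (n + 3).factorial := Nat.mul_le_mul (by omega) hI


theorem cyc_rot {a b c : Fin n} (hab : a ≠ b) (hbc : b ≠ c) (hac : a ≠ c) :
    cyc a b c hab hbc hac = cyc b c a hbc hac.symm hab.symm := by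
  refine ext_emb (ι := three a b c hab hbc hac) (fun i => ?_) (emb_supp _ _) ?_
  · obtain ⟨h1, h2, h3⟩ := cyc_apply hab hbc hac
    obtain ⟨k1, k2, k3⟩ := cyc_apply hbc hac.symm hab.symm
    fin_cases i
    · exact h1.trans k3.symm
    · exact h2.trans k1.symm
    · exact h3.trans k2.symm
  · refine (cyc_supp hbc hac.symm hab.symm).mono ?_
    rw [pts_three]
    intro x hx
    simp only [Finset.mem_insert, Finset.mem_singleton] at hx ⊢
    tauto

theorem cyc_inv {a b c : Fin n} (hab : a ≠ b) (hbc : b ≠ c) (hac : a ≠ c) :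
    (cyc a b c hab hbc hac)⁻¹ = cyc b a c hab.symm hac hbc := by
  refine inv_eq_of_mul_eq_one_right ?_
  refine ext_emb (ι := three a b c hab hbc hac) (fun i => ?_) (fun x hx => ?_) (fun _ _ => rfl)
  · obtain ⟨h1, h2, h3⟩ := cyc_apply hab hbc hac
    obtain ⟨k1, k2, k3⟩ := cyc_apply hab.symm hac hbc
    show (cyc a b c hab hbc hac : Perm (Fin n)) ((cyc b a c hab.symm hac hbc : Perm (Fin n)) _) = _
    fin_cases i
    · show (cyc a b c hab hbc hac : Perm (Fin n)) ((cyc b a c hab.symm hac hbc : Perm (Fin n)) a) = a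
      rw [k2, h3]
    · show (cyc a b c hab hbc hac : Perm (Fin n)) ((cyc b a c hab.symm hac hbc : Perm (Fin n)) b) = b
      rw [k1, h1]
    · show (cyc a b c hab hbc hac : Perm (Fin n)) ((cyc b a c hab.symm hac hbc : Perm (Fin n)) c) = c
      rw [k3, h2]
  · rw [pts_three] at hx
    show (cyc a b c hab hbc hac : Perm (Fin n)) ((cyc b a c hab.symm hac hbc : Perm (Fin n)) x) = x
    rw [cyc_supp hab.symm hac hbc x (by
      simp only [Finset.mem_insert, Finset.mem_singleton] at hx ⊢; tauto), cyc_supp hab hbc hac x hx]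

/-- A subgroup with one new three-cycle at every level is everything. -/
theorem eq_top_of_chain (H : Subgroup (A n))
    (h : ∀ j : Fin n, 2 ≤ j.val → ∃ (a b : Fin n) (hab : a ≠ b) (ha : a < j) (hb : b < j),
      cyc a b j hab hb.ne ha.ne ∈ H) : H = ⊤ := by
  have key : ∀ (j : Fin n) (a b : Fin n) (hab : a ≠ b) (ha : a < j) (hb : b < j),
      cyc a b j hab hb.ne ha.ne ∈ H := by
    intro j
    induction j using WellFoundedLT.induction with
    | ind j ih =>
      intro a b hab ha hb
      have hj : 2 ≤ j.val := by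
        have h1 := Fin.val_ne_of_ne hab
        have h2 : a.val < j.val := ha
        have h3 : b.val < j.val := hb
        omega
      obtain ⟨a0, b0, hab0, ha0, hb0, hm⟩ := h j hj
      let S : Finset (Fin n) := Finset.univ.filter (· < j)
      have hS : ∀ g : A n, Supp S g → g ∈ H := by
        intro g hg
        refine mem_of_supp H (fun ι hι => ?_) hg
        have hlt : ∀ i, ι i < j := fun i => by
          have := hι (mem_pts.2 ⟨i, rfl⟩)
          simpa [S] using this
        have e : ι = three (ι 0) (ι 1) (ι 2) (ι.injective.ne (by decide)) (ι.injective.ne (by decide))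
            (ι.injective.ne (by decide)) := by ext i; fin_cases i <;> rfl
        rw [e]
        show cyc (ι 0) (ι 1) (ι 2) _ _ _ ∈ H
        have n01 : ι 0 ≠ ι 1 := ι.injective.ne (by decide)
        have n12 : ι 1 ≠ ι 2 := ι.injective.ne (by decide)
        have n02 : ι 0 ≠ ι 2 := ι.injective.ne (by decide)
        rcases lt_trichotomy (ι 1) (ι 2) with h12 | h12 | h12
        · rcases lt_trichotomy (ι 0) (ι 2) with h02 | h02 | h02
          · exact ih _ (hlt 2) _ _ n01 h02 h12
          · exact absurd h02 n02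
          · rw [cyc_rot]; exact ih _ (hlt 0) _ _ n12 (h12.trans h02) h02
        · exact absurd h12 n12
        · rcases lt_trichotomy (ι 0) (ι 1) with h01 | h01 | h01
          · rw [cyc_rot, cyc_rot]; exact ih _ (hlt 1) _ _ n02.symm h12 h01
          · exact absurd h01 n01
          · rw [cyc_rot]; exact ih _ (hlt 0) _ _ n12 h01 (h12.trans h01)
      let σ : Perm (Fin n) := Equiv.swap (Equiv.swap a0 a b0) b * Equiv.swap a0 a
      have hmem : Equiv.swap a0 a b0 < j := by
        rcases eq_or_ne b0 a with he | he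
        · rw [he, Equiv.swap_apply_right]; exact ha0
        · rw [Equiv.swap_apply_of_ne_of_ne hab0.symm he]; exact hb0
      have hne : a ≠ Equiv.swap a0 a b0 := fun e => hab0 <| by
        have := congrArg (Equiv.swap a0 a) e
        rwa [Equiv.swap_apply_right, Equiv.swap_apply_self] at this
      have h1 : σ a0 = a := by
        show Equiv.swap _ b (Equiv.swap a0 a a0) = a
        rw [Equiv.swap_apply_left, Equiv.swap_apply_of_ne_of_ne hne hab]
      have h2 : σ b0 = b := Equiv.swap_apply_left _ _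
      have hfix : ∀ x, x ∉ S → σ x = x := by
        intro x hx
        have hx' : ¬ x < j := by simpa [S] using hx
        have e : ∀ y, y < j → x ≠ y := fun y hy e => hx' (e ▸ hy)
        show Equiv.swap _ b (Equiv.swap a0 a x) = x
        rw [Equiv.swap_apply_of_ne_of_ne (e _ ha0) (e _ ha), Equiv.swap_apply_of_ne_of_ne (e _ hmem) (e _ hb)]
      have hjS : j ∉ S := by simp [S]
      by_cases hs : Perm.sign σ = 1
      · let g : A n := ⟨σ, Perm.mem_alternatingGroup.2 hs⟩
        have hg : g ∈ H := hS g hfix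
        have := H.mul_mem (H.mul_mem hg hm) (H.inv_mem hg)
        rw [conj_cyc] at this
        convert this using 2
        · exact h1.symm
        · exact h2.symm
        · exact (hfix j hjS).symm
      · have hs' : Perm.sign (Equiv.swap a b * σ) = 1 := by
          rw [map_mul, Perm.sign_swap hab, (Int.units_eq_one_or _).resolve_left hs]; rfl
        let g : A n := ⟨Equiv.swap a b * σ, Perm.mem_alternatingGroup.2 hs'⟩
        have hgS : Supp S g := fun x hx => by
          have hx' : ¬ x < j := by simpa [S] using hx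
          show Equiv.swap a b (σ x) = x
          rw [hfix x hx, Equiv.swap_apply_of_ne_of_ne (by rintro rfl; exact hx' ha) (by rintro rfl; exact hx' hb)]
        have hg : g ∈ H := hS g hgS
        have := H.mul_mem (H.mul_mem hg hm) (H.inv_mem hg)
        rw [conj_cyc] at this
        have hba : cyc b a j hab.symm ha.ne hb.ne ∈ H := by
          convert this using 2
          · show b = Equiv.swap a b (σ a0); rw [h1, Equiv.swap_apply_left]
          · show a = Equiv.swap a b (σ b0); rw [h2, Equiv.swap_apply_right]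
          · exact (hgS j hjS).symm
        have := H.inv_mem hba
        rwa [cyc_inv] at this
  refine eq_top_of_cyc H fun a b c hab hbc hac => ?_
  rcases lt_trichotomy b c with h12 | h12 | h12
  · rcases lt_trichotomy a c with h02 | h02 | h02
    · exact key _ _ _ hab h02 h12
    · exact absurd h02 hac
    · rw [cyc_rot]; exact key _ _ _ hbc (h12.trans h02) h02
  · exact absurd h12 hbc
  · rcases lt_trichotomy a b with h01 | h01 | h01
    · rw [cyc_rot, cyc_rot]; exact key _ _ _ hac.symm h12 h01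
    · exact absurd h01 hab
    · rw [cyc_rot]; exact key _ _ _ hbc h01 (h12.trans h01)

theorem two_gen (n : ℕ) : ∃ g₁ g₂ : A n, Subgroup.closure ({g₁, g₂} : Set (A n)) = ⊤ := by
  rcases Nat.lt_or_ge n 3 with hn | hn
  · exact ⟨1, 1, eq_top_of_chain _ fun j hj => absurd j.2 (by omega)⟩
  obtain ⟨c, hc⟩ : ∃ c : A n, ∀ i (h : i + 1 < n),
      ((c : Perm (Fin n)) ⟨i, by omega⟩).val ≤ i + 1 ∧
        (1 ≤ i → ((c : Perm (Fin n)) ⟨i, by omega⟩).val = i + 1) := by
    obtain ⟨m, rfl⟩ : ∃ m, n = m + 1 := ⟨n - 1, by omega⟩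
    rcases Nat.even_or_odd m with hm | hm
    · have hs : Perm.sign (finRotate (m + 1)) = 1 := by
        rw [sign_finRotate]; simpa using hm.neg_one_pow
      refine ⟨⟨finRotate (m + 1), Perm.mem_alternatingGroup.2 hs⟩, fun i h => ?_⟩
      have e : (finRotate (m + 1) ⟨i, by omega⟩).val = i + 1 := by
        rw [coe_finRotate_of_ne_last (by simp [Fin.ext_iff]; omega)]
      exact ⟨e.le, fun _ => e⟩
    · obtain ⟨l, rfl⟩ : ∃ l, m = l + 1 := ⟨m - 1, by omega⟩
      have hl : Even l := by
        obtain ⟨t, ht⟩ := hm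
        exact ⟨t, by omega⟩
      have hs : Perm.sign (finRotate (l + 1)) = 1 := by
        rw [sign_finRotate]; simpa using hl.neg_one_pow
      let ι : Fin (l + 1) ↪ Fin (l + 1 + 1) := Fin.succEmb _
      refine ⟨emb ι ⟨finRotate (l + 1), Perm.mem_alternatingGroup.2 hs⟩, fun i h => ?_⟩
      rcases Nat.eq_zero_or_pos i with rfl | hi
      · rw [emb_supp ι _ _ fun hh => ?_]
        · exact ⟨Nat.zero_le _, fun h => absurd h (by omega)⟩
        · obtain ⟨u, hu⟩ := mem_pts.1 hh
          exact absurd (congrArg Fin.val hu) (by simp [ι])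
      · have e0 : (⟨i, by omega⟩ : Fin (l + 1 + 1)) = ι ⟨i - 1, by omega⟩ := by
          simp [ι, Fin.ext_iff]; omega
        have e : ((emb ι ⟨finRotate (l + 1), Perm.mem_alternatingGroup.2 hs⟩ : Perm (Fin (l + 1 + 1)))
            ⟨i, by omega⟩).val = i + 1 := by
          rw [e0, emb_apply]
          show (Fin.succ (finRotate (l + 1) ⟨i - 1, by omega⟩)).val = i + 1
          rw [Fin.val_succ, coe_finRotate_of_ne_last (by simp [Fin.ext_iff]; omega)]
          simp only
          omega
        exact ⟨e.le, fun _ => e⟩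
  refine ⟨cyc ⟨0, by omega⟩ ⟨1, by omega⟩ ⟨2, by omega⟩ (by simp) (by simp) (by simp), c,
    eq_top_of_chain _ fun j hj => ?_⟩
  obtain ⟨k, hk⟩ : ∃ k, j.val = k + 2 := ⟨j.val - 2, by omega⟩
  have main : ∀ k, k + 2 < n → (((c ^ k : A n) : Perm (Fin n)) ⟨0, by omega⟩).val ≤ k ∧
      (((c ^ k : A n) : Perm (Fin n)) ⟨1, by omega⟩).val = k + 1 ∧
      (((c ^ k : A n) : Perm (Fin n)) ⟨2, by omega⟩).val = k + 2 := by
    intro k
    induction k with
    | zero => intro _; simp
    | succ k ih =>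
      intro hk
      obtain ⟨h0, h1, h2⟩ := ih (by omega)
      have e : ∀ x : Fin n, ((c ^ (k + 1) : A n) : Perm (Fin n)) x =
          (c : Perm (Fin n)) (((c ^ k : A n) : Perm (Fin n)) x) := fun x => by
        rw [pow_succ']; rfl
      refine ⟨?_, ?_, ?_⟩
      · rw [e]
        have := (hc _ (show (((c ^ k : A n) : Perm (Fin n)) ⟨0, by omega⟩).val + 1 < n by omega)).1
        exact le_trans this (by omega)
      · rw [e]
        have := (hc _ (show (((c ^ k : A n) : Perm (Fin n)) ⟨1, by omega⟩).val + 1 < n by omega)).2 (by omega)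
        exact this.trans (by omega)
      · rw [e]
        have := (hc _ (show (((c ^ k : A n) : Perm (Fin n)) ⟨2, by omega⟩).val + 1 < n by omega)).2 (by omega)
        exact this.trans (by omega)
  obtain ⟨m0, m1, m2⟩ := main k (by omega)
  set a := ((c ^ k : A n) : Perm (Fin n)) ⟨0, by omega⟩
  set b := ((c ^ k : A n) : Perm (Fin n)) ⟨1, by omega⟩
  have hab : a ≠ b := fun e => by rw [e] at m0; omega
  refine ⟨a, b, hab, show a.val < j.val by omega, show b.val < j.val by omega, ?_⟩
  have ej : ((c ^ k : A n) : Perm (Fin n)) ⟨2, by omega⟩ = j := Fin.ext (by omega)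
  have hK : ∀ x : A n, x ∈ ({cyc (⟨0, by omega⟩ : Fin n) ⟨1, by omega⟩ ⟨2, by omega⟩ (by simp) (by simp) (by simp), c} : Set (A n)) →
      x ∈ Subgroup.closure ({cyc (⟨0, by omega⟩ : Fin n) ⟨1, by omega⟩ ⟨2, by omega⟩ (by simp) (by simp) (by simp), c} : Set (A n)) :=
    fun x hx => Subgroup.subset_closure hx
  have := Subgroup.mul_mem _ (Subgroup.mul_mem _ (Subgroup.pow_mem _ (hK c (Or.inr rfl)) k)
    (hK _ (Or.inl rfl))) (Subgroup.inv_mem _ (Subgroup.pow_mem _ (hK c (Or.inr rfl)) k))
  rw [conj_cyc] at this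
  convert this using 2
  exact ej.symm

/-- Two generators of the even permutations of a set of points. -/
theorem two_gen_supp (S : Finset (Fin n)) : ∃ g₁ g₂ : A n, Supp S g₁ ∧ Supp S g₂ ∧
    ∀ g, Supp S g → g ∈ Subgroup.closure ({g₁, g₂} : Set (A n)) := by
  obtain ⟨ι, hι⟩ := exists_pts_eq (S := S) rfl
  obtain ⟨h₁, h₂, hh⟩ := two_gen S.card
  refine ⟨emb ι h₁, emb ι h₂, (emb_supp ι h₁).mono hι.le, (emb_supp ι h₂).mono hι.le, fun g hg => ?_⟩
  obtain ⟨y, rfl⟩ := mem_range_of_supp ι (g := g) (hι.symm ▸ hg)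
  have hy : y ∈ Subgroup.closure ({h₁, h₂} : Set (A S.card)) := hh ▸ Subgroup.mem_top y
  have := Subgroup.mem_map_of_mem (emb ι) hy
  rwa [MonoidHom.map_closure, Set.image_pair] at this

/-- The `i`-th standard three-cycle. -/
noncomputable def gcyc (k : ℕ) (i : Fin k) : A (k + 2) :=
  cyc ⟨0, by omega⟩ ⟨1, by omega⟩ ⟨i.val + 2, by omega⟩ (by simp) (by simp [Fin.ext_iff]) (by simp [Fin.ext_iff])

theorem gcyc_top (k : ℕ) : Subgroup.closure (Set.range (gcyc k)) = ⊤ := by
  refine eq_top_of_chain _ fun j hj => ⟨⟨0, by omega⟩, ⟨1, by omega⟩, by simp,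
    show 0 < j.val by omega, show 1 < j.val by omega, Subgroup.subset_closure ⟨⟨j.val - 2, by omega⟩, ?_⟩⟩
  have e : (⟨j.val - 2 + 2, by omega⟩ : Fin (k + 2)) = j := Fin.ext (show j.val - 2 + 2 = j.val by omega)
  simp only [gcyc]
  congr 1

theorem gcyc_rels (k : ℕ) : (∀ i, gcyc k i ^ 3 = 1) ∧
    ∀ i j, i ≠ j → (gcyc k i * gcyc k j) ^ 2 = 1 := by
  refine ⟨fun i => ?_, fun i j hij => ?_⟩
  · simp only [gcyc, cyc]; rw [← map_pow, show a3 ^ 3 = 1 from Subtype.ext (by decide), map_one]
  · let P : Fin 4 ↪ Fin (k + 2) := ⟨![⟨0, by omega⟩, ⟨1, by omega⟩, ⟨i.val + 2, by omega⟩, ⟨j.val + 2, by omega⟩],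
      fun u v h => by
        have hij' := Fin.val_ne_of_ne hij
        fin_cases u <;> fin_cases v <;> simp_all [Fin.ext_iff] <;> omega⟩
    have e1 : gcyc k i = emb P (cyc 0 1 2 (by decide) (by decide) (by decide)) := by
      simp only [gcyc, cyc]; rw [emb_trans]; congr 2; ext u; fin_cases u <;> rfl
    have e2 : gcyc k j = emb P (cyc 0 1 3 (by decide) (by decide) (by decide)) := by
      simp only [gcyc, cyc]; rw [emb_trans]; congr 2; ext u; fin_cases u <;> rfl
    rw [e1, e2, ← map_mul, ← map_pow]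
    have : (cyc (0 : Fin 4) 1 2 (by decide) (by decide) (by decide) *
        cyc (0 : Fin 4) 1 3 (by decide) (by decide) (by decide)) ^ 2 = 1 := by
      refine Subtype.ext (Equiv.ext fun x => ?_)
      obtain ⟨a1, a2, a3⟩ := cyc_apply (a := (0 : Fin 4)) (b := 1) (c := 2) (by decide) (by decide) (by decide)
      obtain ⟨b1, b2, b3⟩ := cyc_apply (a := (0 : Fin 4)) (b := 1) (c := 3) (by decide) (by decide) (by decide)
      have a4 := cyc_supp (a := (0 : Fin 4)) (b := 1) (c := 2) (by decide) (by decide) (by decide) 3 (by decide)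
      have b4 := cyc_supp (a := (0 : Fin 4)) (b := 1) (c := 3) (by decide) (by decide) (by decide) 2 (by decide)
      rw [pow_two]
      simp only [Subgroup.coe_mul, Perm.mul_apply, Subgroup.coe_one, Perm.one_apply]
      fin_cases x
      all_goals simp only [Fin.zero_eta, Fin.mk_one, Fin.reduceFinMk, a1, a2, a3, a4, b1, b2, b3, b4]
    rw [this, map_one]

/-- Carmichael's relators. -/
def crels (k : ℕ) : Set (FreeGroup (Fin k)) := {g | (∃ i, g = FreeGroup.of i ^ 3) ∨
  ∃ i j, i ≠ j ∧ g = (FreeGroup.of i * FreeGroup.of j) ^ 2}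

theorem lift_crels {k : ℕ} {K : Type*} [Group K] (w : Fin k → K) (w3 : ∀ i, w i ^ 3 = 1)
    (w2 : ∀ i j, i ≠ j → (w i * w j) ^ 2 = 1) : ∀ r ∈ crels k, FreeGroup.lift w r = 1 := by
  intro r hr
  rcases hr with ⟨i, rfl⟩ | ⟨i, j, hij, rfl⟩
  · simp [w3]
  · simp [w2 i j hij]

/-- Carmichael's presentation. -/
theorem carmichael_hom (k : ℕ) (hk : 1 ≤ k) {H : Type*} [Group H] (v : Fin k → H)
    (h3 : ∀ i, v i ^ 3 = 1) (h2 : ∀ i j, i ≠ j → (v i * v j) ^ 2 = 1) :
    ∃ θ : A (k + 2) →* H, ∀ i, θ (gcyc k i) = v i := by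
  let R := crels k
  obtain ⟨g3, g2⟩ := gcyc_rels k
  let π := PresentedGroup.toGroup (lift_crels _ g3 g2)
  let x : ℕ → PresentedGroup R := fun i => if h : i < k then PresentedGroup.of ⟨i, h⟩ else 1
  obtain ⟨hfin, hcard⟩ := carmichael_finite x (k - 1) (fun i hi => by
      rw [show x i = PresentedGroup.of (⟨i, by omega⟩ : Fin k) from dif_pos (by omega)]
      exact PresentedGroup.one_of_mem (Or.inl ⟨⟨i, by omega⟩, rfl⟩))
    (fun i j hi hj hij => by
      rw [show x i = PresentedGroup.of (⟨i, by omega⟩ : Fin k) from dif_pos (by omega),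
        show x j = PresentedGroup.of (⟨j, by omega⟩ : Fin k) from dif_pos (by omega)]
      exact PresentedGroup.one_of_mem (Or.inr ⟨⟨i, by omega⟩, ⟨j, by omega⟩, by simp [Fin.ext_iff, hij], rfl⟩))
  have htop : Subgroup.closure (x '' {i | i ≤ k - 1}) = ⊤ := by
    rw [eq_top_iff, ← PresentedGroup.closure_range_of R, Subgroup.closure_le]
    rintro _ ⟨i, rfl⟩
    refine Subgroup.subset_closure ⟨i.val, show i.val ≤ k - 1 by omega, ?_⟩
    exact dif_pos i.2
  rw [htop] at hfin hcard
  haveI : Finite (PresentedGroup R) := by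
    have := Set.finite_univ_iff.1 (by simpa using hfin)
    exact this
  have hsurj : Function.Surjective π := by
    rw [← MonoidHom.range_eq_top, eq_top_iff, ← gcyc_top, Subgroup.closure_le]
    rintro _ ⟨i, rfl⟩
    exact ⟨PresentedGroup.of i, PresentedGroup.toGroup.of _⟩
  have hA : 2 * Nat.card (A (k + 2)) = (k + 2).factorial := by
    haveI : Nontrivial (Fin (k + 2)) := Fin.nontrivial_iff_two_le.2 (by omega)
    rw [Nat.card_eq_fintype_card]
    exact two_mul_card_alternatingGroup.trans (by rw [Fintype.card_perm, Fintype.card_fin])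
  have hle : Nat.card (PresentedGroup R) ≤ Nat.card (A (k + 2)) := by
    rw [Subgroup.card_top, show k - 1 + 3 = k + 2 by omega, ← hA] at hcard
    omega
  have hbij : Function.Bijective π := (Nat.bijective_iff_surjective_and_card _).2
    ⟨hsurj, le_antisymm hle (Nat.card_le_card_of_surjective _ hsurj)⟩
  refine ⟨(PresentedGroup.toGroup (lift_crels v h3 h2)).comp (MulEquiv.ofBijective π hbij).symm.toMonoidHom,
    fun i => ?_⟩
  have : (MulEquiv.ofBijective π hbij).symm (gcyc k i) = PresentedGroup.of i := by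
    rw [MulEquiv.symm_apply_eq]
    exact (PresentedGroup.toGroup.of (lift_crels _ g3 g2)).symm
  show PresentedGroup.toGroup (lift_crels v h3 h2) ((MulEquiv.ofBijective π hbij).symm (gcyc k i)) = v i
  rw [this, PresentedGroup.toGroup.of]

end Cfsg.Agent.Small.BoundedPres
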