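import Mathlib

/-!
Groups with presentations on boundedly many relations.
-/

set_option autoImplicit false

namespace Cfsg.Agent.Small.BoundedPres

open Subgroup

variable {G : Type*} [Group G]

/-- A finite set of generators and at most `r` relations. -/
def Pres (G : Type*) [Group G] (r : ℕ) : Prop :=
  ∃ g : ℕ, ∃ rels : Finset (FreeGroup (Fin g)), rels.card ≤ r ∧
    Nonempty (PresentedGroup (↑rels : Set (FreeGroup (Fin g))) ≃* G)

theorem Pres.congr {G' : Type*} [Group G'] {r : ℕ} (h : Pres G r) (e : G ≃* G') : Pres G' r := by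
  obtain ⟨g, rels, hc, ⟨e'⟩⟩ := h
  exact ⟨g, rels, hc, ⟨e'.trans e⟩⟩

theorem Pres.mono {r r' : ℕ} (h : Pres G r) (hr : r ≤ r') : Pres G r' := by
  obtain ⟨g, rels, hc, e⟩ := h
  exact ⟨g, rels, hc.trans hr, e⟩

/-- Relations satisfied by generators, with a homomorphism back, present the group. -/
theorem Pres.of_inv {ι : Type} [Fintype ι] (rels : Finset (FreeGroup ι)) (f : ι → G)
    (hf : ∀ r ∈ rels, FreeGroup.lift f r = 1)
    (θ : G →* PresentedGroup (↑rels : Set (FreeGroup ι)))
    (hθ : ∀ i, θ (f i) = PresentedGroup.of i) (hgen : closure (Set.range f) = ⊤) :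
    Pres G rels.card := by
  classical
  let π := PresentedGroup.toGroup (f := f) (rels := (↑rels : Set (FreeGroup ι)))
    (fun r hr => hf r (Finset.mem_coe.mp hr))
  have h1 : θ.comp π = MonoidHom.id _ := PresentedGroup.ext fun i => by
    simp [π, hθ]
  have h2 : π.comp θ = MonoidHom.id G := MonoidHom.eq_of_eqOn_dense hgen (by
    rintro _ ⟨i, rfl⟩
    simp [π, hθ])
  let e0 : PresentedGroup (↑rels : Set (FreeGroup ι)) ≃* G := π.toMulEquiv θ h1 h2
  let σ := Fintype.equivFin ι
  let Φ := FreeGroup.freeGroupCongr σ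
  refine ⟨Fintype.card ι, rels.image Φ, Finset.card_image_le, ⟨?_⟩⟩
  have e1 : PresentedGroup (↑(rels.image Φ) : Set (FreeGroup (Fin (Fintype.card ι)))) ≃*
      PresentedGroup (↑rels : Set (FreeGroup ι)) := by
    rw [Finset.coe_image]
    exact (PresentedGroup.equivPresentedGroup _ σ).symm
  exact e1.trans e0

/-- Using a presentation: homomorphisms are the same as tuples satisfying the relations. -/
theorem Pres.exists_hom {r : ℕ} (h : Pres G r) :
    ∃ g : ℕ, ∃ rels : Finset (FreeGroup (Fin g)), ∃ q : FreeGroup (Fin g) →* G,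
      rels.card ≤ r ∧ Function.Surjective q ∧ (∀ w ∈ rels, q w = 1) ∧
      ∀ {H : Type} [Group H] (ψ : FreeGroup (Fin g) →* H), (∀ w ∈ rels, ψ w = 1) →
        ∃ φ : G →* H, ∀ w, φ (q w) = ψ w := by
  obtain ⟨g, rels, hc, ⟨e⟩⟩ := h
  refine ⟨g, rels, e.toMonoidHom.comp (PresentedGroup.mk _), hc,
    e.surjective.comp (PresentedGroup.mk_surjective _), fun w hw => ?_, ?_⟩
  · show e (PresentedGroup.mk _ w) = 1
    rw [PresentedGroup.one_of_mem (Finset.mem_coe.mpr hw), map_one]
  · intro H _ ψ hψ
    let j := PresentedGroup.toGroup (f := fun i => ψ (FreeGroup.of i))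
      (rels := (↑rels : Set (FreeGroup (Fin g)))) (fun w hw => by
        rw [show FreeGroup.lift (fun i => ψ (FreeGroup.of i)) = ψ from
          FreeGroup.ext_hom _ _ fun i => by simp]
        exact hψ w (Finset.mem_coe.mp hw))
    refine ⟨j.comp e.symm.toMonoidHom, fun w => ?_⟩
    show j (e.symm (e (PresentedGroup.mk _ w))) = ψ w
    rw [e.symm_apply_apply]
    exact DFunLike.congr_fun (FreeGroup.ext_hom (j.comp (PresentedGroup.mk _)) ψ fun i => by
      show j (PresentedGroup.of i) = _
      simp [j]) w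

/-- One more relation presents a quotient by the normal closure of an element. -/
theorem Pres.quotient {r : ℕ} (h : Pres G r) (z : G) (N : Subgroup G) [N.Normal]
    (hN : Subgroup.normalClosure {z} = N) : Pres (G ⧸ N) (r + 1) := by
  classical
  obtain ⟨g, rels, q, hc, hq, hrel, huniv⟩ := h.exists_hom
  obtain ⟨w, hw⟩ := hq z
  have hf : ∀ v, FreeGroup.lift (fun i => (QuotientGroup.mk (q (FreeGroup.of i)) : G ⧸ N)) v =
      QuotientGroup.mk' N (q v) := fun v => DFunLike.congr_fun
    (FreeGroup.ext_hom (FreeGroup.lift _) ((QuotientGroup.mk' N).comp q) fun i => by simp) v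
  set R := insert w rels with hR
  obtain ⟨φ, hφ⟩ := huniv (PresentedGroup.mk (↑R : Set (FreeGroup (Fin g))))
    fun v hv => PresentedGroup.one_of_mem (by simp [hR, hv])
  have hle : N ≤ φ.ker := by
    rw [← hN]
    refine Subgroup.normalClosure_le_normal ?_
    intro x (hx : x = z)
    show φ x = 1
    rw [hx, ← hw, hφ]
    exact PresentedGroup.one_of_mem (by simp [hR])
  refine (Pres.of_inv R (fun i => (QuotientGroup.mk (q (FreeGroup.of i)) : G ⧸ N)) ?_
    (QuotientGroup.lift N φ hle) (fun i => ?_) ?_).mono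
      ((Finset.card_insert_le _ _).trans (Nat.add_le_add_right hc 1))
  · intro v hv
    rw [hf]
    rcases Finset.mem_insert.mp hv with rfl | hv
    · rw [hw, QuotientGroup.mk'_apply, QuotientGroup.eq_one_iff, ← hN]
      exact Subgroup.subset_normalClosure rfl
    · rw [hrel v hv, map_one]
  · show φ (q (FreeGroup.of i)) = _
    rw [hφ]; rfl
  · rw [eq_top_iff]
    intro x _
    obtain ⟨y, rfl⟩ := QuotientGroup.mk'_surjective N x
    obtain ⟨v, rfl⟩ := hq y
    rw [← hf, ← FreeGroup.range_lift_eq_closure]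
    exact ⟨v, rfl⟩

/-- A two-generated group needs only two generators and two more relations. -/
theorem Pres.two_gen {r : ℕ} (h : Pres G r) (a b : G) (hab : closure ({a, b} : Set G) = ⊤) :
    ∃ rels : Finset (FreeGroup (Fin 2)), rels.card ≤ r + 2 ∧
      Nonempty (PresentedGroup (↑rels : Set (FreeGroup (Fin 2))) ≃* G) := by
  classical
  obtain ⟨g, rels, q, hc, hq, hrel, huniv⟩ := h.exists_hom
  let f : Fin 2 → G := ![a, b]
  have hfs : Function.Surjective (FreeGroup.lift f) := by
    rw [← MonoidHom.range_eq_top, FreeGroup.range_lift_eq_closure, eq_top_iff, ← hab]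
    refine closure_mono ?_
    rintro x (rfl | rfl)
    · exact ⟨0, rfl⟩
    · exact ⟨1, rfl⟩
  choose s hs using fun i : Fin g => hfs (q (FreeGroup.of i))
  let θ : FreeGroup (Fin g) →* FreeGroup (Fin 2) := FreeGroup.lift s
  have hθ : ∀ v, FreeGroup.lift f (θ v) = q v := fun v => DFunLike.congr_fun
    (FreeGroup.ext_hom ((FreeGroup.lift f).comp θ) q fun i => by simp [θ, hs]) v
  choose wd hwd using fun i : Fin 2 => hq (f i)
  let R : Finset (FreeGroup (Fin 2)) :=
    rels.image θ ∪ Finset.univ.image (fun i => θ (wd i) * (FreeGroup.of i)⁻¹)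
  have hR : ∀ v ∈ (↑R : Set (FreeGroup (Fin 2))), FreeGroup.lift f v = 1 := by
    intro v hv
    rcases Finset.mem_union.mp (Finset.mem_coe.mp hv) with hv | hv
    · obtain ⟨u, hu, rfl⟩ := Finset.mem_image.mp hv
      rw [hθ, hrel u hu]
    · obtain ⟨i, -, rfl⟩ := Finset.mem_image.mp hv
      rw [map_mul, map_inv, hθ, hwd, FreeGroup.lift_apply_of, mul_inv_cancel]
  set m := PresentedGroup.mk (↑R : Set (FreeGroup (Fin 2)))
  obtain ⟨φ, hφ⟩ := huniv (m.comp θ) fun u hu => PresentedGroup.one_of_mem
    (Finset.mem_coe.mpr (Finset.mem_union_left _ (Finset.mem_image_of_mem _ hu)))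
  let π := PresentedGroup.toGroup hR
  refine ⟨R, ?_, ⟨MulEquiv.ofBijective π ⟨?_, ?_⟩⟩⟩
  · refine (Finset.card_union_le _ _).trans (Nat.add_le_add (Finset.card_image_le.trans hc) ?_)
    exact Finset.card_image_le.trans (by simp)
  · have : φ.comp π = MonoidHom.id _ := PresentedGroup.ext fun i => by
      show φ (π (PresentedGroup.of i)) = PresentedGroup.of i
      simp only [π, PresentedGroup.toGroup.of]
      rw [← hwd i, hφ]
      show m (θ (wd i)) = m (FreeGroup.of i)
      rw [← mul_inv_eq_one, ← map_inv, ← map_mul]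
      exact PresentedGroup.one_of_mem
        (Finset.mem_coe.mpr (Finset.mem_union_right _ (Finset.mem_image_of_mem (s := Finset.univ) _ (Finset.mem_univ i))))
    exact Function.LeftInverse.injective (g := φ) fun x => DFunLike.congr_fun this x
  · intro x
    obtain ⟨v, rfl⟩ := hfs x
    exact ⟨m v, rfl⟩

end Cfsg.Agent.Small.BoundedPres
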