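import Mathlib
import Cfsg.Agent.Lib.Small.BoundedPres.Basic
import Cfsg.Agent.Lib.Small.BoundedPres.Alt

/-!
Alternating groups of every degree have presentations with boundedly many relations.
-/

set_option autoImplicit false
set_option linter.style.haveILetI false

namespace Cfsg.Agent.Small.BoundedPres

open Cfsg.Agent.Small.AltDeg Equiv Subgroup

theorem lift_comp_gen {ι κ G : Type*} [Group G] (f : κ → G) (g : ι → FreeGroup κ) (v : FreeGroup ι) :
    FreeGroup.lift f (FreeGroup.lift g v) = FreeGroup.lift (fun i => FreeGroup.lift f (g i)) v :=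
  DFunLike.congr_fun (FreeGroup.ext_hom ((FreeGroup.lift f).comp (FreeGroup.lift g))
    (FreeGroup.lift fun i => FreeGroup.lift f (g i)) fun i => by simp) v

/-- Carmichael's relations for a fixed small degree. -/
theorem pres_small (k : ℕ) (hk : 1 ≤ k) : Pres (A (k + 2)) (k + k * k) := by
  classical
  obtain ⟨g3, g2⟩ := gcyc_rels k
  let R : Finset (FreeGroup (Fin k)) := Finset.univ.image (fun i => FreeGroup.of i ^ 3) ∪
    Finset.univ.image (fun p : Fin k × Fin k =>
      if p.1 = p.2 then 1 else (FreeGroup.of p.1 * FreeGroup.of p.2) ^ 2)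
  set m := PresentedGroup.mk (↑R : Set (FreeGroup (Fin k)))
  obtain ⟨θ, hθ⟩ := carmichael_hom k hk (fun i => (PresentedGroup.of i : PresentedGroup (↑R : Set (FreeGroup (Fin k)))))
    (fun i => by
      have h : FreeGroup.of i ^ 3 ∈ R :=
        Finset.mem_union_left _ (Finset.mem_image_of_mem (s := Finset.univ) _ (Finset.mem_univ i))
      exact (map_pow m (FreeGroup.of i) 3).symm.trans (PresentedGroup.one_of_mem (Finset.mem_coe.mpr h)))
    (fun i j hij => by
      have h : (FreeGroup.of i * FreeGroup.of j) ^ 2 ∈ R := by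
        have := Finset.mem_image_of_mem (s := Finset.univ) (fun p : Fin k × Fin k =>
          if p.1 = p.2 then 1 else (FreeGroup.of p.1 * FreeGroup.of p.2) ^ 2) (Finset.mem_univ (i, j))
        exact Finset.mem_union_right _ (by simpa [hij] using this)
      exact (by rw [map_pow, map_mul]; rfl : m ((FreeGroup.of i * FreeGroup.of j) ^ 2) = _).symm.trans
        (PresentedGroup.one_of_mem (Finset.mem_coe.mpr h)))
  refine (Pres.of_inv R (gcyc k) (fun r hr => ?_) θ hθ (gcyc_top k)).mono ?_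
  · rcases Finset.mem_union.mp hr with hr | hr
    · obtain ⟨i, -, rfl⟩ := Finset.mem_image.mp hr
      rw [map_pow, FreeGroup.lift_apply_of, g3]
    · obtain ⟨⟨i, j⟩, -, rfl⟩ := Finset.mem_image.mp hr
      split_ifs with h
      · exact map_one _
      · rw [map_pow, map_mul, FreeGroup.lift_apply_of, FreeGroup.lift_apply_of, g2 i j h]
  · exact (Finset.card_union_le _ _).trans (Nat.add_le_add (Finset.card_image_le.trans (by simp))
      (Finset.card_image_le.trans (by simp)))

theorem conj_gcyc {k : ℕ} (g : A (k + 2)) (i i' : Fin k)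
    (h0 : (g : Perm (Fin (k + 2))) ⟨0, by omega⟩ = ⟨0, by omega⟩)
    (h1 : (g : Perm (Fin (k + 2))) ⟨1, by omega⟩ = ⟨1, by omega⟩)
    (h2 : (g : Perm (Fin (k + 2))) ⟨i.val + 2, by omega⟩ = ⟨i'.val + 2, by omega⟩) :
    g * gcyc k i * g⁻¹ = gcyc k i' := by
  refine (conj_cyc g _ _ _).trans ?_
  show cyc _ _ _ _ _ _ = cyc _ _ _ _ _ _
  congr 1

section Affine

variable (p : ℕ) [Fact p.Prime]

/-- Index of a residue. -/
def ix (c : ZMod p) : Fin p := ⟨c.val, ZMod.val_lt c⟩

/-- The three-cycles indexed by residues. -/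
noncomputable def zc (c : ZMod p) : A (p + 2) := gcyc p (ix p c)

/-- The shifted points. -/
def shift2 : Fin p ↪ Fin (p + 2) := ⟨fun i => ⟨i.val + 2, by omega⟩, fun i j h => by
  simpa [Fin.ext_iff] using h⟩

/-- Residues as indices. -/
def ixEquiv : ZMod p ≃ Fin p where
  toFun := ix p
  invFun i := (i.val : ZMod p)
  left_inv c := ZMod.natCast_zmod_val c
  right_inv i := Fin.ext (ZMod.val_cast_of_lt i.2)

/-- Even permutations of the residues acting on the shifted points. -/
noncomputable def lp : ↥(alternatingGroup (ZMod p)) →* A (p + 2) :=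
  (emb (shift2 p)).comp (((ixEquiv p).permCongrHom.toMonoidHom.comp
    (alternatingGroup (ZMod p)).subtype).codRestrict _ fun x => by
      rw [Perm.mem_alternatingGroup]
      show Perm.sign ((ixEquiv p).permCongr (x : Perm (ZMod p))) = 1
      rw [Perm.sign_permCongr]
      exact Perm.mem_alternatingGroup.1 x.2)

theorem lp_zc (σ : ↥(alternatingGroup (ZMod p))) (c : ZMod p) :
    lp p σ * zc p c * (lp p σ)⁻¹ = zc p ((σ : Perm (ZMod p)) c) := by
  have hfix : ∀ (t : ℕ) (ht : t < 2), (lp p σ : Perm (Fin (p + 2))) ⟨t, by omega⟩ = ⟨t, by omega⟩ := by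
    intro t ht
    refine emb_supp (shift2 p) _ _ fun h => ?_
    obtain ⟨i, hi⟩ := mem_pts.1 h
    have : i.val + 2 = t := congrArg Fin.val hi
    omega
  refine conj_gcyc _ _ _ ?_ ?_ ?_
  · exact hfix 0 two_pos
  · exact hfix 1 one_lt_two
  · show (lp p σ : Perm (Fin (p + 2))) (shift2 p (ix p c)) = shift2 p (ix p ((σ : Perm (ZMod p)) c))
    simp only [lp, MonoidHom.comp_apply]
    rw [emb_apply]
    congr 1
    show ix p ((σ : Perm (ZMod p)) ((ix p c).val : ZMod p)) = _
    rw [show ((ix p c).val : ZMod p) = c from ZMod.natCast_zmod_val c]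

/-- Eight relations for the alternating group of degree two more than an odd prime. -/
theorem pres_prime (hp : p ≠ 2) : Pres (A (p + 2)) 8 := by
  classical
  have hpp : p.Prime := Fact.out
  obtain ⟨g0, hg0⟩ := IsCyclic.exists_generator (α := (ZMod p)ˣ)
  have htr : Perm.sign (Equiv.addRight (1 : ZMod p)) = 1 := by
    have h : Perm.sign (Equiv.addRight (1 : ZMod p)) ^ p = 1 := by
      rw [← map_pow]
      have e : Equiv.addRight (1 : ZMod p) ^ p = 1 := by
        have hk : ∀ (k : ℕ) (x : ZMod p), (Equiv.addRight (1 : ZMod p) ^ k) x = x + k := by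
          intro k
          induction k with
          | zero => intro x; simp
          | succ k ih =>
            intro x
            rw [pow_succ', Perm.mul_apply, ih, Equiv.coe_addRight]
            push_cast
            ring
        exact Equiv.ext fun x => by rw [hk]; simp
      rw [e, map_one]
    rcases Int.units_eq_one_or (Perm.sign (Equiv.addRight (1 : ZMod p))) with e | e
    · exact e
    · rw [e, (hpp.odd_of_ne_two hp).neg_one_pow] at h
      exact absurd h (by decide)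
  let tr : ↥(alternatingGroup (ZMod p)) := ⟨_, Perm.mem_alternatingGroup.2 htr⟩
  let ml : ↥(alternatingGroup (ZMod p)) := ⟨Units.mulLeft g0 * Units.mulLeft g0, Perm.mem_alternatingGroup.2 (by
    rw [map_mul]; exact Int.units_mul_self _)⟩
  set μ : (ZMod p)ˣ := g0 ^ 2
  have htr_pow : ∀ (k : ℕ) (x : ZMod p), ((tr ^ k : ↥(alternatingGroup (ZMod p))) : Perm (ZMod p)) x = x + k := by
    intro k
    induction k with
    | zero => intro x; simp
    | succ k ih =>
      intro x
      rw [pow_succ', Subgroup.coe_mul, Perm.mul_apply, ih]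
      show x + (k : ZMod p) + 1 = _
      push_cast
      ring
  have hml : ∀ x : ZMod p, (ml : Perm (ZMod p)) x = (μ : ZMod p) * x := fun x => by
    show (g0 : ZMod p) * ((g0 : ZMod p) * x) = _
    simp [μ, pow_two, mul_assoc]
  let f : Fin 3 → A (p + 2) := ![lp p tr, zc p 0, lp p ml]
  let U : FreeGroup (Fin 3) := FreeGroup.of 0
  let X : FreeGroup (Fin 3) := FreeGroup.of 1
  let Hh : FreeGroup (Fin 3) := FreeGroup.of 2
  let xw : ZMod p → FreeGroup (Fin 3) := fun c => U ^ c.val * X * (U ^ c.val)⁻¹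
  have hfU : FreeGroup.lift f U = lp p tr := FreeGroup.lift_apply_of ..
  have hfX : FreeGroup.lift f X = zc p 0 := FreeGroup.lift_apply_of ..
  have hfH : FreeGroup.lift f Hh = lp p ml := FreeGroup.lift_apply_of ..
  have hfxw : ∀ c, FreeGroup.lift f (xw c) = zc p c := by
    intro c
    simp only [xw, map_mul, map_inv, map_pow, hfU, hfX]
    rw [← map_pow, lp_zc, htr_pow, zero_add, ZMod.natCast_zmod_val]
  have hzc_top : Subgroup.closure (Set.range (zc p)) = ⊤ := by
    rw [eq_top_iff, ← gcyc_top]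
    refine Subgroup.closure_mono ?_
    rintro _ ⟨i, rfl⟩
    exact ⟨(ixEquiv p).symm i, congrArg (gcyc p) ((ixEquiv p).apply_symm_apply i)⟩
  have hsurj : Function.Surjective (FreeGroup.lift (zc p)) := by
    rw [← MonoidHom.range_eq_top, FreeGroup.range_lift_eq_closure, hzc_top]
  obtain ⟨dU, hdU⟩ := hsurj (lp p tr)
  obtain ⟨dH, hdH⟩ := hsurj (lp p ml)
  have hW : ∀ v, FreeGroup.lift f (FreeGroup.lift xw v) = FreeGroup.lift (zc p) v := by
    intro v; rw [lift_comp_gen]; simp only [hfxw]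
  let R : Finset (FreeGroup (Fin 3)) := {U ^ p, Hh * U * Hh⁻¹ * (U ^ (μ : ZMod p).val)⁻¹, Hh * X * Hh⁻¹ * X⁻¹,
    X ^ 3, (X * xw 1) ^ 2, (X * xw (g0 : ZMod p)) ^ 2,
    U * (FreeGroup.lift xw dU)⁻¹, Hh * (FreeGroup.lift xw dH)⁻¹}
  have hR : R.card ≤ 8 := by
    simp only [R]
    repeat refine (Finset.card_insert_le _ _).trans (Nat.succ_le_succ ?_)
    simp
  obtain ⟨g3, g2⟩ := gcyc_rels p
  have hix : Function.Injective (ix p) := (ixEquiv p).injective
  have hf : ∀ r ∈ R, FreeGroup.lift f r = 1 := by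
    intro r hr
    simp only [R, Finset.mem_insert, Finset.mem_singleton] at hr
    rcases hr with rfl | rfl | rfl | rfl | rfl | rfl | rfl | rfl
    · rw [map_pow, hfU, ← map_pow, show tr ^ p = 1 from Subtype.ext (Equiv.ext fun x => by
        rw [htr_pow]; simp), map_one]
    · rw [map_mul, map_inv, mul_inv_eq_one]
      simp only [map_mul, map_inv, map_pow, hfU, hfH]
      rw [← map_inv, ← map_mul, ← map_mul, ← map_pow]
      congr 1
      refine Subtype.ext (Equiv.ext fun x => ?_)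
      rw [htr_pow, ZMod.natCast_zmod_val, Subgroup.coe_mul, Subgroup.coe_mul, Perm.mul_apply, Perm.mul_apply, hml]
      show (μ : ZMod p) * ((((ml⁻¹ : ↥(alternatingGroup (ZMod p))) : Perm (ZMod p)) x) + 1) = x + μ
      have h := hml (((ml⁻¹ : ↥(alternatingGroup (ZMod p))) : Perm (ZMod p)) x)
      rw [Subgroup.coe_inv, Perm.inv_def, Equiv.apply_symm_apply] at h
      rw [mul_add, mul_one, Subgroup.coe_inv, Perm.inv_def, ← h]
    · rw [map_mul, map_inv, mul_inv_eq_one]
      simp only [map_mul, map_inv, hfH, hfX]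
      rw [lp_zc, hml, mul_zero]
    · rw [map_pow, hfX]; exact g3 _
    · rw [map_pow, map_mul, hfX, hfxw]; exact g2 _ _ (hix.ne zero_ne_one)
    · rw [map_pow, map_mul, hfX, hfxw]; exact g2 _ _ (hix.ne g0.ne_zero.symm)
    · rw [map_mul, map_inv, mul_inv_eq_one, hfU, hW, hdU]
    · rw [map_mul, map_inv, mul_inv_eq_one, hfH, hW, hdH]
  set m := PresentedGroup.mk (↑R : Set (FreeGroup (Fin 3))) with hm
  have one : ∀ r ∈ R, m r = 1 := fun r hr => PresentedGroup.one_of_mem (Finset.mem_coe.mpr hr)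
  set u := m U with hu
  set x := m X with hx
  set h := m Hh with hh
  have hUp : u ^ p = 1 := by rw [hu, ← map_pow]; exact one _ (by simp [R])
  have hHU : h * u * h⁻¹ = u ^ (μ : ZMod p).val := by
    have := one (Hh * U * Hh⁻¹ * (U ^ (μ : ZMod p).val)⁻¹) (by simp [R])
    simp only [map_mul, map_inv, map_pow, mul_inv_eq_one] at this
    exact this
  have hHX : h * x * h⁻¹ = x := by
    have := one (Hh * X * Hh⁻¹ * X⁻¹) (by simp [R])
    simp only [map_mul, map_inv, mul_inv_eq_one] at this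
    exact this
  let v : ZMod p → PresentedGroup (↑R : Set (FreeGroup (Fin 3))) := fun c => u ^ c.val * x * (u ^ c.val)⁻¹
  have hmxw : ∀ c, m (xw c) = v c := fun c => by simp only [xw, map_mul, map_inv, map_pow]; rfl
  have hupow : ∀ a b : ℕ, (a : ZMod p) = b → u ^ a = u ^ b := by
    intro a b hab
    rw [ZMod.natCast_eq_natCast_iff'] at hab
    rw [← Nat.mod_add_div a p, ← Nat.mod_add_div b p, pow_add, pow_add, pow_mul, pow_mul, hUp, one_pow,
      one_pow, hab]
  have hu_v : ∀ c d, u ^ c.val * v d * (u ^ c.val)⁻¹ = v (c + d) := by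
    intro c d
    simp only [v]
    rw [← hupow (c.val + d.val) (c + d).val (by push_cast; simp [ZMod.natCast_zmod_val]), pow_add]
    group
  have hh_v : ∀ c, h * v c * h⁻¹ = v ((μ : ZMod p) * c) := by
    intro c
    simp only [v]
    calc h * (u ^ c.val * x * (u ^ c.val)⁻¹) * h⁻¹
        = (h * u ^ c.val * h⁻¹) * (h * x * h⁻¹) * (h * u ^ c.val * h⁻¹)⁻¹ := by group
      _ = (u ^ (μ : ZMod p).val) ^ c.val * x * ((u ^ (μ : ZMod p).val) ^ c.val)⁻¹ := by
          rw [hHX, ← conj_pow, hHU]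
      _ = _ := by
          rw [← pow_mul, hupow ((μ : ZMod p).val * c.val) ((μ : ZMod p) * c).val (by
            push_cast; simp [ZMod.natCast_zmod_val])]
  have v0 : v 0 = x := by simp [v]
  have v3 : ∀ c, v c ^ 3 = 1 := by
    intro c
    simp only [v]
    rw [conj_pow, hx, show m X ^ 3 = 1 by rw [← map_pow]; exact one (X ^ 3) (by simp [R]), mul_one, mul_inv_cancel]
  have vpair0 : ∀ d : ZMod p, d ≠ 0 → (v 0 * v d) ^ 2 = 1 := by
    intro d hd
    have base : ∀ e : ZMod p, (e = 1 ∨ e = (g0 : ZMod p)) → (v 0 * v e) ^ 2 = 1 := by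
      intro e he
      rw [v0, hx, ← hmxw, ← map_mul, ← map_pow]
      rcases he with rfl | rfl <;> exact one _ (by simp [R])
    have scale : ∀ e, (v 0 * v e) ^ 2 = 1 → ∀ j : ℕ, (v 0 * v ((μ : ZMod p) ^ j * e)) ^ 2 = 1 := by
      intro e he j
      induction j with
      | zero => simpa using he
      | succ j ih =>
        have := congrArg (fun t => h * t * h⁻¹) ih
        simp only [mul_one, mul_inv_cancel] at this
        rw [← conj_pow, show h * (v 0 * v ((μ : ZMod p) ^ j * e)) * h⁻¹ =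
          h * v 0 * h⁻¹ * (h * v ((μ : ZMod p) ^ j * e) * h⁻¹) by group, hh_v, hh_v, mul_zero] at this
        rw [show (μ : ZMod p) ^ (j + 1) * e = (μ : ZMod p) * ((μ : ZMod p) ^ j * e) by ring]
        exact this
    obtain ⟨n, hn⟩ := mem_powers_iff_mem_zpowers.mpr (hg0 (Units.mk0 d hd))
    have hd' : d = (g0 : ZMod p) ^ n := by simpa using (congrArg Units.val hn).symm
    rcases Nat.even_or_odd n with ⟨t, ht⟩ | ⟨t, ht⟩
    · have := scale 1 (base 1 (Or.inl rfl)) t
      rwa [mul_one, Units.val_pow_eq_pow_val, ← pow_mul, show 2 * t = n by omega, ← hd'] at this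
    · have := scale _ (base _ (Or.inr rfl)) t
      rwa [Units.val_pow_eq_pow_val, ← pow_mul, ← pow_succ, show 2 * t + 1 = n by omega, ← hd'] at this
  have vpair : ∀ c d, c ≠ d → (v c * v d) ^ 2 = 1 := by
    intro c d hcd
    have h1 := congrArg (fun t => u ^ c.val * t * (u ^ c.val)⁻¹) (vpair0 (d - c) (sub_ne_zero.mpr hcd.symm))
    simp only [mul_one, mul_inv_cancel] at h1
    rw [← conj_pow, show u ^ c.val * (v 0 * v (d - c)) * (u ^ c.val)⁻¹ =
      u ^ c.val * v 0 * (u ^ c.val)⁻¹ * (u ^ c.val * v (d - c) * (u ^ c.val)⁻¹) by group,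
      hu_v, hu_v, add_zero, add_sub_cancel] at h1
    exact h1
  obtain ⟨θ, hθ⟩ := carmichael_hom p hpp.one_le (fun i => v ((ixEquiv p).symm i)) (fun i => v3 _)
    (fun i j hij => vpair _ _ ((ixEquiv p).symm.injective.ne hij))
  have hθz : ∀ c, θ (zc p c) = v c := fun c => by
    show θ (gcyc p (ix p c)) = v c
    rw [hθ, show (ixEquiv p).symm (ix p c) = c from (ixEquiv p).symm_apply_apply c]
  have hθlift : ∀ w, θ (FreeGroup.lift (zc p) w) = m (FreeGroup.lift xw w) := fun w =>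
    DFunLike.congr_fun (FreeGroup.ext_hom (θ.comp (FreeGroup.lift (zc p))) (m.comp (FreeGroup.lift xw))
      fun c => by simp [hθz, hmxw]) w
  refine (Pres.of_inv R f hf θ (fun i => ?_) ?_).mono hR
  · have eU : m U = m (FreeGroup.lift xw dU) := by
      have := one (U * (FreeGroup.lift xw dU)⁻¹) (by simp [R])
      rwa [map_mul, map_inv, mul_inv_eq_one] at this
    have eH : m Hh = m (FreeGroup.lift xw dH) := by
      have := one (Hh * (FreeGroup.lift xw dH)⁻¹) (by simp [R])
      rwa [map_mul, map_inv, mul_inv_eq_one] at this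
    fin_cases i
    · show θ (lp p tr) = m U
      rw [eU, ← hdU, hθlift]
    · show θ (zc p 0) = m X
      rw [hθz, v0]
    · show θ (lp p ml) = m Hh
      rw [eH, ← hdH, hθlift]
  · rw [eq_top_iff, ← hzc_top, Subgroup.closure_le]
    rintro _ ⟨c, rfl⟩
    rw [← hfxw, ← FreeGroup.range_lift_eq_closure]
    exact ⟨xw c, rfl⟩

end Affine

theorem gcyc_apply_ge {k : ℕ} (i : Fin k) :
    Supp ({⟨0, by omega⟩, ⟨1, by omega⟩, ⟨i.val + 2, by omega⟩} : Finset (Fin (k + 2))) (gcyc k i) :=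
  cyc_supp _ _ _

/-- Commutation extends to closures. -/
theorem commute_closures {G K : Type*} [Group G] [Group K] (f₁ f₂ : K →* G) {S T : Set K}
    (h : ∀ a ∈ S, ∀ b ∈ T, Commute (f₁ a) (f₂ b)) {a b : K} (ha : a ∈ closure S) (hb : b ∈ closure T) :
    Commute (f₁ a) (f₂ b) := by
  induction ha using Subgroup.closure_induction with
  | mem x hx =>
    induction hb using Subgroup.closure_induction with
    | mem y hy => exact h x hx y hy
    | one => rw [map_one]; exact Commute.one_right _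
    | mul u w _ _ hu hw => rw [map_mul]; exact hu.mul_right hw
    | inv u _ hu => rw [map_inv]; exact hu.inv_right
  | one => rw [map_one]; exact Commute.one_left _
  | mul u w _ _ hu hw => rw [map_mul]; exact hu.mul_left hw
  | inv u _ hu => rw [map_inv]; exact hu.inv_left

set_option maxHeartbeats 1000000 in
/-- Two overlapping copies. -/
theorem pres_glue (a r : ℕ) (hr : 1 ≤ r) (hra : r + 2 ≤ a) (h1 : r = 1 → 5 ≤ a) {R : ℕ}
    (hA : Pres (A (a + 2)) R) : Pres (A (a + r + 2)) (R + R + 6) := by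
  classical
  obtain ⟨g, rels, q, hc, hq, hrel, huniv⟩ := hA.exists_hom
  choose s hs using hq
  set k := a + 2 - r with hk
  let ι₁ : Fin (a + 2) ↪ Fin (a + r + 2) := Fin.castLEEmb (by omega)
  let ι₂ : Fin (a + 2) ↪ Fin (a + r + 2) := ⟨fun i => if i.val < k then ⟨i.val, by omega⟩ else ⟨i.val + r, by omega⟩,
    fun i j h => by
      simp only [Fin.ext_iff] at h ⊢
      split_ifs at h <;> simp at h <;> omega⟩
  have hι₂lo : ∀ i : Fin (a + 2), i.val < k → (ι₂ i).val = i.val := fun i hi => by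
    show (if i.val < k then (⟨i.val, _⟩ : Fin (a + r + 2)) else ⟨i.val + r, _⟩).val = _
    rw [if_pos hi]
  have hι₂hi : ∀ i : Fin (a + 2), ¬ i.val < k → (ι₂ i).val = i.val + r := fun i hi => by
    show (if i.val < k then (⟨i.val, _⟩ : Fin (a + r + 2)) else ⟨i.val + r, _⟩).val = _
    rw [if_neg hi]
  let f : Fin g ⊕ Fin g → A (a + r + 2) := Sum.elim (fun i => emb ι₁ (q (FreeGroup.of i)))
    (fun i => emb ι₂ (q (FreeGroup.of i)))
  let W₁ : FreeGroup (Fin g) →* FreeGroup (Fin g ⊕ Fin g) := FreeGroup.map Sum.inl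
  let W₂ : FreeGroup (Fin g) →* FreeGroup (Fin g ⊕ Fin g) := FreeGroup.map Sum.inr
  have hf₁ : ∀ w, FreeGroup.lift f (W₁ w) = emb ι₁ (q w) := fun w => DFunLike.congr_fun
    (FreeGroup.ext_hom ((FreeGroup.lift f).comp W₁) ((emb ι₁).comp q) fun i => by simp [W₁, f]) w
  have hf₂ : ∀ w, FreeGroup.lift f (W₂ w) = emb ι₂ (q w) := fun w => DFunLike.congr_fun
    (FreeGroup.ext_hom ((FreeGroup.lift f).comp W₂) ((emb ι₂).comp q) fun i => by simp [W₂, f]) w
  let K : Finset (Fin (a + 2)) := Finset.univ.filter fun i => i.val < k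
  let S₁ : Finset (Fin (a + 2)) := Finset.univ.filter fun i => i.val = 3 ∨ (r = 1 ∧ i.val = 5) ∨ k ≤ i.val
  let S₂ : Finset (Fin (a + 2)) := Finset.univ.filter fun i => i.val = 2 ∨ (r = 1 ∧ i.val = 4) ∨ k ≤ i.val
  have mK : ∀ i : Fin (a + 2), i ∈ K ↔ i.val < k := fun i => by simp [K]
  have mS₁ : ∀ i : Fin (a + 2), i ∈ S₁ ↔ i.val = 3 ∨ (r = 1 ∧ i.val = 5) ∨ k ≤ i.val := fun i => by simp [S₁]
  have mS₂ : ∀ i : Fin (a + 2), i ∈ S₂ ↔ i.val = 2 ∨ (r = 1 ∧ i.val = 4) ∨ k ≤ i.val := fun i => by simp [S₂]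
  obtain ⟨k₁, k₂, hk₁, hk₂, hKgen⟩ := two_gen_supp K
  obtain ⟨p₁, p₂, hp₁, hp₂, hPgen⟩ := two_gen_supp S₁
  obtain ⟨q₁, q₂, hq₁, hq₂, hQgen⟩ := two_gen_supp S₂
  let ag : A (a + 2) → FreeGroup (Fin g ⊕ Fin g) := fun x => W₁ (s x) * (W₂ (s x))⁻¹
  let cm : A (a + 2) → A (a + 2) → FreeGroup (Fin g ⊕ Fin g) := fun x y =>
    W₁ (s x) * W₂ (s y) * (W₂ (s y) * W₁ (s x))⁻¹
  let Rn : Finset (FreeGroup (Fin g ⊕ Fin g)) :=
    rels.image W₁ ∪ (rels.image W₂ ∪ {ag k₁, ag k₂, cm p₁ q₁, cm p₁ q₂, cm p₂ q₁, cm p₂ q₂})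
  have hRn : Rn.card ≤ R + R + 6 := by
    refine (Finset.card_union_le _ _).trans ?_
    rw [Nat.add_assoc]
    refine Nat.add_le_add (Finset.card_image_le.trans hc) ((Finset.card_union_le _ _).trans
      (Nat.add_le_add (Finset.card_image_le.trans hc) ?_))
    repeat refine (Finset.card_insert_le _ _).trans (Nat.succ_le_succ ?_)
    simp
  -- the model
  have hagm : ∀ x, Supp K x → emb ι₁ x = emb ι₂ x := by
    intro x hx
    refine Subtype.ext (Equiv.ext fun y => ?_)
    by_cases hy : y.val < k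
    · have e1 : y = ι₁ ⟨y.val, by omega⟩ := Fin.ext rfl
      have e2 : y = ι₂ ⟨y.val, by omega⟩ := Fin.ext (hι₂lo ⟨y.val, by omega⟩ hy).symm
      have hlt : ((x : Perm (Fin (a + 2))) ⟨y.val, by omega⟩).val < k :=
        (mK _).1 (hx.mem ((mK _).2 hy))
      conv_lhs => rw [e1, emb_apply]
      conv_rhs => rw [e2, emb_apply]
      exact Fin.ext (hι₂lo _ hlt).symm
    · have h₁ : (emb ι₁ x : Perm (Fin (a + r + 2))) y = y := by
        by_cases hy' : y ∈ pts ι₁
        · obtain ⟨i, rfl⟩ := mem_pts.1 hy'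
          rw [emb_apply, hx i (fun h => hy (by simpa [ι₁] using (mK _).1 h))]
        · exact emb_supp ι₁ x y hy'
      have h₂ : (emb ι₂ x : Perm (Fin (a + r + 2))) y = y := by
        by_cases hy' : y ∈ pts ι₂
        · obtain ⟨i, rfl⟩ := mem_pts.1 hy'
          rw [emb_apply, hx i (fun h => hy (by rw [hι₂lo i ((mK _).1 h)]; exact (mK _).1 h))]
        · exact emb_supp ι₂ x y hy'
      rw [h₁, h₂]
  have hcmm : ∀ x y, Supp S₁ x → Supp S₂ y → Commute (emb ι₁ x) (emb ι₂ y) := by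
    intro x y hx hy
    refine Supp.commute (S := S₁.map ι₁) (S' := S₂.map ι₂) ?_ ?_ ?_
    · rw [Finset.disjoint_left]
      intro z hz hz'
      obtain ⟨i, hi, rfl⟩ := Finset.mem_map.1 hz
      obtain ⟨j, hj, hij⟩ := Finset.mem_map.1 hz'
      rw [mS₁] at hi
      rw [mS₂] at hj
      have := congrArg Fin.val hij
      rw [show (ι₁ i).val = i.val from rfl] at this
      by_cases hj' : j.val < k
      · rw [hι₂lo j hj'] at this; omega
      · rw [hι₂hi j hj'] at this; omega
    · intro z hz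
      by_cases hz' : z ∈ pts ι₁
      · obtain ⟨i, rfl⟩ := mem_pts.1 hz'
        rw [emb_apply, hx i fun h => hz (Finset.mem_map_of_mem _ h)]
      · exact emb_supp ι₁ x z hz'
    · intro z hz
      by_cases hz' : z ∈ pts ι₂
      · obtain ⟨i, rfl⟩ := mem_pts.1 hz'
        rw [emb_apply, hy i fun h => hz (Finset.mem_map_of_mem _ h)]
      · exact emb_supp ι₂ y z hz'
  have hf : ∀ w ∈ Rn, FreeGroup.lift f w = 1 := by
    intro w hw
    rcases Finset.mem_union.mp hw with hw | hw
    · obtain ⟨v, hv, rfl⟩ := Finset.mem_image.mp hw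
      rw [hf₁, hrel v hv, map_one]
    rcases Finset.mem_union.mp hw with hw | hw
    · obtain ⟨v, hv, rfl⟩ := Finset.mem_image.mp hw
      rw [hf₂, hrel v hv, map_one]
    simp only [Finset.mem_insert, Finset.mem_singleton] at hw
    rcases hw with rfl | rfl | rfl | rfl | rfl | rfl <;>
      simp only [ag, cm, map_mul, map_inv, hf₁, hf₂, hs, mul_inv_eq_one]
    exacts [hagm _ hk₁, hagm _ hk₂, (hcmm _ _ hp₁ hq₁).eq, (hcmm _ _ hp₁ hq₂).eq, (hcmm _ _ hp₂ hq₁).eq,
      (hcmm _ _ hp₂ hq₂).eq]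
  -- the presented group
  set m := PresentedGroup.mk (↑Rn : Set (FreeGroup (Fin g ⊕ Fin g))) with hm
  have one : ∀ w ∈ Rn, m w = 1 := fun w hw => PresentedGroup.one_of_mem (Finset.mem_coe.mpr hw)
  obtain ⟨φ₁, hφ₁⟩ := huniv (m.comp W₁) fun v hv =>
    one _ (Finset.mem_union_left _ (Finset.mem_image_of_mem _ hv))
  obtain ⟨φ₂, hφ₂⟩ := huniv (m.comp W₂) fun v hv =>
    one _ (Finset.mem_union_right _ (Finset.mem_union_left _ (Finset.mem_image_of_mem _ hv)))
  have e₁ : ∀ x, m (W₁ (s x)) = φ₁ x := fun x => by rw [← MonoidHom.comp_apply, ← hφ₁, hs]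
  have e₂ : ∀ x, m (W₂ (s x)) = φ₂ x := fun x => by rw [← MonoidHom.comp_apply, ← hφ₂, hs]
  have hagree : ∀ x, Supp K x → φ₁ x = φ₂ x := by
    intro x hx
    refine MonoidHom.eqOn_closure (s := ({k₁, k₂} : Set (A (a + 2)))) ?_ (hKgen x hx)
    rintro y hy
    have hmem : ag y ∈ Rn := by
      rcases hy with rfl | rfl <;> simp [Rn]
    have h2 := one _ hmem
    simp only [ag, map_mul, map_inv, e₁, e₂, mul_inv_eq_one] at h2
    exact h2
  have hcomm : ∀ x y, Supp S₁ x → Supp S₂ y → Commute (φ₁ x) (φ₂ y) := by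
    intro x y hx hy
    refine commute_closures φ₁ φ₂ ?_ (hPgen x hx) (hQgen y hy)
    intro u hu v hv
    have hmem : cm u v ∈ Rn := by
      rcases hu with rfl | rfl <;> rcases hv with rfl | rfl <;> simp [Rn]
    have h2 := one _ hmem
    simp only [cm, map_mul, map_inv, e₁, e₂, mul_inv_eq_one] at h2
    exact h2
  obtain ⟨g3, g2⟩ := gcyc_rels a
  let v : Fin (a + r) → PresentedGroup (↑Rn : Set (FreeGroup (Fin g ⊕ Fin g))) := fun i =>
    if h : i.val < a then φ₁ (gcyc a ⟨i.val, h⟩) else φ₂ (gcyc a ⟨i.val - r, by omega⟩)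
  have hsuppK : ∀ i : Fin a, i.val + 2 < k → Supp K (gcyc a i) := fun i hi =>
    (gcyc_apply_ge i).mono fun z hz => by
      simp only [Finset.mem_insert, Finset.mem_singleton] at hz
      rw [mK]
      rcases hz with rfl | rfl | rfl <;> simp <;> omega
  have v3 : ∀ i, v i ^ 3 = 1 := by
    intro i
    simp only [v]
    split_ifs <;> rw [← map_pow, g3, map_one]
  have vlow : ∀ (i : Fin (a + r)) (h : i.val + 2 < k),
      v i = φ₂ (gcyc a ⟨i.val, by omega⟩) := fun i h => by
    simp only [v]; rw [dif_pos (show i.val < a by omega)]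
    exact hagree _ (hsuppK _ h)
  have cross : ∀ i j : Fin (a + r), k ≤ i.val + 2 → i.val < a → a ≤ j.val → (v i * v j) ^ 2 = 1 := by
    intro i j hi hia hj
    have hj2 : j.val - r < a := by omega
    have hkj : k ≤ j.val - r + 2 := by omega
    obtain ⟨e', he', he3, het⟩ : ∃ e : Fin (a + 2), e ∈ S₁ ∧ e.val ≠ 3 ∧ e.val ≠ i.val + 2 := by
      rcases eq_or_lt_of_le hr with hr1 | hr2
      · exact ⟨⟨5, by omega⟩, (mS₁ _).2 (Or.inr (Or.inl ⟨hr1.symm, rfl⟩)), by simp, by simp; omega⟩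
      · rcases eq_or_ne (i.val + 2) k with he | he
        · exact ⟨⟨k + 1, by omega⟩, (mS₁ _).2 (Or.inr (Or.inr (Nat.le_succ k))), by simp; omega, by simp; omega⟩
        · exact ⟨⟨k, by omega⟩, (mS₁ _).2 (Or.inr (Or.inr le_rfl)), by simp; omega, by simp; omega⟩
    obtain ⟨f', hf', hf3, hft⟩ : ∃ e : Fin (a + 2), e ∈ S₂ ∧ e.val ≠ 2 ∧ e.val ≠ j.val - r + 2 := by
      rcases eq_or_lt_of_le hr with hr1 | hr2
      · exact ⟨⟨4, by omega⟩, (mS₂ _).2 (Or.inr (Or.inl ⟨hr1.symm, rfl⟩)), by simp, by simp; omega⟩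
      · rcases eq_or_ne (j.val - r + 2) k with he | he
        · exact ⟨⟨k + 1, by omega⟩, (mS₂ _).2 (Or.inr (Or.inr (Nat.le_succ k))), by simp; omega, by simp; omega⟩
        · exact ⟨⟨k, by omega⟩, (mS₂ _).2 (Or.inr (Or.inr le_rfl)), by simp; omega, by simp; omega⟩
    have hh : (⟨3, by omega⟩ : Fin (a + 2)) ≠ ⟨i.val + 2, by omega⟩ := by simp [Fin.ext_iff]; omega
    have hh' : (⟨i.val + 2, by omega⟩ : Fin (a + 2)) ≠ e' := fun e => het (congrArg Fin.val e).symm
    have hh'' : (⟨3, by omega⟩ : Fin (a + 2)) ≠ e' := fun e => he3 (congrArg Fin.val e).symm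
    have kk : (⟨2, by omega⟩ : Fin (a + 2)) ≠ ⟨j.val - r + 2, by omega⟩ := by simp [Fin.ext_iff]; omega
    have kk' : (⟨j.val - r + 2, by omega⟩ : Fin (a + 2)) ≠ f' := fun e => hft (congrArg Fin.val e).symm
    have kk'' : (⟨2, by omega⟩ : Fin (a + 2)) ≠ f' := fun e => hf3 (congrArg Fin.val e).symm
    have nS₁ : ∀ (t : ℕ) (ht : t < a + 2), t ∈ ([0, 1, 2] : List ℕ) → (⟨t, ht⟩ : Fin (a + 2)) ∉ S₁ := by
      intro t ht h hS
      rw [mS₁] at hS
      simp only [List.mem_cons, List.not_mem_nil, or_false] at h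
      simp only at hS
      omega
    have nS₂ : ∀ (t : ℕ) (ht : t < a + 2), t ∈ ([0, 1, 3] : List ℕ) → (⟨t, ht⟩ : Fin (a + 2)) ∉ S₂ := by
      intro t ht h hS
      rw [mS₂] at hS
      simp only [List.mem_cons, List.not_mem_nil, or_false] at h
      simp only at hS
      omega
    set hm₁ := cyc _ _ e' hh hh' hh'' with hm₁def
    set hm₂ := cyc _ _ f' kk kk' kk'' with hm₂def
    have s₁ : Supp S₁ hm₁ := (cyc_supp hh hh' hh'').mono fun z hz => by
      simp only [Finset.mem_insert, Finset.mem_singleton] at hz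
      rcases hz with rfl | rfl | rfl
      · exact (mS₁ _).2 (Or.inl rfl)
      · exact (mS₁ _).2 (Or.inr (Or.inr hi))
      · exact he'
    have s₂ : Supp S₂ hm₂ := (cyc_supp kk kk' kk'').mono fun z hz => by
      simp only [Finset.mem_insert, Finset.mem_singleton] at hz
      rcases hz with rfl | rfl | rfl
      · exact (mS₂ _).2 (Or.inl rfl)
      · exact (mS₂ _).2 (Or.inr (Or.inr hkj))
      · exact hf'
    have c₁ : hm₁ * gcyc a ⟨1, by omega⟩ * hm₁⁻¹ = gcyc a ⟨i.val, hia⟩ := by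
      refine conj_gcyc _ _ _ ?_ ?_ ?_
      · exact s₁ _ (nS₁ 0 _ (by simp))
      · exact s₁ _ (nS₁ 1 _ (by simp))
      · exact (cyc_apply hh hh' hh'').1
    have c₂ : hm₂ * gcyc a ⟨0, by omega⟩ * hm₂⁻¹ = gcyc a ⟨j.val - r, hj2⟩ := by
      refine conj_gcyc _ _ _ ?_ ?_ ?_
      · exact s₂ _ (nS₂ 0 _ (by simp))
      · exact s₂ _ (nS₂ 1 _ (by simp))
      · exact (cyc_apply kk kk' kk'').1
    have d₁ : Commute hm₁ (gcyc a ⟨0, by omega⟩) := Supp.commute (by
      rw [Finset.disjoint_right]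
      intro z hz
      simp only [Finset.mem_insert, Finset.mem_singleton] at hz
      rcases hz with rfl | rfl | rfl <;> exact nS₁ _ _ (by simp)) s₁ (gcyc_apply_ge _)
    have d₂ : Commute hm₂ (gcyc a ⟨1, by omega⟩) := Supp.commute (by
      rw [Finset.disjoint_right]
      intro z hz
      simp only [Finset.mem_insert, Finset.mem_singleton] at hz
      rcases hz with rfl | rfl | rfl <;> exact nS₂ _ _ (by simp)) s₂ (gcyc_apply_ge _)
    have ag0 := hagree _ (hsuppK ⟨0, by omega⟩ (by simp only; omega))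
    have ag1 := hagree _ (hsuppK ⟨1, by omega⟩ (by simp only; omega))
    set P := φ₁ hm₁
    set Q := φ₂ hm₂
    set X := φ₁ (gcyc a ⟨1, by omega⟩) with hX
    set Y := φ₂ (gcyc a ⟨0, by omega⟩) with hY
    have hPQ : Commute P Q := hcomm _ _ s₁ s₂
    have hPY : Commute P Y := by rw [← ag0]; exact d₁.map φ₁
    have hQX : Commute Q X := by rw [ag1]; exact d₂.map φ₂
    have hvi : v i = P * X * P⁻¹ := by
      simp only [v, dif_pos hia]; rw [← c₁]; simp only [map_mul, map_inv]; rfl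
    have hvj : v j = Q * Y * Q⁻¹ := by
      simp only [v, dif_neg (show ¬ j.val < a by omega)]; rw [← c₂]; simp only [map_mul, map_inv]; rfl
    have hXY : (X * Y) ^ 2 = 1 := by
      rw [← ag0, hX, ← map_mul, ← map_pow, g2 _ _ (by simp [Fin.ext_iff]), map_one]
    have e : v i * v j = (P * Q) * (X * Y) * (P * Q)⁻¹ := by
      rw [hvi, hvj]
      calc P * X * P⁻¹ * (Q * Y * Q⁻¹) = P * X * (P⁻¹ * Q) * Y * Q⁻¹ := by group
        _ = P * (X * Q) * (P⁻¹ * Y) * Q⁻¹ := by rw [hPQ.inv_left.eq]; group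
        _ = P * (Q * X) * (Y * P⁻¹) * Q⁻¹ := by rw [← hQX.eq, hPY.inv_left.eq]
        _ = P * Q * (X * Y) * (Q * P)⁻¹ := by group
        _ = _ := by rw [hPQ.eq]
    rw [e, conj_pow, hXY, mul_one, mul_inv_cancel]
  have swap2 : ∀ {G : Type} [Group G] (x y : G), (x * y) ^ 2 = 1 → (y * x) ^ 2 = 1 := by
    intro G _ x y hxy
    calc (y * x) ^ 2 = y * (x * y) ^ 2 * y⁻¹ := by rw [pow_two, pow_two]; group
      _ = 1 := by rw [hxy, mul_one, mul_inv_cancel]
  have v2 : ∀ i j, i ≠ j → (v i * v j) ^ 2 = 1 := by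
    intro i j hij
    have hne := Fin.val_ne_of_ne hij
    by_cases hi : i.val < a <;> by_cases hj : j.val < a
    · simp only [v, dif_pos hi, dif_pos hj]
      rw [← map_mul, ← map_pow, g2 _ _ (by simp [Fin.ext_iff, hne]), map_one]
    · rcases Nat.lt_or_ge (i.val + 2) k with hlo | hhi
      · rw [vlow i hlo, show v j = φ₂ (gcyc a ⟨j.val - r, by omega⟩) by simp only [v, dif_neg hj],
          ← map_mul, ← map_pow, g2 _ _ (by simp [Fin.ext_iff]; omega), map_one]
      · exact cross i j hhi hi (by omega)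
    · rcases Nat.lt_or_ge (j.val + 2) k with hlo | hhi
      · rw [vlow j hlo, show v i = φ₂ (gcyc a ⟨i.val - r, by omega⟩) by simp only [v, dif_neg hi],
          ← map_mul, ← map_pow, g2 _ _ (by simp [Fin.ext_iff]; omega), map_one]
      · exact swap2 _ _ (cross j i hhi hj (by omega))
    · simp only [v, dif_neg hi, dif_neg hj]
      rw [← map_mul, ← map_pow, g2 _ _ (by simp [Fin.ext_iff]; omega), map_one]
  obtain ⟨θ, hθ⟩ := carmichael_hom (a + r) (by omega) v v3 v2
  have emb₁ : ∀ i : Fin a, emb ι₁ (gcyc a i) = gcyc (a + r) ⟨i.val, by omega⟩ := fun i => by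
    simp only [gcyc, cyc]; rw [emb_trans]; congr 2; ext u; fin_cases u <;> rfl
  have emb₂ : ∀ i : Fin a, emb ι₂ (gcyc a i) =
      gcyc (a + r) ⟨if i.val + 2 < k then i.val else i.val + r, by split_ifs <;> omega⟩ := fun i => by
    simp only [gcyc, cyc]; rw [emb_trans]; congr 2
    ext u
    fin_cases u
    · show (ι₂ ⟨0, by omega⟩).val = 0
      exact hι₂lo _ (show 0 < k by omega)
    · show (ι₂ ⟨1, by omega⟩).val = 1
      exact hι₂lo _ (show 1 < k by omega)
    · show (ι₂ ⟨i.val + 2, by omega⟩).val = (if i.val + 2 < k then i.val else i.val + r) + 2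
      split_ifs with hlt
      · exact hι₂lo _ hlt
      · rw [hι₂hi _ hlt]; simp only; omega
  have hθ₁ : θ.comp (emb ι₁) = φ₁ := MonoidHom.eq_of_eqOn_dense (gcyc_top a) (by
    rintro _ ⟨i, rfl⟩
    simp only [MonoidHom.comp_apply, emb₁, hθ, v, dif_pos i.2])
  have hθ₂ : θ.comp (emb ι₂) = φ₂ := MonoidHom.eq_of_eqOn_dense (gcyc_top a) (by
    rintro _ ⟨i, rfl⟩
    simp only [MonoidHom.comp_apply, emb₂, hθ]
    by_cases hlo : i.val + 2 < k
    · simp only [if_pos hlo]
      exact vlow _ hlo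
    · simp only [if_neg hlo, v]
      rw [dif_neg (show ¬ i.val + r < a by omega)]
      congr 2
      exact Fin.ext (show i.val + r - r = i.val by omega))
  refine (Pres.of_inv Rn f hf θ (fun i => ?_) ?_).mono hRn
  · rcases i with i | i
    · show θ.comp (emb ι₁) (q (FreeGroup.of i)) = _
      rw [hθ₁, hφ₁]
      simp [W₁, hm]; rfl
    · show θ.comp (emb ι₂) (q (FreeGroup.of i)) = _
      rw [hθ₂, hφ₂]
      simp [W₂, hm]; rfl
  · rw [eq_top_iff, ← gcyc_top, Subgroup.closure_le]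
    rintro _ ⟨i, rfl⟩
    rw [← FreeGroup.range_lift_eq_closure]
    by_cases hi : i.val < a
    · exact ⟨W₁ (s (gcyc a ⟨i.val, hi⟩)), by rw [hf₁, hs, emb₁]⟩
    · refine ⟨W₂ (s (gcyc a ⟨i.val - r, by omega⟩)), ?_⟩
      rw [hf₂, hs, emb₂]
      congr 1
      exact Fin.ext (show (if i.val - r + 2 < k then i.val - r else i.val - r + r) = i.val by
        rw [if_neg (by omega)]; omega)

/-- The bound. -/
theorem pres_alt (n : ℕ) (hn : 3 ≤ n) : Pres (A n) 22 := by
  rcases Nat.lt_or_ge n 7 with h7 | h7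
  · obtain ⟨k, rfl⟩ : ∃ k, n = k + 2 := ⟨n - 2, by omega⟩
    refine (pres_small k (by omega)).mono ?_
    have : k * k ≤ 4 * 4 := Nat.mul_le_mul (by omega) (by omega)
    omega
  obtain ⟨p, hp, hlo, hhi⟩ := Nat.exists_prime_lt_and_le_two_mul ((n + 1) / 2 - 1) (by omega)
  haveI : Fact p.Prime := ⟨hp⟩
  have h2 : p ≠ 2 := by omega
  have hpn : p + 2 ≤ n := by
    obtain ⟨t, ht⟩ := hp.odd_of_ne_two h2
    omega
  obtain ⟨r, rfl⟩ : ∃ r, n = p + r + 2 := ⟨n - p - 2, by omega⟩
  rcases Nat.eq_zero_or_pos r with rfl | hr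
  · exact (pres_prime p h2).mono (by norm_num)
  · have h4 : p ≠ 4 := fun h => by subst h; norm_num at hp
    exact (pres_glue p r hr (by omega) (fun h => by omega) (pres_prime p h2)).mono (by norm_num)

end Cfsg.Agent.Small.BoundedPres
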