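import Mathlib
import Cfsg.Agent.Lib.Small.BoundedPres.AltPres

/-!
The alternating group of odd degree `m + 2` on a translation and one three-cycle.
-/

set_option autoImplicit false
set_option linter.style.haveILetI false

namespace Cfsg.Agent.Small.BoundedPres

open Cfsg.Agent.Small.AltDeg Equiv Subgroup

section Copy

variable (m : ℕ) [NeZero m]

/-- A residue as a point. -/
def cpt : ZMod m ↪ Fin (m + 2) := ⟨fun c => ⟨c.val + 2, by have := ZMod.val_lt c; omega⟩,
  fun c d h => ZMod.val_injective m (by simpa [Fin.ext_iff] using h)⟩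

theorem cpt_val (c : ZMod m) : (cpt m c).val = c.val + 2 := rfl

theorem cpt_surj {i : Fin (m + 2)} (hi : 2 ≤ i.val) : ∃ c, cpt m c = i :=
  ⟨((i.val - 2 : ℕ) : ZMod m), Fin.ext (by rw [cpt_val, ZMod.val_cast_of_lt (by omega)]; omega)⟩

theorem cpt_ne (c : ZMod m) {i : Fin (m + 2)} (hi : i.val < 2) : cpt m c ≠ i := fun h => by
  have := congrArg Fin.val h; rw [cpt_val] at this; omega

/-- Permutations of residues acting on the points. -/
noncomputable def cperm (σ : Perm (ZMod m)) : Perm (Fin (m + 2)) := Perm.viaEmbedding σ (cpt m)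

theorem cperm_apply (σ : Perm (ZMod m)) (c : ZMod m) : cperm m σ (cpt m c) = cpt m (σ c) :=
  Perm.viaEmbedding_apply _ _ _

theorem cperm_fix (σ : Perm (ZMod m)) {i : Fin (m + 2)} (hi : i.val < 2) : cperm m σ i = i :=
  Perm.viaEmbedding_apply_of_notMem _ _ _ fun ⟨c, hc⟩ => cpt_ne m c hi hc

theorem sign_cperm (σ : Perm (ZMod m)) : Perm.sign (cperm m σ) = Perm.sign σ := by
  rw [cperm, Perm.viaEmbedding, Perm.sign_extendDomain]

omit [NeZero m] in
theorem addRight_pow (k : ℕ) (x : ZMod m) : (Equiv.addRight (1 : ZMod m) ^ k) x = x + k := by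
  induction k generalizing x with
  | zero => simp
  | succ k ih => rw [pow_succ', Perm.mul_apply, ih, Equiv.coe_addRight]; push_cast; ring

theorem sign_addRight (hm : Odd m) : Perm.sign (Equiv.addRight (1 : ZMod m)) = 1 := by
  have e : Equiv.addRight (1 : ZMod m) ^ m = 1 := Equiv.ext fun x => by rw [addRight_pow]; simp
  have h := congrArg Perm.sign e
  rw [map_pow, map_one] at h
  rcases Int.units_eq_one_or (Perm.sign (Equiv.addRight (1 : ZMod m))) with h1 | h1
  · exact h1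
  · rw [h1, hm.neg_one_pow] at h; exact absurd h (by decide)

/-- The translation. -/
noncomputable def Tm (hm : Odd m) : A (m + 2) := ⟨cperm m (Equiv.addRight 1),
  Perm.mem_alternatingGroup.2 (by rw [sign_cperm, sign_addRight m hm])⟩

theorem Tm_apply (hm : Odd m) (c : ZMod m) :
    (Tm m hm : Perm (Fin (m + 2))) (cpt m c) = cpt m (c + 1) := cperm_apply ..

theorem Tm_fix (hm : Odd m) {i : Fin (m + 2)} (hi : i.val < 2) :
    (Tm m hm : Perm (Fin (m + 2))) i = i := cperm_fix m _ hi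

theorem Tm_pow_apply (hm : Odd m) (k : ℕ) (c : ZMod m) :
    ((Tm m hm ^ k : A (m + 2)) : Perm (Fin (m + 2))) (cpt m c) = cpt m (c + k) := by
  induction k generalizing c with
  | zero => simp
  | succ k ih =>
    rw [pow_succ', Subgroup.coe_mul, Perm.mul_apply, ih, Tm_apply]
    congr 1; push_cast; ring

theorem Tm_pow_fix (hm : Odd m) (k : ℕ) {i : Fin (m + 2)} (hi : i.val < 2) :
    ((Tm m hm ^ k : A (m + 2)) : Perm (Fin (m + 2))) i = i := by
  induction k with
  | zero => simp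
  | succ k ih => rw [pow_succ', Subgroup.coe_mul, Perm.mul_apply, ih, Tm_fix m hm hi]

theorem Tm_pow_self (hm : Odd m) : Tm m hm ^ m = 1 := Subtype.ext <| Equiv.ext fun i => by
  rcases Nat.lt_or_ge i.val 2 with hi | hi
  · exact Tm_pow_fix m hm m hi
  · obtain ⟨c, rfl⟩ := cpt_surj m hi
    rw [Tm_pow_apply]; simp

/-- The three-cycle at a residue. -/
noncomputable def cz (c : ZMod m) : A (m + 2) := gcyc m ⟨c.val, ZMod.val_lt c⟩

theorem cz_top : closure (Set.range (cz m)) = ⊤ := by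
  rw [eq_top_iff, ← gcyc_top]
  refine closure_mono ?_
  rintro _ ⟨i, rfl⟩
  exact ⟨(i.val : ZMod m), by simp [cz, ZMod.val_cast_of_lt i.2]⟩

theorem conj_cz (g : A (m + 2)) (c d : ZMod m) (h0 : ∀ i : Fin (m + 2), i.val < 2 → (g : Perm (Fin (m + 2))) i = i)
    (h : (g : Perm (Fin (m + 2))) (cpt m c) = cpt m d) : g * cz m c * g⁻¹ = cz m d :=
  conj_gcyc g _ _ (h0 _ (by simp)) (h0 _ (by simp)) h

theorem Tm_pow_cz (hm : Odd m) (k : ℕ) (c : ZMod m) :
    Tm m hm ^ k * cz m c * (Tm m hm ^ k)⁻¹ = cz m (c + k) :=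
  conj_cz m _ _ _ (fun _ hi => Tm_pow_fix m hm k hi) (Tm_pow_apply m hm k c)

theorem Tm_cz_top (hm : Odd m) : closure ({Tm m hm, cz m 0} : Set (A (m + 2))) = ⊤ := by
  rw [eq_top_iff, ← cz_top, Subgroup.closure_le]
  rintro _ ⟨c, rfl⟩
  have hc := Tm_pow_cz m hm c.val 0
  rw [zero_add, ZMod.natCast_zmod_val] at hc
  rw [← hc]
  have hT : Tm m hm ∈ closure ({Tm m hm, cz m 0} : Set (A (m + 2))) := subset_closure (Or.inl rfl)
  exact mul_mem (mul_mem (pow_mem hT _) (subset_closure (Or.inr rfl))) (inv_mem (pow_mem hT _))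

/-- Multiplication by a unit, made even by exchanging the first two points. -/
noncomputable def Hm (μ : (ZMod m)ˣ) : A (m + 2) := ⟨cperm m (Units.mulLeft μ) *
    (if Perm.sign (Units.mulLeft μ) = 1 then 1 else Equiv.swap ⟨0, by omega⟩ ⟨1, by omega⟩),
  Perm.mem_alternatingGroup.2 (by
    rw [map_mul, sign_cperm]
    split_ifs with h
    · rw [h, map_one, one_mul]
    · rw [(Int.units_eq_one_or _).resolve_left h, Perm.sign_swap (by simp)]; decide)⟩

theorem Hm_apply (μ : (ZMod m)ˣ) (c : ZMod m) :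
    (Hm m μ : Perm (Fin (m + 2))) (cpt m c) = cpt m ((μ : ZMod m) * c) := by
  show cperm m _ ((if _ then (1 : Perm (Fin (m + 2))) else _) (cpt m c)) = _
  have e : (if Perm.sign (Units.mulLeft μ) = 1 then (1 : Perm (Fin (m + 2)))
      else Equiv.swap ⟨0, by omega⟩ ⟨1, by omega⟩) (cpt m c) = cpt m c := by
    split_ifs
    · rfl
    · exact Equiv.swap_apply_of_ne_of_ne (cpt_ne m c (by simp)) (cpt_ne m c (by simp))
  rw [e, cperm_apply]; rfl

theorem Hm_low (μ : (ZMod m)ˣ) {i : Fin (m + 2)} (hi : i.val < 2) :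
    (Hm m μ : Perm (Fin (m + 2))) i = if Perm.sign (Units.mulLeft μ) = 1 then i
      else Equiv.swap ⟨0, by omega⟩ ⟨1, by omega⟩ i := by
  show cperm m _ ((if _ then (1 : Perm (Fin (m + 2))) else _) i) = _
  split_ifs with h
  · exact cperm_fix m _ hi
  · refine cperm_fix m _ ?_
    rw [Equiv.swap_apply_def]
    split_ifs <;> simp [hi]

theorem Hm_Tm (hm : Odd m) (μ : (ZMod m)ˣ) (e : ℕ) (he : (e : ZMod m) = μ) :
    Hm m μ * Tm m hm * (Hm m μ)⁻¹ = Tm m hm ^ e := by
  rw [mul_inv_eq_iff_eq_mul]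
  refine Subtype.ext (Equiv.ext fun i => ?_)
  rw [Subgroup.coe_mul, Subgroup.coe_mul, Perm.mul_apply, Perm.mul_apply]
  rcases Nat.lt_or_ge i.val 2 with hi | hi
  · rw [Tm_fix m hm hi, Tm_pow_fix m hm e]
    rw [Hm_low m μ hi]
    split_ifs
    · exact hi
    · rw [Equiv.swap_apply_def]; split_ifs <;> simp [hi]
  · obtain ⟨c, rfl⟩ := cpt_surj m hi
    rw [Tm_apply, Hm_apply, Hm_apply, Tm_pow_apply, he, mul_add, mul_one]

theorem Hm_cz_pos (μ : (ZMod m)ˣ) (hs : Perm.sign (Units.mulLeft μ) = 1) :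
    Hm m μ * cz m 0 * (Hm m μ)⁻¹ = cz m 0 :=
  conj_cz m _ 0 0 (fun i hi => by rw [Hm_low m μ hi, if_pos hs]) (by rw [Hm_apply, mul_zero])

theorem Hm_cz_neg (μ : (ZMod m)ˣ) (hs : Perm.sign (Units.mulLeft μ) = -1) :
    Hm m μ * cz m 0 * (Hm m μ)⁻¹ = (cz m 0)⁻¹ := by
  have hne : ¬ Perm.sign (Units.mulLeft μ) = 1 := by rw [hs]; decide
  have h0 : (Hm m μ : Perm (Fin (m + 2))) ⟨0, by omega⟩ = ⟨1, by omega⟩ := by
    rw [Hm_low m μ (by simp), if_neg hne, Equiv.swap_apply_left]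
  have h1 : (Hm m μ : Perm (Fin (m + 2))) ⟨1, by omega⟩ = ⟨0, by omega⟩ := by
    rw [Hm_low m μ (by simp), if_neg hne, Equiv.swap_apply_right]
  have h2 := Hm_apply m μ 0
  rw [mul_zero] at h2
  show Hm m μ * cyc _ _ _ _ _ _ * (Hm m μ)⁻¹ = (cyc _ _ _ _ _ _)⁻¹
  refine (conj_cyc _ _ _ _).trans (Eq.trans ?_ (cyc_inv _ _ _).symm)
  congr 1

variable {m}

/-- The pair relations along the orbits of `e` give a copy of the alternating group. -/
theorem copy_hom (hm : Odd m) (hm3 : 3 ≤ m) (e : ℕ) (he : 1 ≤ e) (hec : Nat.Coprime (e - 1) m)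
    (R : Finset ℕ) (hcov : ∀ d : ZMod m, d ≠ 0 → ∃ i : ℕ, ∃ r ∈ R,
      d = (e : ZMod m) ^ i * r ∨ d = -((e : ZMod m) ^ i * r))
    {Q : Type*} [Group Q] (u x h : Q) (hu : u ^ m = 1) (hx : x ^ 3 = 1)
    (hHU : h * u * h⁻¹ = u ^ e) (hHX : h * x * h⁻¹ = x ∨ h * x * h⁻¹ = x⁻¹)
    (hpair : ∀ r ∈ R, (x * (u ^ r * x * (u ^ r)⁻¹)) ^ 2 = 1)
    (hh : h ∈ closure ({u, x} : Set Q)) :
    ∃ φ : A (m + 2) →* Q, φ (Tm m hm) = u ∧ φ (cz m 0) = x := by
  obtain ⟨v, hv⟩ : ∃ v : ZMod m → Q, ∀ c, v c = u ^ c.val * x * (u ^ c.val)⁻¹ := ⟨_, fun _ => rfl⟩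
  have hupow : ∀ a b : ℕ, (a : ZMod m) = b → u ^ a = u ^ b := by
    intro a b hab
    rw [ZMod.natCast_eq_natCast_iff'] at hab
    rw [← Nat.mod_add_div a m, ← Nat.mod_add_div b m, pow_add, pow_add, pow_mul, pow_mul, hu,
      one_pow, one_pow, hab]
  have v0 : v 0 = x := by simp [hv]
  have hvn : ∀ r : ℕ, v r = u ^ r * x * (u ^ r)⁻¹ := fun r => by
    rw [hv, hupow ((r : ZMod m).val) r (ZMod.natCast_zmod_val _)]
  have hu_v : ∀ (k : ℕ) d, u ^ k * v d * (u ^ k)⁻¹ = v (k + d) := by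
    intro k d
    rw [hv d, hv, ← hupow (k + d.val) ((k : ZMod m) + d).val (by push_cast; simp),
      pow_add]
    group
  have v3 : ∀ c, v c ^ 3 = 1 := fun c => by rw [hv, conj_pow, hx, mul_one, mul_inv_cancel]
  have hh_v : ∀ c, h * v c * h⁻¹ = v ((e : ZMod m) * c) ∨ h * v c * h⁻¹ = (v ((e : ZMod m) * c))⁻¹ := by
    intro c
    have e1 : h * v c * h⁻¹ = (u ^ e) ^ c.val * (h * x * h⁻¹) * ((u ^ e) ^ c.val)⁻¹ := by
      rw [hv, ← hHU, conj_pow]; group
    have e2 : (u ^ e) ^ c.val = u ^ ((e : ZMod m) * c).val := by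
      rw [← pow_mul]; exact hupow _ _ (by push_cast; simp)
    rcases hHX with hX | hX
    · left; rw [e1, hX, e2, hv]
    · right; rw [e1, hX, e2, hv]; group
  have sw : ∀ a b : Q, (a * b) ^ 2 = 1 → (b * a) ^ 2 = 1 := fun a b hab => by
    calc (b * a) ^ 2 = b * (a * b) ^ 2 * b⁻¹ := by rw [pow_two, pow_two]; group
      _ = 1 := by rw [hab, mul_one, mul_inv_cancel]
  have scale : ∀ d, (v 0 * v d) ^ 2 = 1 → (v 0 * v ((e : ZMod m) * d)) ^ 2 = 1 := by
    intro d hd
    have h1 := congrArg (fun t => h * t * h⁻¹) hd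
    simp only [mul_one, mul_inv_cancel] at h1
    rw [← conj_pow, show h * (v 0 * v d) * h⁻¹ = h * v 0 * h⁻¹ * (h * v d * h⁻¹) by group] at h1
    rcases hHX with hX | hX
    · have a0 : h * v 0 * h⁻¹ = v 0 := by rw [v0, hX]
      have ad : h * v d * h⁻¹ = v ((e : ZMod m) * d) := by
        rw [hv d, hv, ← hupow (e * d.val) ((e : ZMod m) * d).val (by push_cast; simp),
          pow_mul, ← hHU, conj_pow]
        conv_rhs => rw [← hX]
        group
      rwa [a0, ad] at h1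
    · have a0 : h * v 0 * h⁻¹ = (v 0)⁻¹ := by rw [v0, hX]
      have ad : h * v d * h⁻¹ = (v ((e : ZMod m) * d))⁻¹ := by
        rw [hv d, hv, ← hupow (e * d.val) ((e : ZMod m) * d).val (by push_cast; simp),
          pow_mul, ← hHU, conj_pow]
        calc _ = h * u ^ d.val * h⁻¹ * (h * x * h⁻¹) * (h * u ^ d.val * h⁻¹)⁻¹ := by group
          _ = _ := by rw [hX]; group
      rw [a0, ad, ← mul_inv_rev, inv_pow, inv_eq_one] at h1
      exact sw _ _ h1
  have vneg : ∀ d, (v 0 * v d) ^ 2 = 1 → (v 0 * v (-d)) ^ 2 = 1 := by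
    intro d hd
    have h1 := congrArg (fun t => u ^ (-d).val * t * (u ^ (-d).val)⁻¹) hd
    simp only [mul_one, mul_inv_cancel] at h1
    rw [← conj_pow, show u ^ (-d).val * (v 0 * v d) * (u ^ (-d).val)⁻¹ =
      u ^ (-d).val * v 0 * (u ^ (-d).val)⁻¹ * (u ^ (-d).val * v d * (u ^ (-d).val)⁻¹) by group,
      hu_v, hu_v, ZMod.natCast_zmod_val, add_zero, neg_add_cancel] at h1
    exact sw _ _ h1
  have vpair0 : ∀ d : ZMod m, d ≠ 0 → (v 0 * v d) ^ 2 = 1 := by
    intro d hd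
    obtain ⟨i, r, hr, hdr⟩ := hcov d hd
    have base : ∀ j : ℕ, (v 0 * v ((e : ZMod m) ^ j * r)) ^ 2 = 1 := by
      intro j
      induction j with
      | zero => rw [pow_zero, one_mul, v0, hvn]; exact hpair r hr
      | succ j ih =>
        rw [show (e : ZMod m) ^ (j + 1) * r = (e : ZMod m) * ((e : ZMod m) ^ j * r) by ring]
        exact scale _ ih
    rcases hdr with rfl | rfl
    · exact base i
    · exact vneg _ (base i)
  have vpair : ∀ c d, c ≠ d → (v c * v d) ^ 2 = 1 := by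
    intro c d hcd
    have h1 := congrArg (fun t => u ^ c.val * t * (u ^ c.val)⁻¹) (vpair0 (d - c) (sub_ne_zero.mpr hcd.symm))
    simp only [mul_one, mul_inv_cancel] at h1
    rw [← conj_pow, show u ^ c.val * (v 0 * v (d - c)) * (u ^ c.val)⁻¹ =
      u ^ c.val * v 0 * (u ^ c.val)⁻¹ * (u ^ c.val * v (d - c) * (u ^ c.val)⁻¹) by group,
      hu_v, hu_v, ZMod.natCast_zmod_val, add_zero, add_sub_cancel] at h1
    exact h1
  obtain ⟨θ, hθ⟩ := carmichael_hom m (by omega) (fun i => v (i.val : ZMod m)) (fun i => v3 _)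
    (fun i j hij => vpair _ _ fun hh' => hij (Fin.ext (by
      have := congrArg ZMod.val hh'
      rwa [ZMod.val_cast_of_lt i.2, ZMod.val_cast_of_lt j.2] at this)))
  have hθz : ∀ c, θ (cz m c) = v c := fun c => by
    rw [cz, hθ]; simp only [ZMod.natCast_zmod_val]
  have hvN : ∀ c, v c ∈ θ.range := fun c => ⟨_, hθz c⟩
  have hnorm : ∀ z ∈ closure ({u, x} : Set Q), (∀ a ∈ θ.range, z * a * z⁻¹ ∈ θ.range) ∧
      z * u * z⁻¹ * u⁻¹ ∈ θ.range := by
    intro z hz
    induction hz using Subgroup.closure_induction'' with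
    | mem z hz =>
      rcases hz with rfl | hz
      · refine ⟨?_, by simp⟩
        rintro _ ⟨a, rfl⟩
        have ha : a ∈ closure (Set.range (cz m)) := by rw [cz_top]; trivial
        induction ha using Subgroup.closure_induction with
        | mem y hy =>
          obtain ⟨c, rfl⟩ := hy
          have h1 := hu_v 1 c
          rw [pow_one] at h1
          rw [hθz, h1]; exact hvN _
        | one => simp
        | mul a b _ _ ha hb =>
          rw [map_mul, show z * (θ a * θ b) * z⁻¹ = z * θ a * z⁻¹ * (z * θ b * z⁻¹) by group]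
          exact mul_mem ha hb
        | inv a _ ha =>
          rw [map_inv, show z * (θ a)⁻¹ * z⁻¹ = (z * θ a * z⁻¹)⁻¹ by group]
          exact inv_mem ha
      · rw [Set.mem_singleton_iff] at hz
        subst hz
        have hxN : z ∈ θ.range := v0 ▸ hvN 0
        refine ⟨fun a ha => mul_mem (mul_mem hxN ha) (inv_mem hxN), ?_⟩
        rw [show z * u * z⁻¹ * u⁻¹ = z * (u ^ 1 * z * (u ^ 1)⁻¹)⁻¹ by group, ← hvn]
        exact mul_mem hxN (inv_mem (hvN _))
    | inv_mem z hz =>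
      rcases hz with rfl | hz
      · refine ⟨?_, by simp⟩
        rintro _ ⟨a, rfl⟩
        have ha : a ∈ closure (Set.range (cz m)) := by rw [cz_top]; trivial
        induction ha using Subgroup.closure_induction with
        | mem y hy =>
          obtain ⟨c, rfl⟩ := hy
          have h1 := hu_v 1 (c - 1)
          rw [pow_one, Nat.cast_one, add_sub_cancel] at h1
          rw [hθz, ← h1, show z⁻¹ * (z * v (c - 1) * z⁻¹) * z⁻¹⁻¹ = v (c - 1) by group]
          exact hvN _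
        | one => simp
        | mul a b _ _ ha hb =>
          rw [map_mul, show z⁻¹ * (θ a * θ b) * z⁻¹⁻¹ = z⁻¹ * θ a * z⁻¹⁻¹ * (z⁻¹ * θ b * z⁻¹⁻¹) by group]
          exact mul_mem ha hb
        | inv a _ ha =>
          rw [map_inv, show z⁻¹ * (θ a)⁻¹ * z⁻¹⁻¹ = (z⁻¹ * θ a * z⁻¹⁻¹)⁻¹ by group]
          exact inv_mem ha
      · rw [Set.mem_singleton_iff] at hz
        subst hz
        have hxN : z⁻¹ ∈ θ.range := inv_mem (v0 ▸ hvN 0)
        refine ⟨fun a ha => mul_mem (mul_mem hxN ha) (inv_mem hxN), ?_⟩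
        rw [show z⁻¹ * u * z⁻¹⁻¹ * u⁻¹ = z⁻¹ * (u ^ 1 * z * (u ^ 1)⁻¹) by group, ← hvn]
        exact mul_mem hxN (hvN _)
    | one => exact ⟨fun a ha => by simpa using ha, by simp⟩
    | mul a b _ _ ha hb =>
      refine ⟨fun c hc => ?_, ?_⟩
      · rw [show a * b * c * (a * b)⁻¹ = a * (b * c * b⁻¹) * a⁻¹ by group]
        exact ha.1 _ (hb.1 c hc)
      · rw [show a * b * u * (a * b)⁻¹ * u⁻¹ = a * (b * u * b⁻¹ * u⁻¹) * a⁻¹ * (a * u * a⁻¹ * u⁻¹) by group]
        exact mul_mem (ha.1 _ hb.2) ha.2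
  have hue : u ^ (e - 1) ∈ θ.range := by
    have h1 := (hnorm h hh).2
    rwa [hHU, ← div_eq_mul_inv, show u ^ e / u = u ^ (e - 1) by
      rw [div_eq_iff_eq_mul, ← pow_succ, Nat.sub_add_cancel he]] at h1
  have huN : u ∈ θ.range := by
    have hb := Nat.gcd_eq_gcd_ab (e - 1) m
    rw [Nat.Coprime.gcd_eq_one hec, Nat.cast_one] at hb
    have : u = (u ^ (e - 1)) ^ (Nat.gcdA (e - 1) m) * (u ^ m) ^ (Nat.gcdB (e - 1) m) := by
      rw [← zpow_natCast u (e - 1), ← zpow_natCast u m, ← zpow_mul, ← zpow_mul, ← zpow_add, ← hb, zpow_one]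
    rw [this, hu, one_zpow, mul_one]
    exact zpow_mem hue _
  obtain ⟨a, ha⟩ := huN
  refine ⟨θ, ?_, by rw [hθz, v0]⟩
  haveI : IsSimpleGroup (A (m + 2)) := alternatingGroup.isSimpleGroup (by simp; omega)
  rcases Subgroup.Normal.eq_bot_or_eq_top (MonoidHom.normal_ker θ) with hk | hk
  · have hinj : Function.Injective θ := (MonoidHom.ker_eq_bot_iff θ).1 hk
    suffices a = Tm m hm by rw [← this, ha]
    have hc : ∀ c, a * cz m c * a⁻¹ = Tm m hm * cz m c * (Tm m hm)⁻¹ := fun c => by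
      refine hinj ?_
      have h1 := hu_v 1 c
      rw [pow_one, ← hθz, ← hθz, ← ha] at h1
      rw [map_mul, map_mul, map_inv, h1]
      congr 1
      have h2 := Tm_pow_cz m hm 1 c
      rw [pow_one] at h2
      rw [h2, add_comm ((1 : ℕ) : ZMod m) c]
    have h1 : (Tm m hm)⁻¹ * a = 1 := by
      refine eq_one_of_central (by omega) _ fun ι => ?_
      show Commute _ _
      generalize emb ι a3 = y
      have hy : y ∈ closure (Set.range (cz m)) := by rw [cz_top]; trivial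
      induction hy using Subgroup.closure_induction with
      | mem y hy =>
        obtain ⟨c, rfl⟩ := hy
        refine (commute_iff_eq _ _).2 ?_
        calc (Tm m hm)⁻¹ * a * cz m c = (Tm m hm)⁻¹ * (a * cz m c * a⁻¹) * a := by group
          _ = cz m c * ((Tm m hm)⁻¹ * a) := by rw [hc]; group
      | one => exact Commute.one_right _
      | mul a b _ _ ha hb => exact ha.mul_right hb
      | inv a _ ha => exact ha.inv_right
    exact (inv_mul_eq_one.1 h1).symm
  · have hall : ∀ z, θ z = 1 := fun z => MonoidHom.mem_ker.1 (hk ▸ Subgroup.mem_top z)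
    rw [← ha, hall, hall]

end Copy

/-- A generator of the units modulo a prime is an odd permutation. -/
theorem sign_mulLeft_gen (p : ℕ) [Fact p.Prime] (hp : p ≠ 2) (g0 : (ZMod p)ˣ)
    (hg0 : ∀ x, x ∈ Subgroup.zpowers g0) : Perm.sign (Units.mulLeft g0 : Perm (ZMod p)) = -1 := by
  have hpp : p.Prime := Fact.out
  have hne : g0 ≠ 1 := by
    rintro rfl
    have h2 : ((2 : ℕ) : ZMod p) ≠ 0 := fun h => by
      rw [ZMod.natCast_eq_zero_iff] at h; exact hp ((Nat.prime_dvd_prime_iff_eq hpp Nat.prime_two).1 h)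
    have := hg0 (Units.mk0 _ h2)
    rw [Subgroup.zpowers_one_eq_bot, Subgroup.mem_bot] at this
    have h1 : ((1 : ℕ) : ZMod p) = ((2 : ℕ) : ZMod p) := by simpa using (congrArg Units.val this).symm
    rw [ZMod.natCast_eq_natCast_iff', Nat.one_mod_eq_one.2 hpp.ne_one, Nat.mod_eq_of_lt (lt_of_le_of_ne hpp.two_le (Ne.symm hp))] at h1
    omega
  have hsupp : (Units.mulLeft g0 : Perm (ZMod p)).support = Finset.univ.erase 0 := by
    ext x
    simp only [Perm.mem_support, Finset.mem_erase, Finset.mem_univ, and_true, Units.mulLeft_apply]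
    constructor
    · rintro h rfl; exact h (mul_zero _)
    · intro hx h
      exact hne (Units.ext (mul_right_cancel₀ hx (h.trans (one_mul x).symm)))
  have hpow : ∀ (i : ℤ) (y : ZMod p), ((Units.mulLeft g0 : Perm (ZMod p)) ^ i) y = ((g0 ^ i : (ZMod p)ˣ) : ZMod p) * y := by
    intro i y
    let f : (ZMod p)ˣ →* Perm (ZMod p) :=
      { toFun := Units.mulLeft
        map_one' := Equiv.ext fun z => one_mul z
        map_mul' := fun a b => Equiv.ext fun z => by simp [mul_assoc] }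
    show ((f g0) ^ i) y = _
    rw [← map_zpow]; rfl
  have hcyc : (Units.mulLeft g0 : Perm (ZMod p)).IsCycle := by
    refine ⟨1, ?_, fun y hy => ?_⟩
    · show (g0 : ZMod p) * 1 ≠ 1
      rw [mul_one]; exact fun h => hne (Units.ext h)
    · have hy0 : y ≠ 0 := by rintro rfl; exact hy (mul_zero _)
      obtain ⟨i, hi⟩ := Subgroup.mem_zpowers_iff.1 (hg0 (Units.mk0 y hy0))
      exact ⟨i, by rw [hpow, hi, mul_one, Units.val_mk0]⟩
  rw [hcyc.sign, hsupp, Finset.card_erase_of_mem (Finset.mem_univ _), Finset.card_univ, ZMod.card]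
  obtain ⟨t, ht⟩ := hpp.odd_of_ne_two hp
  rw [ht, Nat.add_sub_cancel, pow_mul]
  simp

end Cfsg.Agent.Small.BoundedPres
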