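import Mathlib
import Cfsg.Agent.Lib.Small.BoundedPres.AltPres

/-!
Gluing two overlapping copies of an alternating group, the second being a conjugate of the first.
-/

set_option autoImplicit false
set_option linter.style.haveILetI false

namespace Cfsg.Agent.Small.BoundedPres

open Cfsg.Agent.Small.AltDeg Equiv Subgroup

/-- The first copy's points. -/
def gl1 (a r : ℕ) : Fin (a + 2) ↪ Fin (a + r + 2) := Fin.castLEEmb (by omega)

/-- The second copy's points. -/
def gl2 (a r : ℕ) : Fin (a + 2) ↪ Fin (a + r + 2) :=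
  ⟨fun i => if i.val < a + 2 - r then ⟨i.val, by omega⟩ else ⟨i.val + r, by omega⟩, fun i j h => by
    simp only [Fin.ext_iff] at h ⊢
    split_ifs at h <;> simp at h <;> omega⟩

theorem gl1_val (a r : ℕ) (i : Fin (a + 2)) : (gl1 a r i).val = i.val := rfl

theorem gl2_lo (a r : ℕ) {i : Fin (a + 2)} (hi : i.val < a + 2 - r) : (gl2 a r i).val = i.val := by
  show (if i.val < a + 2 - r then (⟨i.val, _⟩ : Fin (a + r + 2)) else ⟨i.val + r, _⟩).val = _
  rw [if_pos hi]

theorem gl2_hi (a r : ℕ) {i : Fin (a + 2)} (hi : ¬ i.val < a + 2 - r) :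
    (gl2 a r i).val = i.val + r := by
  show (if i.val < a + 2 - r then (⟨i.val, _⟩ : Fin (a + r + 2)) else ⟨i.val + r, _⟩).val = _
  rw [if_neg hi]

/-- The common points. -/
def glK (a r : ℕ) : Finset (Fin (a + 2)) := Finset.univ.filter fun i => i.val < a + 2 - r

/-- The points private to one copy. -/
def glT (a r : ℕ) : Finset (Fin (a + 2)) := Finset.univ.filter fun i => a + 2 - r ≤ i.val

/-- Points needed in the first commuting set. -/
def glS1 (a r : ℕ) : Finset (Fin (a + 2)) :=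
  Finset.univ.filter fun i => i.val = 3 ∨ i.val = 5 ∨ a + 2 - r ≤ i.val

/-- Points needed in the second commuting set. -/
def glS2 (a r : ℕ) : Finset (Fin (a + 2)) :=
  Finset.univ.filter fun i => i.val = 2 ∨ i.val = 4 ∨ a + 2 - r ≤ i.val

theorem mem_glK {a r : ℕ} {i : Fin (a + 2)} : i ∈ glK a r ↔ i.val < a + 2 - r := by simp [glK]

theorem mem_glT {a r : ℕ} {i : Fin (a + 2)} : i ∈ glT a r ↔ a + 2 - r ≤ i.val := by simp [glT]

theorem mem_glS1 {a r : ℕ} {i : Fin (a + 2)} :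
    i ∈ glS1 a r ↔ i.val = 3 ∨ i.val = 5 ∨ a + 2 - r ≤ i.val := by simp [glS1]

theorem mem_glS2 {a r : ℕ} {i : Fin (a + 2)} :
    i ∈ glS2 a r ↔ i.val = 2 ∨ i.val = 4 ∨ a + 2 - r ≤ i.val := by simp [glS2]

/-- Agreement in the model. -/
theorem emb_gl_eq {a r : ℕ} {x : A (a + 2)} (hx : Supp (glK a r) x) :
    emb (gl1 a r) x = emb (gl2 a r) x := by
  refine ext_emb (ι := gl1 a r) (fun i => ?_) (emb_supp _ x) (fun y hy => ?_)
  · rw [emb_apply]
    by_cases hi : i.val < a + 2 - r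
    · have e : gl1 a r i = gl2 a r i := Fin.ext (by rw [gl1_val, gl2_lo a r hi])
      rw [e, emb_apply]
      exact Fin.ext (by rw [gl1_val, gl2_lo a r (mem_glK.1 (hx.mem (mem_glK.2 hi)))])
    · have hxi := hx i (fun h => hi (mem_glK.1 h))
      rw [hxi]
      refine (emb_supp (gl2 a r) x _ fun h => ?_).symm
      obtain ⟨j, hj⟩ := mem_pts.1 h
      have h2 := congrArg Fin.val hj
      rw [gl1_val] at h2
      by_cases hj' : j.val < a + 2 - r
      · rw [gl2_lo a r hj'] at h2; omega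
      · rw [gl2_hi a r hj'] at h2; omega
  · by_cases hy' : y ∈ pts (gl2 a r)
    · obtain ⟨j, rfl⟩ := mem_pts.1 hy'
      rw [emb_apply, hx j fun h => hy (mem_pts.2 ⟨j, Fin.ext (by rw [gl1_val, gl2_lo a r (mem_glK.1 h)])⟩)]
    · exact emb_supp _ x y hy'

/-- The two copies generate. -/
theorem glue_top (a r : ℕ) (hr : r ≤ a) :
    closure (Set.range (emb (gl1 a r)) ∪ Set.range (emb (gl2 a r))) = ⊤ := by
  rw [eq_top_iff, ← gcyc_top, Subgroup.closure_le]
  rintro _ ⟨i, rfl⟩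
  by_cases hi : i.val < a
  · refine subset_closure (Or.inl ⟨gcyc a ⟨i.val, hi⟩, ?_⟩)
    simp only [gcyc, cyc]; rw [emb_trans]; congr 2; ext u; fin_cases u <;> rfl
  · refine subset_closure (Or.inr ⟨gcyc a ⟨i.val - r, by omega⟩, ?_⟩)
    simp only [gcyc, cyc]; rw [emb_trans]; congr 2
    ext u
    fin_cases u
    · show (gl2 a r ⟨0, by omega⟩).val = 0
      exact gl2_lo a r (show 0 < a + 2 - r by omega)
    · show (gl2 a r ⟨1, by omega⟩).val = 1
      exact gl2_lo a r (show 1 < a + 2 - r by omega)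
    · show (gl2 a r ⟨i.val - r + 2, by omega⟩).val = i.val + 2
      rw [gl2_hi a r (show ¬ i.val - r + 2 < a + 2 - r by omega)]
      simp only; omega

set_option maxHeartbeats 1000000 in
/-- Two copies agreeing on the common points and commuting elsewhere make the large group. -/
theorem glue_hom (a r : ℕ) (hr : 1 ≤ r) (hra : r + 4 ≤ a) {Q : Type*} [Group Q]
    (φ₁ φ₂ : A (a + 2) →* Q) (hagree : ∀ x, Supp (glK a r) x → φ₁ x = φ₂ x)
    (hcomm : ∀ x y, Supp (glS1 a r) x → Supp (glS2 a r) y → Commute (φ₁ x) (φ₂ y)) :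
    ∃ θ : A (a + r + 2) →* Q, θ.comp (emb (gl1 a r)) = φ₁ ∧ θ.comp (emb (gl2 a r)) = φ₂ := by
  classical
  set k := a + 2 - r with hk
  let K := glK a r
  let S₁ := glS1 a r
  let S₂ := glS2 a r
  have mK : ∀ i : Fin (a + 2), i ∈ K ↔ i.val < k := fun i => mem_glK
  have mS₁ : ∀ i : Fin (a + 2), i ∈ S₁ ↔ i.val = 3 ∨ i.val = 5 ∨ k ≤ i.val := fun i => mem_glS1
  have mS₂ : ∀ i : Fin (a + 2), i ∈ S₂ ↔ i.val = 2 ∨ i.val = 4 ∨ k ≤ i.val := fun i => mem_glS2
  let ι₁ := gl1 a r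
  let ι₂ := gl2 a r
  have hι₂lo : ∀ i : Fin (a + 2), i.val < k → (ι₂ i).val = i.val := fun i hi => gl2_lo a r hi
  have hι₂hi : ∀ i : Fin (a + 2), ¬ i.val < k → (ι₂ i).val = i.val + r := fun i hi => gl2_hi a r hi
  obtain ⟨g3, g2⟩ := gcyc_rels a
  let v : Fin (a + r) → Q := fun i =>
    if h : i.val < a then φ₁ (gcyc a ⟨i.val, h⟩) else φ₂ (gcyc a ⟨i.val - r, by omega⟩)
  have hsuppK : ∀ i : Fin a, i.val + 2 < k → Supp K (gcyc a i) := fun i hi =>
    (gcyc_apply_ge i).mono fun z hz => by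
      simp only [Finset.mem_insert, Finset.mem_singleton] at hz
      rw [mK]
      rcases hz with rfl | rfl | rfl <;> simp <;> omega
  have v3 : ∀ i, v i ^ 3 = 1 := by
    intro i
    simp only [v]
    split_ifs <;> rw [← map_pow, g3, map_one]
  have vlow : ∀ (i : Fin (a + r)) (h : i.val + 2 < k),
      v i = φ₂ (gcyc a ⟨i.val, by omega⟩) := fun i h => by
    simp only [v]; rw [dif_pos (show i.val < a by omega)]
    exact hagree _ (hsuppK _ h)
  have cross : ∀ i j : Fin (a + r), k ≤ i.val + 2 → i.val < a → a ≤ j.val → (v i * v j) ^ 2 = 1 := by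
    intro i j hi hia hj
    have hj2 : j.val - r < a := by omega
    have hkj : k ≤ j.val - r + 2 := by omega
    obtain ⟨e', he', he3, het⟩ : ∃ e : Fin (a + 2), e ∈ S₁ ∧ e.val ≠ 3 ∧ e.val ≠ i.val + 2 :=
      ⟨⟨5, by omega⟩, (mS₁ _).2 (Or.inr (Or.inl rfl)), by simp, by simp; omega⟩
    obtain ⟨f', hf', hf3, hft⟩ : ∃ e : Fin (a + 2), e ∈ S₂ ∧ e.val ≠ 2 ∧ e.val ≠ j.val - r + 2 :=
      ⟨⟨4, by omega⟩, (mS₂ _).2 (Or.inr (Or.inl rfl)), by simp, by simp; omega⟩
    have hh : (⟨3, by omega⟩ : Fin (a + 2)) ≠ ⟨i.val + 2, by omega⟩ := by simp [Fin.ext_iff]; omega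
    have hh' : (⟨i.val + 2, by omega⟩ : Fin (a + 2)) ≠ e' := fun e => het (congrArg Fin.val e).symm
    have hh'' : (⟨3, by omega⟩ : Fin (a + 2)) ≠ e' := fun e => he3 (congrArg Fin.val e).symm
    have kk : (⟨2, by omega⟩ : Fin (a + 2)) ≠ ⟨j.val - r + 2, by omega⟩ := by simp [Fin.ext_iff]; omega
    have kk' : (⟨j.val - r + 2, by omega⟩ : Fin (a + 2)) ≠ f' := fun e => hft (congrArg Fin.val e).symm
    have kk'' : (⟨2, by omega⟩ : Fin (a + 2)) ≠ f' := fun e => hf3 (congrArg Fin.val e).symm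
    have nS₁ : ∀ (t : ℕ) (ht : t < a + 2), t ∈ ([0, 1, 2] : List ℕ) → (⟨t, ht⟩ : Fin (a + 2)) ∉ S₁ := by
      intro t ht h hS
      rw [mS₁] at hS
      simp only [List.mem_cons, List.not_mem_nil, or_false] at h
      simp only at hS
      omega
    have nS₂ : ∀ (t : ℕ) (ht : t < a + 2), t ∈ ([0, 1, 3] : List ℕ) → (⟨t, ht⟩ : Fin (a + 2)) ∉ S₂ := by
      intro t ht h hS
      rw [mS₂] at hS
      simp only [List.mem_cons, List.not_mem_nil, or_false] at h
      simp only at hS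
      omega
    set hm₁ := cyc _ _ e' hh hh' hh'' with hm₁def
    set hm₂ := cyc _ _ f' kk kk' kk'' with hm₂def
    have s₁ : Supp S₁ hm₁ := (cyc_supp hh hh' hh'').mono fun z hz => by
      simp only [Finset.mem_insert, Finset.mem_singleton] at hz
      rcases hz with rfl | rfl | rfl
      · exact (mS₁ _).2 (Or.inl rfl)
      · exact (mS₁ _).2 (Or.inr (Or.inr hi))
      · exact he'
    have s₂ : Supp S₂ hm₂ := (cyc_supp kk kk' kk'').mono fun z hz => by
      simp only [Finset.mem_insert, Finset.mem_singleton] at hz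
      rcases hz with rfl | rfl | rfl
      · exact (mS₂ _).2 (Or.inl rfl)
      · exact (mS₂ _).2 (Or.inr (Or.inr hkj))
      · exact hf'
    have c₁ : hm₁ * gcyc a ⟨1, by omega⟩ * hm₁⁻¹ = gcyc a ⟨i.val, hia⟩ := by
      refine conj_gcyc _ _ _ ?_ ?_ ?_
      · exact s₁ _ (nS₁ 0 _ (by simp))
      · exact s₁ _ (nS₁ 1 _ (by simp))
      · exact (cyc_apply hh hh' hh'').1
    have c₂ : hm₂ * gcyc a ⟨0, by omega⟩ * hm₂⁻¹ = gcyc a ⟨j.val - r, hj2⟩ := by
      refine conj_gcyc _ _ _ ?_ ?_ ?_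
      · exact s₂ _ (nS₂ 0 _ (by simp))
      · exact s₂ _ (nS₂ 1 _ (by simp))
      · exact (cyc_apply kk kk' kk'').1
    have d₁ : Commute hm₁ (gcyc a ⟨0, by omega⟩) := Supp.commute (by
      rw [Finset.disjoint_right]
      intro z hz
      simp only [Finset.mem_insert, Finset.mem_singleton] at hz
      rcases hz with rfl | rfl | rfl <;> exact nS₁ _ _ (by simp)) s₁ (gcyc_apply_ge _)
    have d₂ : Commute hm₂ (gcyc a ⟨1, by omega⟩) := Supp.commute (by
      rw [Finset.disjoint_right]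
      intro z hz
      simp only [Finset.mem_insert, Finset.mem_singleton] at hz
      rcases hz with rfl | rfl | rfl <;> exact nS₂ _ _ (by simp)) s₂ (gcyc_apply_ge _)
    have ag0 := hagree _ (hsuppK ⟨0, by omega⟩ (by simp only; omega))
    have ag1 := hagree _ (hsuppK ⟨1, by omega⟩ (by simp only; omega))
    set P := φ₁ hm₁
    set R := φ₂ hm₂
    set X := φ₁ (gcyc a ⟨1, by omega⟩) with hX
    set Y := φ₂ (gcyc a ⟨0, by omega⟩) with hY
    have hPQ : Commute P R := hcomm _ _ s₁ s₂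
    have hPY : Commute P Y := by rw [← ag0]; exact d₁.map φ₁
    have hQX : Commute R X := by rw [ag1]; exact d₂.map φ₂
    have hvi : v i = P * X * P⁻¹ := by
      simp only [v, dif_pos hia]; rw [← c₁]; simp only [map_mul, map_inv]; rfl
    have hvj : v j = R * Y * R⁻¹ := by
      simp only [v, dif_neg (show ¬ j.val < a by omega)]; rw [← c₂]; simp only [map_mul, map_inv]; rfl
    have hXY : (X * Y) ^ 2 = 1 := by
      rw [← ag0, hX, ← map_mul, ← map_pow, g2 _ _ (by simp [Fin.ext_iff]), map_one]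
    have e : v i * v j = (P * R) * (X * Y) * (P * R)⁻¹ := by
      rw [hvi, hvj]
      calc P * X * P⁻¹ * (R * Y * R⁻¹) = P * X * (P⁻¹ * R) * Y * R⁻¹ := by group
        _ = P * (X * R) * (P⁻¹ * Y) * R⁻¹ := by rw [hPQ.inv_left.eq]; group
        _ = P * (R * X) * (Y * P⁻¹) * R⁻¹ := by rw [← hQX.eq, hPY.inv_left.eq]
        _ = P * R * (X * Y) * (R * P)⁻¹ := by group
        _ = _ := by rw [hPQ.eq]
    rw [e, conj_pow, hXY, mul_one, mul_inv_cancel]
  have swap2 : ∀ x y : Q, (x * y) ^ 2 = 1 → (y * x) ^ 2 = 1 := by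
    intro x y hxy
    calc (y * x) ^ 2 = y * (x * y) ^ 2 * y⁻¹ := by rw [pow_two, pow_two]; group
      _ = 1 := by rw [hxy, mul_one, mul_inv_cancel]
  have v2 : ∀ i j, i ≠ j → (v i * v j) ^ 2 = 1 := by
    intro i j hij
    have hne := Fin.val_ne_of_ne hij
    by_cases hi : i.val < a <;> by_cases hj : j.val < a
    · simp only [v, dif_pos hi, dif_pos hj]
      rw [← map_mul, ← map_pow, g2 _ _ (by simp [Fin.ext_iff, hne]), map_one]
    · rcases Nat.lt_or_ge (i.val + 2) k with hlo | hhi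
      · rw [vlow i hlo, show v j = φ₂ (gcyc a ⟨j.val - r, by omega⟩) by simp only [v, dif_neg hj],
          ← map_mul, ← map_pow, g2 _ _ (by simp [Fin.ext_iff]; omega), map_one]
      · exact cross i j hhi hi (by omega)
    · rcases Nat.lt_or_ge (j.val + 2) k with hlo | hhi
      · rw [vlow j hlo, show v i = φ₂ (gcyc a ⟨i.val - r, by omega⟩) by simp only [v, dif_neg hi],
          ← map_mul, ← map_pow, g2 _ _ (by simp [Fin.ext_iff]; omega), map_one]
      · exact swap2 _ _ (cross j i hhi hj (by omega))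
    · simp only [v, dif_neg hi, dif_neg hj]
      rw [← map_mul, ← map_pow, g2 _ _ (by simp [Fin.ext_iff]; omega), map_one]
  obtain ⟨θ, hθ⟩ := carmichael_hom (a + r) (by omega) v v3 v2
  have emb₁ : ∀ i : Fin a, emb ι₁ (gcyc a i) = gcyc (a + r) ⟨i.val, by omega⟩ := fun i => by
    simp only [gcyc, cyc]; rw [emb_trans]; congr 2; ext u; fin_cases u <;> rfl
  have emb₂ : ∀ i : Fin a, emb ι₂ (gcyc a i) =
      gcyc (a + r) ⟨if i.val + 2 < k then i.val else i.val + r, by split_ifs <;> omega⟩ := fun i => by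
    simp only [gcyc, cyc]; rw [emb_trans]; congr 2
    ext u
    fin_cases u
    · show (ι₂ ⟨0, by omega⟩).val = 0
      exact hι₂lo _ (show 0 < k by omega)
    · show (ι₂ ⟨1, by omega⟩).val = 1
      exact hι₂lo _ (show 1 < k by omega)
    · show (ι₂ ⟨i.val + 2, by omega⟩).val = (if i.val + 2 < k then i.val else i.val + r) + 2
      split_ifs with hlt
      · exact hι₂lo _ hlt
      · rw [hι₂hi _ hlt]; simp only; omega
  have hθ₁ : θ.comp (emb ι₁) = φ₁ := MonoidHom.eq_of_eqOn_dense (gcyc_top a) (by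
    rintro _ ⟨i, rfl⟩
    simp only [MonoidHom.comp_apply, emb₁, hθ, v, dif_pos i.2])
  have hθ₂ : θ.comp (emb ι₂) = φ₂ := MonoidHom.eq_of_eqOn_dense (gcyc_top a) (by
    rintro _ ⟨i, rfl⟩
    simp only [MonoidHom.comp_apply, emb₂, hθ]
    by_cases hlo : i.val + 2 < k
    · simp only [if_pos hlo]
      exact vlow _ hlo
    · simp only [if_neg hlo, v]
      rw [dif_neg (show ¬ i.val + r < a by omega)]
      congr 2
      exact Fin.ext (show i.val + r - r = i.val by omega))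
  exact ⟨θ, hθ₁, hθ₂⟩

end Cfsg.Agent.Small.BoundedPres
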