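import Mathlib
import Cfsg.Agent.Lib.Small.BoundedPres.GlueHom

/-!
One copy and one involution glue to a larger alternating group.
-/

set_option autoImplicit false
set_option linter.style.haveILetI false

namespace Cfsg.Agent.Small.BoundedPres

open Cfsg.Agent.Small.AltDeg Equiv Subgroup

/-- Conjugation of even permutations by any permutation. -/
def pconj {k : ℕ} (σ : Perm (Fin k)) : A k →* A k :=
  ((MulAut.conj σ).toMonoidHom.comp (alternatingGroup (Fin k)).subtype).codRestrict _ fun x => by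
    rw [Perm.mem_alternatingGroup]
    show Perm.sign (σ * (x : Perm (Fin k)) * σ⁻¹) = 1
    rw [map_mul, map_mul, Perm.mem_alternatingGroup.1 x.2, mul_one, ← map_mul, mul_inv_cancel, map_one]

theorem pconj_coe {k : ℕ} (σ : Perm (Fin k)) (x : A k) :
    (pconj σ x : Perm (Fin k)) = σ * x * σ⁻¹ := rfl

theorem pconj_pconj {k : ℕ} {σ : Perm (Fin k)} (h : σ * σ = 1) (x : A k) : pconj σ (pconj σ x) = x :=
  Subtype.ext (by
    rw [pconj_coe, pconj_coe, show σ * (σ * (x : Perm (Fin k)) * σ⁻¹) * σ⁻¹ = σ * σ * x * (σ * σ)⁻¹ by group,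
      h, one_mul, inv_one, mul_one])

theorem pconj_eq_conj {k : ℕ} (g : A k) (x : A k) : pconj (g : Perm (Fin k)) x = g * x * g⁻¹ := rfl

theorem Supp.pconj_fix {k : ℕ} {S : Finset (Fin k)} {σ : Perm (Fin k)} {x : A k} (hx : Supp S x)
    (hσ : ∀ i ∈ S, σ i ∈ S) (h2 : σ * σ = 1) : Supp S (pconj σ x) := fun i hi => by
  have hinv : σ⁻¹ = σ := inv_eq_of_mul_eq_one_right h2
  rw [pconj_coe, hinv, Perm.mul_apply, Perm.mul_apply]
  rw [hx (σ i) fun h => hi (by
    have := hσ _ h
    rwa [← Perm.mul_apply, h2, Perm.one_apply] at this)]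
  rw [← Perm.mul_apply, h2, Perm.one_apply]

/-- A permutation carrying one injection to another carries the embedded groups. -/
theorem pconj_emb {k r : ℕ} (G : Perm (Fin r)) (P : Perm (Fin k)) (ι κ : Fin k ↪ Fin r)
    (hG : ∀ i, G (ι i) = κ (P i)) (y : A k) : pconj G (emb ι y) = emb κ (pconj P y) := by
  have e : ∀ i, (G⁻¹ : Perm (Fin r)) (κ i) = ι ((P⁻¹ : Perm (Fin k)) i) := fun i => by
    rw [Perm.inv_def, Equiv.symm_apply_eq, hG, Perm.inv_def, Equiv.apply_symm_apply]
  refine ext_emb (ι := κ) (fun i => ?_) (fun x hx => ?_) (emb_supp κ _)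
  · rw [emb_apply, pconj_coe, pconj_coe, Perm.mul_apply, Perm.mul_apply, e, emb_apply, hG,
      Perm.mul_apply, Perm.mul_apply]
  · rw [pconj_coe, Perm.mul_apply, Perm.mul_apply, emb_supp ι y _ fun h => hx ?_, Perm.inv_def,
      Equiv.apply_symm_apply]
    obtain ⟨j, hj⟩ := mem_pts.1 h
    refine mem_pts.2 ⟨P j, ?_⟩
    rw [← hG, hj, Perm.inv_def, Equiv.apply_symm_apply]

section GPerm

variable (a r : ℕ) (π : Perm (Fin (a + 2)))

/-- The glue involution as a function. -/
def gfun (i : Fin (a + r + 2)) : Fin (a + r + 2) :=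
  if h : i.val < a + 2 - r then ⟨(π ⟨i.val, by omega⟩).val, by omega⟩
  else if h' : i.val < a + 2 then ⟨i.val + r, by omega⟩ else ⟨i.val - r, by omega⟩

variable {a r π}

theorem pi_lt (hπk : ∀ i : Fin (a + 2), a + 2 - r ≤ i.val → π i = i) {i : Fin (a + 2)}
    (hi : i.val < a + 2 - r) : (π i).val < a + 2 - r := by
  by_contra h
  have h2 := π.injective (hπk (π i) (by omega))
  rw [h2] at h
  exact h hi

theorem gfun_lo {i : Fin (a + r + 2)} (h : i.val < a + 2 - r) :
    (gfun a r π i).val = (π ⟨i.val, by omega⟩).val := by unfold gfun; rw [dif_pos h]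

theorem gfun_mid {i : Fin (a + r + 2)} (h : ¬ i.val < a + 2 - r) (h' : i.val < a + 2) :
    (gfun a r π i).val = i.val + r := by unfold gfun; rw [dif_neg h, dif_pos h']

theorem gfun_hi {i : Fin (a + r + 2)} (h : ¬ i.val < a + 2 - r) (h' : ¬ i.val < a + 2) :
    (gfun a r π i).val = i.val - r := by unfold gfun; rw [dif_neg h, dif_neg h']

theorem gfun_invol (hr : r ≤ a + 2) (hπ : π * π = 1) (hπk : ∀ i : Fin (a + 2), a + 2 - r ≤ i.val → π i = i) :
    Function.Involutive (gfun a r π) := by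
  intro i
  apply Fin.ext
  by_cases h : i.val < a + 2 - r
  · have h1 := gfun_lo (π := π) h
    have h2 := pi_lt hπk (i := ⟨i.val, by omega⟩) h
    rw [gfun_lo (by rw [h1]; exact h2)]
    have e : (⟨(gfun a r π i).val, by rw [h1]; exact (π _).2⟩ : Fin (a + 2)) = π ⟨i.val, by omega⟩ := Fin.ext h1
    rw [e, ← Perm.mul_apply, hπ, Perm.one_apply]
  · by_cases h' : i.val < a + 2
    · have h1 := gfun_mid (π := π) h h'
      rw [gfun_hi (by omega) (by omega), h1]; omega
    · have h1 := gfun_hi (π := π) h h'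
      rw [gfun_mid (by omega) (by omega), h1]; omega

end GPerm

/-- Data for gluing by one involution. -/
structure GlueData (a r : ℕ) where
  pos : 1 ≤ r
  room : r + 4 ≤ a
  π : Perm (Fin (a + 2))
  invol : π * π = 1
  fixT : ∀ i : Fin (a + 2), a + 2 - r ≤ i.val → π i = i
  E1 : Finset (Fin (a + 2))
  E2 : Finset (Fin (a + 2))
  E1K : E1 ⊆ glK a r
  E2K : E2 ⊆ glK a r
  disj : Disjoint E1 E2
  p1 : A (a + 2)
  q1 : A (a + 2)
  suppP : Supp (E1 ∪ glT a r) p1
  suppQ : Supp (E2 ∪ glT a r) q1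
  genP : ∀ x, Supp (glS1 a r) x → x ∈ closure ({p1} ∪ {c | Supp E1 c} : Set (A (a + 2)))
  genQ : ∀ x, Supp (glS2 a r) x → x ∈ closure ({q1} ∪ {c | Supp E2 c} : Set (A (a + 2)))

namespace GlueData

variable {a r : ℕ} (D : GlueData a r)

/-- The glue involution. -/
def G : Perm (Fin (a + r + 2)) :=
  (gfun_invol (by have := D.room; omega) D.invol D.fixT).toPerm _

theorem G_apply (i : Fin (a + r + 2)) : D.G i = gfun a r D.π i := rfl

theorem G_mul : D.G * D.G = 1 := Equiv.ext fun i =>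
  (gfun_invol (by have := D.room; omega) D.invol D.fixT) i

theorem G_gl1 (i : Fin (a + 2)) : D.G (gl1 a r i) = gl2 a r (D.π i) := by
  apply Fin.ext
  rw [D.G_apply]
  by_cases h : i.val < a + 2 - r
  · rw [gfun_lo (by rw [gl1_val]; exact h), gl2_lo a r (pi_lt D.fixT h)]
    rfl
  · rw [gfun_mid (by rw [gl1_val]; exact h) (by rw [gl1_val]; exact i.2), D.fixT i (by omega), gl2_hi a r h, gl1_val]

theorem G_emb (x : A (a + 2)) :
    pconj D.G (emb (gl1 a r) x) = emb (gl2 a r) (pconj D.π x) := pconj_emb _ _ _ _ D.G_gl1 x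

theorem model_agree {x : A (a + 2)} (hx : Supp (glK a r) x) :
    pconj D.G (emb (gl1 a r) (pconj D.π x)) = emb (gl1 a r) x := by
  rw [D.G_emb, pconj_pconj D.invol, emb_gl_eq hx]

theorem model_comm : Commute (emb (gl1 a r) D.p1) (pconj D.G (emb (gl1 a r) (pconj D.π D.q1))) := by
  rw [D.G_emb, pconj_pconj D.invol]
  refine Supp.commute (S := (D.E1 ∪ glT a r).map (gl1 a r)) (S' := (D.E2 ∪ glT a r).map (gl2 a r)) ?_ ?_ ?_
  · rw [Finset.disjoint_left]
    intro z hz hz'
    obtain ⟨i, hi, rfl⟩ := Finset.mem_map.1 hz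
    obtain ⟨j, hj, hij⟩ := Finset.mem_map.1 hz'
    have h := congrArg Fin.val hij
    rw [gl1_val] at h
    by_cases hj' : j.val < a + 2 - r
    · rw [gl2_lo a r hj'] at h
      have e : j = i := Fin.ext h
      subst e
      have hjT : j ∉ glT a r := fun h' => by rw [mem_glT] at h'; omega
      exact Finset.disjoint_left.1 D.disj ((Finset.mem_union.1 hi).resolve_right hjT)
        ((Finset.mem_union.1 hj).resolve_right hjT)
    · rw [gl2_hi a r hj'] at h
      have := i.2
      omega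
  · intro z hz
    by_cases hz' : z ∈ pts (gl1 a r)
    · obtain ⟨i, rfl⟩ := mem_pts.1 hz'
      rw [emb_apply, D.suppP i fun h => hz (Finset.mem_map_of_mem _ h)]
    · exact emb_supp _ _ z hz'
  · intro z hz
    by_cases hz' : z ∈ pts (gl2 a r)
    · obtain ⟨i, rfl⟩ := mem_pts.1 hz'
      rw [emb_apply, D.suppQ i fun h => hz (Finset.mem_map_of_mem _ h)]
    · exact emb_supp _ _ z hz'

include D in
theorem top : closure (Set.range (emb (gl1 a r)) ∪ Set.range (emb (gl2 a r))) = ⊤ :=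
  glue_top a r (by have := D.room; omega)

/-- Gluing: the copy, the involution, agreement on the common points, one commutation. -/
theorem hom {Q : Type*} [Group Q] (φ : A (a + 2) →* Q) (g : Q) (hg : g * g = 1)
    (hag : ∀ x, Supp (glK a r) x → g * φ (pconj D.π x) * g⁻¹ = φ x)
    (hpq : Commute (φ D.p1) (g * φ (pconj D.π D.q1) * g⁻¹)) :
    ∃ θ : A (a + r + 2) →* Q, (∀ x, θ (emb (gl1 a r) x) = φ x) ∧
      ∀ z, g * θ z * g⁻¹ = θ (pconj D.G z) := by
  set φ₂ : A (a + 2) →* Q := ((MulAut.conj g).toMonoidHom.comp φ).comp (pconj D.π) with hφ₂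
  have e₂ : ∀ x, φ₂ x = g * φ (pconj D.π x) * g⁻¹ := fun x => rfl
  have hcomm : ∀ x y, Supp (glS1 a r) x → Supp (glS2 a r) y → Commute (φ x) (φ₂ y) := by
    intro x y hx hy
    refine commute_closures φ φ₂ ?_ (D.genP x hx) (D.genQ y hy)
    intro u hu v hv
    have hTK : ∀ i ∈ glT a r, i ∉ glK a r := fun i hi h => by rw [mem_glT] at hi; rw [mem_glK] at h; omega
    have big : ∀ (E E' : Finset (Fin (a + 2))), E ⊆ glK a r → Disjoint E E' → Disjoint E (E' ∪ glT a r) :=
      fun E E' hE hd => by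
        rw [Finset.disjoint_union_right]
        exact ⟨hd, Finset.disjoint_left.2 fun i hi hi' => hTK i hi' (hE hi)⟩
    rcases hu with hu | hu <;> rcases hv with hv | hv
    · rw [Set.mem_singleton_iff] at hu hv
      rw [hu, hv, e₂]; exact hpq
    · rw [e₂, hag v (Supp.mono D.E2K hv)]
      rw [Set.mem_singleton_iff] at hu
      subst hu
      exact (Supp.commute (big D.E2 D.E1 D.E2K D.disj.symm) hv D.suppP).symm.map φ
    · rw [← hag u (Supp.mono D.E1K hu), ← e₂]
      rw [Set.mem_singleton_iff] at hv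
      subst hv
      exact (Supp.commute (big D.E1 D.E2 D.E1K D.disj) hu D.suppQ).map φ₂
    · rw [e₂, hag v (Supp.mono D.E2K hv)]
      exact (Supp.commute D.disj hu hv).map φ
  obtain ⟨θ, h1, h2⟩ := glue_hom a r D.pos D.room φ φ₂ (fun x hx => (hag x hx).symm) hcomm
  have t1 : ∀ x, θ (emb (gl1 a r) x) = φ x := fun x => DFunLike.congr_fun h1 x
  have t2 : ∀ x, θ (emb (gl2 a r) x) = φ₂ x := fun x => DFunLike.congr_fun h2 x
  refine ⟨θ, t1, fun z => ?_⟩
  refine DFunLike.congr_fun (MonoidHom.eq_of_eqOn_dense D.top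
    (f := (MulAut.conj g).toMonoidHom.comp θ) (g := θ.comp (pconj D.G)) ?_) z
  have hginv : g⁻¹ = g := inv_eq_of_mul_eq_one_right hg
  rintro _ (⟨x, rfl⟩ | ⟨x, rfl⟩)
  · show g * θ (emb (gl1 a r) x) * g⁻¹ = θ (pconj D.G (emb (gl1 a r) x))
    rw [D.G_emb, t1, t2, e₂, pconj_pconj D.invol]
  · show g * θ (emb (gl2 a r) x) * g⁻¹ = θ (pconj D.G (emb (gl2 a r) x))
    have h3 : emb (gl2 a r) x = pconj D.G (emb (gl1 a r) (pconj D.π x)) := by
      rw [D.G_emb, pconj_pconj D.invol]
    rw [t2, e₂, h3, pconj_pconj D.G_mul, t1, hginv, ← mul_assoc, ← mul_assoc, hg, one_mul, mul_assoc, hg, mul_one]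

end GlueData

end Cfsg.Agent.Small.BoundedPres
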