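import Mathlib
import Cfsg.Agent.Lib.Small.BoundedPres.GlueTwist

/-!
Generating sets and involutions used when gluing.
-/

set_option autoImplicit false
set_option linter.style.haveILetI false

namespace Cfsg.Agent.Small.BoundedPres

open Cfsg.Agent.Small.AltDeg Equiv Subgroup

/-- A second generator beside the standard three-cycle. -/
theorem two_gen_cyc (n : ℕ) (hn : 3 ≤ n) : ∃ c : A n, closure ({cyc (⟨0, by omega⟩ : Fin n)
    ⟨1, by omega⟩ ⟨2, by omega⟩ (by simp) (by simp) (by simp), c} : Set (A n)) = ⊤ := by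
  obtain ⟨c, hc⟩ : ∃ c : A n, ∀ i (h : i + 1 < n),
      ((c : Perm (Fin n)) ⟨i, by omega⟩).val ≤ i + 1 ∧
        (1 ≤ i → ((c : Perm (Fin n)) ⟨i, by omega⟩).val = i + 1) := by
    obtain ⟨m, rfl⟩ : ∃ m, n = m + 1 := ⟨n - 1, by omega⟩
    rcases Nat.even_or_odd m with hm | hm
    · have hs : Perm.sign (finRotate (m + 1)) = 1 := by
        rw [sign_finRotate]; simpa using hm.neg_one_pow
      refine ⟨⟨finRotate (m + 1), Perm.mem_alternatingGroup.2 hs⟩, fun i h => ?_⟩
      have e : (finRotate (m + 1) ⟨i, by omega⟩).val = i + 1 := by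
        rw [coe_finRotate_of_ne_last (by simp [Fin.ext_iff]; omega)]
      exact ⟨e.le, fun _ => e⟩
    · obtain ⟨l, rfl⟩ : ∃ l, m = l + 1 := ⟨m - 1, by omega⟩
      have hl : Even l := by
        obtain ⟨t, ht⟩ := hm
        exact ⟨t, by omega⟩
      have hs : Perm.sign (finRotate (l + 1)) = 1 := by
        rw [sign_finRotate]; simpa using hl.neg_one_pow
      let ι : Fin (l + 1) ↪ Fin (l + 1 + 1) := Fin.succEmb _
      refine ⟨emb ι ⟨finRotate (l + 1), Perm.mem_alternatingGroup.2 hs⟩, fun i h => ?_⟩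
      rcases Nat.eq_zero_or_pos i with rfl | hi
      · rw [emb_supp ι _ _ fun hh => ?_]
        · exact ⟨Nat.zero_le _, fun h => absurd h (by omega)⟩
        · obtain ⟨u, hu⟩ := mem_pts.1 hh
          exact absurd (congrArg Fin.val hu) (by simp [ι])
      · have e0 : (⟨i, by omega⟩ : Fin (l + 1 + 1)) = ι ⟨i - 1, by omega⟩ := by
          simp [ι, Fin.ext_iff]; omega
        have e : ((emb ι ⟨finRotate (l + 1), Perm.mem_alternatingGroup.2 hs⟩ : Perm (Fin (l + 1 + 1)))
            ⟨i, by omega⟩).val = i + 1 := by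
          rw [e0, emb_apply]
          show (Fin.succ (finRotate (l + 1) ⟨i - 1, by omega⟩)).val = i + 1
          rw [Fin.val_succ, coe_finRotate_of_ne_last (by simp [Fin.ext_iff]; omega)]
          simp only
          omega
        exact ⟨e.le, fun _ => e⟩
  refine ⟨c, eq_top_of_chain _ fun j hj => ?_⟩
  set t := cyc (⟨0, by omega⟩ : Fin n) ⟨1, by omega⟩ ⟨2, by omega⟩ (by simp) (by simp) (by simp)
  obtain ⟨k, hk⟩ : ∃ k, j.val = k + 2 := ⟨j.val - 2, by omega⟩
  have main : ∀ k, k + 2 < n → (((c ^ k : A n) : Perm (Fin n)) ⟨0, by omega⟩).val ≤ k ∧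
      (((c ^ k : A n) : Perm (Fin n)) ⟨1, by omega⟩).val = k + 1 ∧
      (((c ^ k : A n) : Perm (Fin n)) ⟨2, by omega⟩).val = k + 2 := by
    intro k
    induction k with
    | zero => intro _; simp
    | succ k ih =>
      intro hk
      obtain ⟨h0, h1, h2⟩ := ih (by omega)
      have e : ∀ x : Fin n, ((c ^ (k + 1) : A n) : Perm (Fin n)) x =
          (c : Perm (Fin n)) (((c ^ k : A n) : Perm (Fin n)) x) := fun x => by
        rw [pow_succ']; rfl
      refine ⟨?_, ?_, ?_⟩
      · rw [e]
        have := (hc _ (show (((c ^ k : A n) : Perm (Fin n)) ⟨0, by omega⟩).val + 1 < n by omega)).1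
        exact le_trans this (by omega)
      · rw [e]
        have := (hc _ (show (((c ^ k : A n) : Perm (Fin n)) ⟨1, by omega⟩).val + 1 < n by omega)).2 (by omega)
        exact this.trans (by omega)
      · rw [e]
        have := (hc _ (show (((c ^ k : A n) : Perm (Fin n)) ⟨2, by omega⟩).val + 1 < n by omega)).2 (by omega)
        exact this.trans (by omega)
  obtain ⟨m0, m1, m2⟩ := main k (by omega)
  set a := ((c ^ k : A n) : Perm (Fin n)) ⟨0, by omega⟩
  set b := ((c ^ k : A n) : Perm (Fin n)) ⟨1, by omega⟩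
  have hab : a ≠ b := fun e => by rw [e] at m0; omega
  refine ⟨a, b, hab, show a.val < j.val by omega, show b.val < j.val by omega, ?_⟩
  have ej : ((c ^ k : A n) : Perm (Fin n)) ⟨2, by omega⟩ = j := Fin.ext (by omega)
  have hK : ∀ x : A n, x ∈ ({t, c} : Set (A n)) → x ∈ Subgroup.closure ({t, c} : Set (A n)) :=
    fun x hx => Subgroup.subset_closure hx
  have := Subgroup.mul_mem _ (Subgroup.mul_mem _ (Subgroup.pow_mem _ (hK c (Or.inr rfl)) k)
    (hK _ (Or.inl rfl))) (Subgroup.inv_mem _ (Subgroup.pow_mem _ (hK c (Or.inr rfl)) k))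
  rw [conj_cyc] at this
  convert this using 2
  exact ej.symm

/-- Supports of embedded elements. -/
theorem emb_supp_of {k r : ℕ} (ι : Fin k ↪ Fin r) {S : Finset (Fin r)} (h : ∀ i, ι i ∈ S) (x : A k) :
    Supp S (emb ι x) :=
  (emb_supp ι x).mono fun z hz => by obtain ⟨i, rfl⟩ := mem_pts.1 hz; exact h i

/-- An embedded three-cycle. -/
theorem emb_cyc {k r : ℕ} (ι : Fin k ↪ Fin r) {a b c : Fin k} (hab : a ≠ b) (hbc : b ≠ c) (hac : a ≠ c) :
    emb ι (cyc a b c hab hbc hac) = cyc (ι a) (ι b) (ι c) (ι.injective.ne hab) (ι.injective.ne hbc)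
      (ι.injective.ne hac) := by
  show emb ι (emb _ a3) = emb _ a3
  rw [emb_trans]
  congr 2
  ext u; fin_cases u <;> rfl

/-- Generation through an injection. -/
theorem mem_closure_emb {k r : ℕ} (ι : Fin k ↪ Fin r) {T : Set (A k)} (hT : closure T = ⊤)
    {U : Set (A r)} (hTU : ∀ t ∈ T, emb ι t ∈ closure U) {x : A r} (hx : Supp (pts ι) x) :
    x ∈ closure U := by
  obtain ⟨y, rfl⟩ := mem_range_of_supp ι hx
  have hy : y ∈ closure T := hT ▸ Subgroup.mem_top y
  exact ((closure_le ((closure U).comap (emb ι))).2 (fun t ht => hTU t ht)) hy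

/-! Involutions. -/

theorem sign_of_invol {α : Type*} [Fintype α] [DecidableEq α] {σ : Perm α} (h : σ * σ = 1) {N : ℕ}
    (hN : σ.support.card = 2 * N) : Perm.sign σ = (-1) ^ N := by
  have h2 : σ ^ 2 = 1 := by rw [pow_two, h]
  have hc := Perm.cycleType_of_pow_prime_eq_one (p := 2) h2
  have hs := σ.sum_cycleType
  rw [hc, Multiset.sum_replicate, hN, smul_eq_mul] at hs
  rw [Perm.sign_of_cycleType, hc, Multiset.sum_replicate, Multiset.card_replicate, smul_eq_mul,
    show σ.cycleType.card = N by omega, pow_add, pow_mul', neg_one_sq, one_pow, one_mul]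

theorem isConj_of_invol {α : Type*} [Fintype α] [DecidableEq α] {σ τ : Perm α} (hσ : σ * σ = 1)
    (hτ : τ * τ = 1) (hc : σ.support.card = τ.support.card) : IsConj σ τ := by
  refine Perm.isConj_iff_cycleType_eq.2 ?_
  have c1 := Perm.cycleType_of_pow_prime_eq_one (p := 2) (show σ ^ 2 = 1 by rw [pow_two, hσ])
  have c2 := Perm.cycleType_of_pow_prime_eq_one (p := 2) (show τ ^ 2 = 1 by rw [pow_two, hτ])
  have s1 := σ.sum_cycleType
  have s2 := τ.sum_cycleType
  rw [c1, Multiset.sum_replicate, smul_eq_mul] at s1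
  rw [c2, Multiset.sum_replicate, smul_eq_mul] at s2
  rw [c1, c2]
  congr 1
  omega

/-- Conjugate involutions are conjugate by an even permutation. -/
theorem exists_alt_conj {n : ℕ} {σ τ : Perm (Fin n)} (hσ : σ * σ = 1) (hτ : τ * τ = 1)
    (hc : σ.support.card = τ.support.card) (hne : σ ≠ 1) : ∃ z : A n, 
      (z : Perm (Fin n)) * σ * (z : Perm (Fin n))⁻¹ = τ := by
  obtain ⟨π, hπ⟩ := isConj_iff.1 (isConj_of_invol hσ hτ hc)
  obtain ⟨x, hx⟩ : ∃ x, σ x ≠ x := by
    by_contra h
    exact hne (Equiv.ext fun x => by simpa using (not_exists.1 h x))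
  have hxx : σ (σ x) = x := by rw [← Perm.mul_apply, hσ, Perm.one_apply]
  have ht : σ * Equiv.swap x (σ x) * σ⁻¹ = Equiv.swap x (σ x) := by
    have h1 := Equiv.swap_apply_apply σ x (σ x)
    rw [hxx] at h1
    rw [← h1, Equiv.swap_comm]
  rcases Int.units_eq_one_or (Perm.sign π) with hs | hs
  · exact ⟨⟨π, Perm.mem_alternatingGroup.2 hs⟩, hπ⟩
  · refine ⟨⟨π * Equiv.swap x (σ x), Perm.mem_alternatingGroup.2 (by
      rw [map_mul, hs, Perm.sign_swap (Ne.symm hx)]; rfl)⟩, ?_⟩
    have hc' : Equiv.swap x (σ x) * σ * (Equiv.swap x (σ x))⁻¹ = σ := by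
      rw [mul_inv_eq_iff_eq_mul]
      conv_lhs => rw [← ht]
      group
    calc π * Equiv.swap x (σ x) * σ * (π * Equiv.swap x (σ x))⁻¹
        = π * (Equiv.swap x (σ x) * σ * (Equiv.swap x (σ x))⁻¹) * π⁻¹ := by group
      _ = τ := by rw [hc', hπ]

theorem GlueData.G_support {a r : ℕ} (D : GlueData a r) :
    D.G.support.card = D.π.support.card + 2 * r := by
  classical
  have hroom := D.room
  have hpos := D.pos
  let P : Finset (Fin (a + r + 2)) := D.π.support.map (gl1 a r)
  let T : Finset (Fin (a + r + 2)) := Finset.Ici ⟨a + 2 - r, by omega⟩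
  have hmemT : ∀ i, i ∈ T ↔ a + 2 - r ≤ i.val := fun i => by simp [T, Fin.le_def]
  have hlow : ∀ i ∈ P, i.val < a + 2 - r := by
    intro i hi
    obtain ⟨j, hj, rfl⟩ := Finset.mem_map.1 hi
    rw [gl1_val]
    by_contra h
    exact Perm.mem_support.1 hj (D.fixT j (by omega))
  have e : D.G.support = P ∪ T := by
    ext i
    rw [Perm.mem_support, Finset.mem_union, hmemT]
    by_cases h : i.val < a + 2 - r
    · have hv : (D.G i).val = (D.π ⟨i.val, by omega⟩).val := by rw [D.G_apply, gfun_lo h]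
      constructor
      · intro hne
        refine Or.inl (Finset.mem_map.2 ⟨⟨i.val, by omega⟩, Perm.mem_support.2 fun hf => hne (Fin.ext ?_), Fin.ext rfl⟩)
        rw [hv, hf]
      · rintro (hP | hT)
        · obtain ⟨j, hj, rfl⟩ := Finset.mem_map.1 hP
          intro hf
          refine Perm.mem_support.1 hj (Fin.ext ?_)
          have := congrArg Fin.val hf
          rw [hv] at this
          exact this
        · omega
    · refine ⟨fun _ => Or.inr (by omega), fun _ hf => ?_⟩
      have h2 := congrArg Fin.val hf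
      rw [D.G_apply] at h2
      by_cases h' : i.val < a + 2
      · rw [gfun_mid h h'] at h2; have := D.pos; omega
      · rw [gfun_hi h h'] at h2; have := D.pos; omega
  rw [e, Finset.card_union_of_disjoint, Finset.card_map, Fin.card_Ici]
  · simp only; omega
  · rw [Finset.disjoint_left]
    intro i hi hi'
    have := hlow i hi
    rw [hmemT] at hi'
    omega

end Cfsg.Agent.Small.BoundedPres
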