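import Mathlib
import Cfsg.Agent.Lib.Small.BoundedPres.GlueGen

/-!
Concrete gluing data.
-/

set_option autoImplicit false
set_option linter.style.haveILetI false

namespace Cfsg.Agent.Small.BoundedPres

open Cfsg.Agent.Small.AltDeg Equiv Subgroup

/-- Marked points of the first commuting set. -/
def mkL1 (i : ℕ) : ℕ := if i = 0 then 3 else if i = 1 then 5 else if i = 2 then 0 else 2 * i + 1

/-- Marked points of the second commuting set. -/
def mkL2 (i : ℕ) : ℕ := if i = 0 then 2 else if i = 1 then 4 else if i = 2 then 1 else 2 * i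

theorem mkL1_inj {i j : ℕ} (h : mkL1 i = mkL1 j) : i = j := by
  unfold mkL1 at h; split_ifs at h <;> omega

theorem mkL2_inj {i j : ℕ} (h : mkL2 i = mkL2 j) : i = j := by
  unfold mkL2 at h; split_ifs at h <;> omega

theorem mkL_ne (i j : ℕ) : mkL1 i ≠ mkL2 j := by
  unfold mkL1 mkL2; split_ifs <;> omega

/-- Marked points followed by the private points. -/
def sEmb (L : ℕ → ℕ) (hL : ∀ i j, L i = L j → i = j) (a r e : ℕ) (hr : r ≤ a + 2)
    (hb : ∀ i, i < e → L i < a + 2 - r) : Fin (e + r) ↪ Fin (a + 2) :=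
  ⟨fun i => if h : i.val < e then ⟨L i.val, by have := hb _ h; omega⟩
    else ⟨a + 2 - r + (i.val - e), by have := i.2; omega⟩, fun i j h => by
    dsimp only at h
    split_ifs at h with h1 h2 h2 <;> simp only [Fin.ext_iff] at h ⊢
    · exact hL _ _ h
    · have := hb _ h1; omega
    · have := hb _ h2; omega
    · omega⟩

theorem sEmb_lo (L : ℕ → ℕ) (hL : ∀ i j, L i = L j → i = j) (a r e : ℕ) (hr : r ≤ a + 2)
    (hb : ∀ i, i < e → L i < a + 2 - r) {i : Fin (e + r)} (hi : i.val < e) :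
    (sEmb L hL a r e hr hb i).val = L i.val := by
  show (dite _ _ _ : Fin (a + 2)).val = _
  rw [dif_pos hi]

theorem sEmb_hi (L : ℕ → ℕ) (hL : ∀ i j, L i = L j → i = j) (a r e : ℕ) (hr : r ≤ a + 2)
    (hb : ∀ i, i < e → L i < a + 2 - r) {i : Fin (e + r)} (hi : ¬ i.val < e) :
    (sEmb L hL a r e hr hb i).val = a + 2 - r + (i.val - e) := by
  show (dite _ _ _ : Fin (a + 2)).val = _
  rw [dif_neg hi]

/-- The marked points as a set. -/
def markSet (L : ℕ → ℕ) (a e : ℕ) : Finset (Fin (a + 2)) :=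
  Finset.univ.filter fun x => x.val ∈ (Finset.range e).image L

theorem mem_markSet {L : ℕ → ℕ} {a e : ℕ} {x : Fin (a + 2)} :
    x ∈ markSet L a e ↔ ∃ i, i < e ∧ L i = x.val := by simp [markSet]

theorem sEmb_gen (L : ℕ → ℕ) (hL : ∀ i j, L i = L j → i = j) (a r e : ℕ) (hr : r ≤ a + 2) (he : 3 ≤ e)
    (hb : ∀ i, i < e → L i < a + 2 - r) (c : A (e + r))
    (hc : closure ({cyc (⟨0, by omega⟩ : Fin (e + r)) ⟨1, by omega⟩ ⟨2, by omega⟩ (by simp) (by simp) (by simp), c}
      : Set (A (e + r))) = ⊤) :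
    Supp (markSet L a e ∪ glT a r) (emb (sEmb L hL a r e hr hb) c) ∧
      ∀ x, Supp (pts (sEmb L hL a r e hr hb)) x → x ∈ closure
        ({emb (sEmb L hL a r e hr hb) c} ∪ {d | Supp (markSet L a e) d} : Set (A (a + 2))) := by
  refine ⟨emb_supp_of _ (fun i => ?_) _, fun x hx => mem_closure_emb _ hc ?_ hx⟩
  · rw [Finset.mem_union]
    by_cases hi : i.val < e
    · exact Or.inl (mem_markSet.2 ⟨i.val, hi, (sEmb_lo L hL a r e hr hb hi).symm⟩)
    · exact Or.inr (mem_glT.2 (by rw [sEmb_hi L hL a r e hr hb hi]; omega))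
  · rintro t (rfl | rfl)
    · refine subset_closure (Or.inr ?_)
      rw [emb_cyc]
      refine (cyc_supp _ _ _).mono fun z hz => ?_
      simp only [Finset.mem_insert, Finset.mem_singleton] at hz
      rcases hz with rfl | rfl | rfl
      · exact mem_markSet.2 ⟨0, by omega, (sEmb_lo L hL a r e hr hb (i := ⟨0, by omega⟩) (show 0 < e by omega)).symm⟩
      · exact mem_markSet.2 ⟨1, by omega, (sEmb_lo L hL a r e hr hb (i := ⟨1, by omega⟩) (show 1 < e by omega)).symm⟩
      · exact mem_markSet.2 ⟨2, by omega, (sEmb_lo L hL a r e hr hb (i := ⟨2, by omega⟩) (show 2 < e by omega)).symm⟩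
    · exact subset_closure (Or.inl rfl)

/-- Gluing data from one element on the marked and private points. -/
noncomputable def mkData (a r e : ℕ) (hr : 1 ≤ r) (hk : r + 4 ≤ a) (he : 3 ≤ e)
    (he2 : e = 3 ∨ 2 * e ≤ a + 2 - r) (π : Perm (Fin (a + 2))) (hπ : π * π = 1)
    (hfix : ∀ i : Fin (a + 2), a + 2 - r ≤ i.val → π i = i) (c : A (e + r))
    (hc : closure ({cyc (⟨0, by omega⟩ : Fin (e + r)) ⟨1, by omega⟩ ⟨2, by omega⟩ (by simp) (by simp) (by simp), c}
      : Set (A (e + r))) = ⊤) : GlueData a r where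
  pos := hr
  room := hk
  π := π
  invol := hπ
  fixT := hfix
  E1 := markSet mkL1 a e
  E2 := markSet mkL2 a e
  E1K := fun x hx => by
    obtain ⟨i, hi, h⟩ := mem_markSet.1 hx
    rw [mem_glK, ← h]; unfold mkL1; split_ifs <;> omega
  E2K := fun x hx => by
    obtain ⟨i, hi, h⟩ := mem_markSet.1 hx
    rw [mem_glK, ← h]; unfold mkL2; split_ifs <;> omega
  disj := Finset.disjoint_left.2 fun x h1 h2 => by
    obtain ⟨i, -, h⟩ := mem_markSet.1 h1
    obtain ⟨j, -, h'⟩ := mem_markSet.1 h2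
    exact mkL_ne i j (h.trans h'.symm)
  p1 := emb (sEmb mkL1 (fun _ _ => mkL1_inj) a r e (by omega)
    (fun i hi => by unfold mkL1; split_ifs <;> omega)) c
  q1 := emb (sEmb mkL2 (fun _ _ => mkL2_inj) a r e (by omega)
    (fun i hi => by unfold mkL2; split_ifs <;> omega)) c
  suppP := (sEmb_gen _ _ a r e _ he _ c hc).1
  suppQ := (sEmb_gen _ _ a r e _ he _ c hc).1
  genP := fun x hx => (sEmb_gen _ _ a r e _ he _ c hc).2 x (hx.mono fun z hz => by
    rw [mem_glS1] at hz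
    rw [mem_pts]
    have := z.2
    rcases hz with h | h | h
    · exact ⟨⟨0, by omega⟩, Fin.ext (by rw [sEmb_lo _ _ a r e _ _ (show 0 < e by omega), h]; rfl)⟩
    · exact ⟨⟨1, by omega⟩, Fin.ext (by rw [sEmb_lo _ _ a r e _ _ (show 1 < e by omega), h]; rfl)⟩
    · exact ⟨⟨e + (z.val - (a + 2 - r)), by omega⟩, Fin.ext (by
        rw [sEmb_hi _ _ a r e _ _ (show ¬ e + (z.val - (a + 2 - r)) < e by omega)]; simp only; omega)⟩)
  genQ := fun x hx => (sEmb_gen _ _ a r e _ he _ c hc).2 x (hx.mono fun z hz => by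
    rw [mem_glS2] at hz
    rw [mem_pts]
    have := z.2
    rcases hz with h | h | h
    · exact ⟨⟨0, by omega⟩, Fin.ext (by rw [sEmb_lo _ _ a r e _ _ (show 0 < e by omega), h]; rfl)⟩
    · exact ⟨⟨1, by omega⟩, Fin.ext (by rw [sEmb_lo _ _ a r e _ _ (show 1 < e by omega), h]; rfl)⟩
    · exact ⟨⟨e + (z.val - (a + 2 - r)), by omega⟩, Fin.ext (by
        rw [sEmb_hi _ _ a r e _ _ (show ¬ e + (z.val - (a + 2 - r)) < e by omega)]; simp only; omega)⟩)

/-- The common points as an injection. -/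
def kEmb (a r : ℕ) : Fin (a + 2 - r) ↪ Fin (a + 2) := Fin.castLEEmb (by omega)

theorem pts_kEmb (a r : ℕ) : pts (kEmb a r) = glK a r := by
  ext x
  rw [mem_pts, mem_glK]
  exact ⟨by rintro ⟨i, rfl⟩; exact i.2, fun h => ⟨⟨x.val, h⟩, Fin.ext rfl⟩⟩

theorem kEmb_supp (a r : ℕ) (x : A (a + 2 - r)) : Supp (glK a r) (emb (kEmb a r) x) :=
  pts_kEmb a r ▸ emb_supp _ x

/-- An involution of the common points acting on the first copy. -/
noncomputable def kLift (a r : ℕ) (σ : Perm (Fin (a + 2 - r))) : Perm (Fin (a + 2)) :=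
  Perm.viaEmbedding σ (kEmb a r)

theorem kLift_apply (a r : ℕ) (σ : Perm (Fin (a + 2 - r))) (i : Fin (a + 2 - r)) :
    kLift a r σ (kEmb a r i) = kEmb a r (σ i) := Perm.viaEmbedding_apply _ _ _

theorem kLift_fix (a r : ℕ) (σ : Perm (Fin (a + 2 - r))) (i : Fin (a + 2)) (hi : a + 2 - r ≤ i.val) :
    kLift a r σ i = i :=
  Perm.viaEmbedding_apply_of_notMem _ _ _ fun ⟨j, hj⟩ => by
    have := congrArg Fin.val hj; have := j.2; simp [kEmb] at *; omega

theorem kLift_mul (a r : ℕ) {σ : Perm (Fin (a + 2 - r))} (h : σ * σ = 1) :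
    kLift a r σ * kLift a r σ = 1 := by
  show Perm.viaEmbeddingHom (kEmb a r) σ * Perm.viaEmbeddingHom (kEmb a r) σ = 1
  rw [← map_mul, h, map_one]

theorem kLift_support (a r : ℕ) (σ : Perm (Fin (a + 2 - r))) :
    (kLift a r σ).support.card = σ.support.card := by
  rw [← Finset.card_map (kEmb a r)]
  congr 1
  ext x
  rw [Perm.mem_support, Finset.mem_map]
  by_cases hx : x.val < a + 2 - r
  · obtain ⟨y, rfl⟩ : ∃ y, kEmb a r y = x := ⟨⟨x.val, hx⟩, Fin.ext rfl⟩
    rw [kLift_apply]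
    refine ⟨fun h => ⟨_, Perm.mem_support.2 fun h' => h (by rw [h']), rfl⟩, ?_⟩
    rintro ⟨j, hj, hje⟩ h
    rw [← (kEmb a r).injective hje] at h
    exact Perm.mem_support.1 hj ((kEmb a r).injective h)
  · refine ⟨fun h => absurd (kLift_fix a r σ x (by omega)) h, ?_⟩
    rintro ⟨j, -, rfl⟩
    exact absurd j.2 hx

theorem pconj_kLift (a r : ℕ) (σ : Perm (Fin (a + 2 - r))) (y : A (a + 2 - r)) :
    pconj (kLift a r σ) (emb (kEmb a r) y) = emb (kEmb a r) (pconj σ y) :=
  pconj_emb _ _ _ _ (kLift_apply a r σ) y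

end Cfsg.Agent.Small.BoundedPres
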