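import Mathlib
import Cfsg.Agent.Lib.Small.BoundedPres.GlueCases

/-!
Elements generating with a conjugate or a marked three-cycle.
-/

set_option autoImplicit false
set_option linter.style.haveILetI false

namespace Cfsg.Agent.Small.BoundedPres

open Cfsg.Agent.Small.AltDeg Equiv Subgroup

theorem rot_zero_pow (l j : ℕ) (hj : j ≤ l) : ((finRotate (l + 1) ^ j) 0).val = j := by
  induction j with
  | zero => simp
  | succ j ih =>
    have h1 := ih (by omega)
    rw [pow_succ', Perm.mul_apply, coe_finRotate_of_ne_last (by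
      intro h; rw [h, Fin.val_last] at h1; omega), h1]

theorem rot_eq_pow (l : ℕ) (x : Fin (l + 1)) : (finRotate (l + 1) ^ x.val) 0 = x :=
  Fin.ext (rot_zero_pow l x.val (by omega))

theorem rot_pow_self (l : ℕ) : finRotate (l + 1) ^ (l + 1) = 1 := by
  refine Equiv.ext fun x => ?_
  have h0 : (finRotate (l + 1) ^ (l + 1)) 0 = 0 := by
    rw [pow_succ', Perm.mul_apply]
    have : (finRotate (l + 1) ^ l) 0 = Fin.last l := Fin.ext (by rw [rot_zero_pow l l le_rfl, Fin.val_last])
    rw [this, finRotate_last]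
  conv_lhs => rw [← rot_eq_pow l x]
  rw [← Perm.mul_apply, (Commute.pow_pow_self (finRotate (l + 1)) (l + 1) x.val).eq, Perm.mul_apply, h0, rot_eq_pow]
  rfl

/-- An even long cycle times a transposition. -/
theorem gen_invol (h N : ℕ) (hh : Odd h) (hN : N = 2 + 2 * h) : ∃ c : A N,
    closure ({cyc (⟨0, by omega⟩ : Fin N) ⟨1, by omega⟩ ⟨2, by have := hh.pos; omega⟩
      (by simp) (by simp) (by simp), c} : Set (A N)) = ⊤ ∧
    c ^ h * c ^ h = 1 ∧ ((c ^ h : A N) : Perm (Fin N)).support.card = N := by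
  obtain ⟨l, hl⟩ : ∃ l, 2 * h = l + 1 := ⟨2 * h - 1, by have := hh.pos; omega⟩
  have hloddN : Odd l := by obtain ⟨s, hs⟩ := hh; exact ⟨2 * s, by omega⟩
  obtain rfl : N = 2 + (l + 1) := by omega
  let F : Perm (Fin 2 ⊕ Fin (l + 1)) := Equiv.sumCongr (Equiv.swap 0 1) (finRotate (l + 1))
  have hF : Perm.sign (finSumFinEquiv.permCongr F) = 1 := by
    rw [Perm.sign_permCongr, Perm.sign_sumCongr, Perm.sign_swap (by decide), sign_finRotate, Nat.add_sub_cancel, hloddN.neg_one_pow]
    rfl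
  set c : A (2 + (l + 1)) := ⟨finSumFinEquiv.permCongr F, Perm.mem_alternatingGroup.2 hF⟩
  have hL : ∀ x, (c : Perm (Fin (2 + (l + 1)))) (Fin.castAdd (l + 1) x) = Fin.castAdd (l + 1) (Equiv.swap 0 1 x) := by
    intro x; simp [c, F, Equiv.permCongr_apply]
  have hR : ∀ x, (c : Perm (Fin (2 + (l + 1)))) (Fin.natAdd 2 x) = Fin.natAdd 2 (finRotate (l + 1) x) := by
    intro x; simp [c, F, Equiv.permCongr_apply]
  have hLp : ∀ (j : ℕ) x, ((c ^ j : A _) : Perm (Fin (2 + (l + 1)))) (Fin.castAdd (l + 1) x) =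
      Fin.castAdd (l + 1) ((Equiv.swap 0 1 ^ j) x) := by
    intro j
    induction j with
    | zero => intro x; simp
    | succ j ih => intro x; rw [pow_succ', Subgroup.coe_mul, Perm.mul_apply, ih, hL, pow_succ', Perm.mul_apply]
  have hRp : ∀ (j : ℕ) x, ((c ^ j : A _) : Perm (Fin (2 + (l + 1)))) (Fin.natAdd 2 x) =
      Fin.natAdd 2 ((finRotate (l + 1) ^ j) x) := by
    intro j
    induction j with
    | zero => intro x; simp
    | succ j ih => intro x; rw [pow_succ', Subgroup.coe_mul, Perm.mul_apply, ih, hR, pow_succ', Perm.mul_apply]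
  refine ⟨c, ?_, ?_, ?_⟩
  · refine eq_top_of_chain _ fun j hj => ?_
    set i : ℕ := j.val - 2 with hi
    have hji : ((c ^ i : A _) : Perm (Fin (2 + (l + 1)))) ⟨2, by omega⟩ = j := by
      have h2 := hRp i 0
      have e1 : (⟨2, by omega⟩ : Fin (2 + (l + 1))) = Fin.natAdd 2 0 := Fin.ext rfl
      rw [e1, h2]
      exact Fin.ext (by rw [Fin.val_natAdd, rot_zero_pow l i (by omega)]; omega)
    set a := ((c ^ i : A _) : Perm (Fin (2 + (l + 1)))) ⟨0, by omega⟩ with ha
    set b := ((c ^ i : A _) : Perm (Fin (2 + (l + 1)))) ⟨1, by omega⟩ with hb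
    have hab : a ≠ b := fun e => by
      have := (Equiv.injective _) e
      simp at this
    have ha2 : a.val < 2 := by
      rw [ha, show (⟨0, by omega⟩ : Fin (2 + (l + 1))) = Fin.castAdd (l + 1) 0 from Fin.ext rfl, hLp, Fin.val_castAdd]
      exact Fin.is_lt _
    have hb2 : b.val < 2 := by
      rw [hb, show (⟨1, by omega⟩ : Fin (2 + (l + 1))) = Fin.castAdd (l + 1) 1 from Fin.ext rfl, hLp, Fin.val_castAdd]
      exact Fin.is_lt _
    refine ⟨a, b, hab, show a.val < j.val by omega, show b.val < j.val by omega, ?_⟩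
    set t := cyc (⟨0, by omega⟩ : Fin (2 + (l + 1))) ⟨1, by omega⟩ ⟨2, by omega⟩ (by simp) (by simp) (by simp)
    have hc' : c ∈ closure ({t, c} : Set (A (2 + (l + 1)))) := Subgroup.subset_closure (Or.inr rfl)
    have ht' : t ∈ closure ({t, c} : Set (A (2 + (l + 1)))) := Subgroup.subset_closure (Or.inl rfl)
    have h1 : c ^ i * t * (c ^ i)⁻¹ ∈ closure ({t, c} : Set (A (2 + (l + 1)))) :=
      mul_mem (mul_mem (pow_mem hc' _) ht') (inv_mem (pow_mem hc' _))
    rw [show c ^ i * t * (c ^ i)⁻¹ = _ from conj_cyc (c ^ i) _ _ _] at h1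
    convert h1 using 2
    exact hji.symm
  · refine Subtype.ext (Equiv.ext fun x => ?_)
    rw [← pow_add, show h + h = l + 1 by omega]
    induction x using Fin.addCases with
    | left x =>
      rw [hLp]
      have : (Equiv.swap (0 : Fin 2) 1) ^ (l + 1) = 1 := by
        rw [← hl, pow_mul, pow_two, Equiv.swap_mul_self, one_pow]
      rw [this]; rfl
    | right x => rw [hRp, rot_pow_self]; rfl
  · refine (congrArg Finset.card (Finset.eq_univ_of_forall fun x => ?_)).trans (Finset.card_fin _)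
    rw [Perm.mem_support]
    induction x using Fin.addCases with
    | left x =>
      rw [hLp]
      intro e
      have e' := Fin.castAdd_injective _ _ e
      obtain ⟨s, rfl⟩ := hh
      rw [pow_succ, pow_mul, pow_two, Equiv.swap_mul_self, one_pow, one_mul] at e'
      fin_cases x <;> simp at e'
    | right x =>
      rw [hRp]
      intro e
      have e' := Fin.natAdd_injective _ _ e
      conv at e' => lhs; rw [← rot_eq_pow l x]
      conv at e' => rhs; rw [← rot_eq_pow l x]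
      rw [← Perm.mul_apply, (Commute.pow_pow_self (finRotate (l + 1)) h x.val).eq, Perm.mul_apply] at e'
      have := congrArg Fin.val ((Equiv.injective _) e')
      rw [rot_zero_pow l h (by omega)] at this
      simp at this
      have := hh.pos
      omega

/-- Involutive relabelling of the common points. -/
def piFun (k e : ℕ) (he : e + 4 ≤ k) (i : Fin k) : Fin k :=
  if i.val = 2 then ⟨3, by omega⟩ else if i.val = 3 then ⟨2, by omega⟩
  else if _h : 4 ≤ i.val ∧ i.val < 3 + e then ⟨k - 1 - (i.val - 4), by omega⟩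
  else if _h' : k + 1 ≤ i.val + e then ⟨4 + (k - 1 - i.val), by omega⟩ else i

theorem piFun_lo (k e : ℕ) (he : e + 4 ≤ k) (i : Fin k) (h : i.val < 2) : (piFun k e he i).val = i.val := by
  unfold piFun
  rw [if_neg (by omega), if_neg (by omega), dif_neg (by omega)]
  split_ifs with h'
  · have := i.2; simp only; omega
  · rfl

theorem piFun_two (k e : ℕ) (he : e + 4 ≤ k) (h2 : 2 < k) : (piFun k e he ⟨2, h2⟩).val = 3 := by
  unfold piFun; rw [if_pos rfl]

theorem piFun_top (k e : ℕ) (he : e + 4 ≤ k) (hk : 2 * e + 2 ≤ k) (j : ℕ) (hj' : k - j + 3 < k)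
    (hj : k + 1 ≤ j + e) (hjk : j < k) : (piFun k e he ⟨k - j + 3, hj'⟩).val = j := by
  unfold piFun
  rw [if_neg (by simp only; omega), if_neg (by simp only; omega), dif_pos (by simp only; omega)]
  simp only; omega

theorem piFun_invol (k e : ℕ) (he : e + 4 ≤ k) (hk : 2 * e + 2 ≤ k) : Function.Involutive (piFun k e he) := by
  intro i
  have hi := i.2
  apply Fin.ext
  by_cases h2 : i.val = 2
  · have e1 : (piFun k e he i).val = 3 := by unfold piFun; rw [if_pos h2]
    unfold piFun at e1 ⊢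
    rw [if_neg (by omega), if_pos e1]
    simp only; omega
  by_cases h3 : i.val = 3
  · have e1 : (piFun k e he i).val = 2 := by unfold piFun; rw [if_neg h2, if_pos h3]
    unfold piFun at e1 ⊢
    rw [if_pos e1]
    simp only; omega
  by_cases h4 : 4 ≤ i.val ∧ i.val < 3 + e
  · have e1 : (piFun k e he i).val = k - 1 - (i.val - 4) := by
      unfold piFun; rw [if_neg h2, if_neg h3, dif_pos h4]
    unfold piFun at e1 ⊢
    rw [if_neg (by omega), if_neg (by omega), dif_neg (by omega), dif_pos (by omega)]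
    simp only; omega
  by_cases h5 : k + 1 ≤ i.val + e
  · have e1 : (piFun k e he i).val = 4 + (k - 1 - i.val) := by
      unfold piFun; rw [if_neg h2, if_neg h3, dif_neg h4, dif_pos h5]
    unfold piFun at e1 ⊢
    rw [if_neg (by omega), if_neg (by omega), dif_pos (by omega)]
    simp only; omega
  · have e1 : piFun k e he i = i := by
      unfold piFun; rw [if_neg h2, if_neg h3, dif_neg h4, dif_neg h5]
    rw [e1, e1]

theorem piFun_support (k e : ℕ) (he1 : 1 ≤ e) (hk : 2 * e + 2 ≤ k) (hk2 : 9 ≤ k) (σ : Perm (Fin k))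
    (hσ : ∀ i, σ i = piFun k e (by omega) i) : σ.support.card = 2 * e := by
  rw [← Finset.card_map Fin.valEmbedding]
  have key : ∀ i : Fin k, σ i ≠ i ↔
      i.val = 2 ∨ i.val = 3 ∨ (4 ≤ i.val ∧ i.val < 3 + e) ∨ k + 1 ≤ i.val + e := by
    intro i
    have hi := i.2
    rw [hσ, Ne, Fin.ext_iff]
    unfold piFun
    split_ifs with a b c d
    · simp only [a, true_or, iff_true]; omega
    · simp only [b, true_or, or_true, iff_true]; omega
    · simp only; omega
    · simp only; omega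
    · simp only [a, b, c, d, or_self, iff_false, not_not]
  have : σ.support.map Fin.valEmbedding =
      ({2, 3} ∪ Finset.Ico 4 (3 + e)) ∪ Finset.Ico (k + 1 - e) k := by
    ext v
    simp only [Finset.mem_map, Perm.mem_support, Fin.valEmbedding_apply, Finset.mem_union, Finset.mem_insert,
      Finset.mem_singleton, Finset.mem_Ico]
    constructor
    · rintro ⟨i, hi, rfl⟩
      have := i.2
      have := (key i).1 hi
      omega
    · intro hv
      exact ⟨⟨v, by omega⟩, (key _).2 (by simp only; omega), rfl⟩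
  rw [this, Finset.card_union_of_disjoint, Finset.card_union_of_disjoint]
  · simp; omega
  · rw [Finset.disjoint_left]; intro v; simp; omega
  · rw [Finset.disjoint_left]; intro v; simp; omega

theorem cyc_congr {k : ℕ} {a b c a' b' c' : Fin k} (hab : a ≠ b) (hbc : b ≠ c) (hac : a ≠ c)
    (hab' : a' ≠ b') (hbc' : b' ≠ c') (hac' : a' ≠ c') (ha : a = a') (hb : b = b') (hc : c = c') :
    cyc a b c hab hbc hac = cyc a' b' c' hab' hbc' hac' := by subst ha; subst hb; subst hc; rfl

theorem pconj_cyc {k : ℕ} (σ : Perm (Fin k)) {a b c : Fin k} (hab : a ≠ b) (hbc : b ≠ c) (hac : a ≠ c) :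
    pconj σ (cyc a b c hab hbc hac) = cyc (σ a) (σ b) (σ c) (σ.injective.ne hab) (σ.injective.ne hbc)
      (σ.injective.ne hac) := by
  have h : ∀ u, σ (three a b c hab hbc hac u) = three (σ a) (σ b) (σ c) (σ.injective.ne hab)
      (σ.injective.ne hbc) (σ.injective.ne hac) ((1 : Perm (Fin 3)) u) := by
    intro u; fin_cases u <;> rfl
  have h1 := pconj_emb σ 1 _ _ h a3
  rwa [show pconj (1 : Perm (Fin 3)) a3 = a3 from Subtype.ext (by simp [pconj_coe])] at h1

/-- A three-cycle and a disjoint cycle with a conjugate. -/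
theorem gen_cycle_conj (k l : ℕ) (hl : l + 4 ≤ k) (heven : Even l) (hl3 : (l + 1) % 3 ≠ 0)
    (σ : Perm (Fin k)) (hσ2 : σ * σ = 1) (s0 : σ ⟨0, by omega⟩ = ⟨0, by omega⟩)
    (s1 : σ ⟨1, by omega⟩ = ⟨1, by omega⟩) (s2 : σ ⟨2, by omega⟩ = ⟨3, by omega⟩)
    (htop : ∀ j : Fin k, l + 4 ≤ j.val → ∃ (i : ℕ) (hi : i ≤ l), σ ⟨i + 3, by omega⟩ = j) :
    ∃ k1 : A k, closure ({k1, pconj σ k1} : Set (A k)) = ⊤ := by
  obtain ⟨r0, hr0⟩ : ∃ r0 : A (l + 1), (r0 : Perm (Fin (l + 1))) = finRotate (l + 1) :=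
    ⟨⟨finRotate (l + 1), Perm.mem_alternatingGroup.2 (by rw [sign_finRotate, Nat.add_sub_cancel]; exact heven.neg_one_pow)⟩, rfl⟩
  obtain ⟨ι, hι⟩ : ∃ ι : Fin (l + 1) ↪ Fin k, ∀ i, (ι i).val = i.val + 3 :=
    ⟨⟨fun i => ⟨i.val + 3, by omega⟩, fun i j h => by simpa [Fin.ext_iff] using h⟩, fun i => rfl⟩
  have hlow : ∀ x : Fin k, x.val < 3 → x ∉ pts ι := fun x hx h => by
    obtain ⟨i, rfl⟩ := mem_pts.1 h
    rw [hι] at hx; omega
  obtain ⟨s, hs_def⟩ : ∃ s : A k, s = emb ι r0 := ⟨_, rfl⟩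
  have hs : s ^ (l + 1) = 1 := by
    rw [hs_def, ← map_pow, show r0 ^ (l + 1) = 1 from Subtype.ext (by rw [Subgroup.coe_pow, hr0, rot_pow_self]; rfl), map_one]
  have sfix : ∀ (i : ℕ) (x : Fin k), x.val < 3 → ((s ^ i : A k) : Perm (Fin k)) x = x := fun i x hx => by
    rw [hs_def, ← map_pow]; exact emb_supp ι _ x (hlow x hx)
  set t : A k := cyc ⟨0, by omega⟩ ⟨1, by omega⟩ ⟨2, by omega⟩ (by simp) (by simp) (by simp) with ht_def
  have hts : Commute t s := Supp.commute (S := {⟨0, by omega⟩, ⟨1, by omega⟩, ⟨2, by omega⟩}) (S' := pts ι) (by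
    rw [Finset.disjoint_left]
    intro z hz
    simp only [Finset.mem_insert, Finset.mem_singleton] at hz
    rcases hz with rfl | rfl | rfl <;> exact hlow _ (by simp))
    (ht_def ▸ cyc_supp _ _ _) (hs_def ▸ emb_supp _ _)
  have t3 : t ^ 3 = 1 := by
    rw [ht_def]; simp only [cyc]; rw [← map_pow, show a3 ^ 3 = 1 from Subtype.ext (by decide), map_one]
  refine ⟨t * s, ?_⟩
  set H := closure ({t * s, pconj σ (t * s)} : Set (A k))
  have hk1 : t * s ∈ H := Subgroup.subset_closure (Or.inl rfl)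
  have hstab : ∀ x ∈ H, pconj σ x ∈ H := by
    intro x hx
    refine (closure_le (H.comap (pconj σ))).2 ?_ hx
    rintro y (rfl | rfl)
    · exact Subgroup.subset_closure (Or.inr rfl)
    · show pconj σ (pconj σ (t * s)) ∈ H
      rw [pconj_pconj hσ2]; exact hk1
  have htH : t ∈ H := by
    have h1 : (t * s) ^ (l + 1) = t ^ ((l + 1) % 3) := by
      rw [hts.mul_pow, hs, mul_one]
      conv_lhs => rw [← Nat.mod_add_div (l + 1) 3, pow_add, pow_mul, t3, one_pow, mul_one]
    have h2 : t ^ ((l + 1) % 3) ∈ H := h1 ▸ pow_mem hk1 _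
    rcases (show (l + 1) % 3 = 1 ∨ (l + 1) % 3 = 2 by omega) with h | h
    · rwa [h, pow_one] at h2
    · rw [h] at h2
      have h4 : (t ^ 2) ^ 2 = t := by rw [← pow_mul, show 2 * 2 = 3 + 1 from rfl, pow_succ, t3, one_mul]
      exact h4 ▸ pow_mem h2 2
  have hsH : s ∈ H := by
    rw [show s = t⁻¹ * (t * s) by rw [inv_mul_cancel_left]]
    exact mul_mem (inv_mem htH) hk1
  have t' : cyc (⟨0, by omega⟩ : Fin k) ⟨1, by omega⟩ ⟨3, by omega⟩ (by simp) (by simp) (by simp) ∈ H := by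
    have h1 := hstab t htH
    rw [ht_def, pconj_cyc, cyc_congr _ _ _ (by simp) (by simp) (by simp) s0 s1 s2] at h1
    exact h1
  have row : ∀ (i : ℕ) (hi : i ≤ l), cyc (⟨0, by omega⟩ : Fin k) ⟨1, by omega⟩ ⟨i + 3, by omega⟩
      (by simp) (by simp [Fin.ext_iff]) (by simp [Fin.ext_iff]) ∈ H := by
    intro i hi
    have h1 := mul_mem (mul_mem (pow_mem hsH i) t') (inv_mem (pow_mem hsH i))
    have h3 : ((s ^ i : A k) : Perm (Fin k)) ⟨3, by omega⟩ = ⟨i + 3, by omega⟩ := by
      rw [show (⟨3, by omega⟩ : Fin k) = ι 0 from Fin.ext (by rw [hι]; rfl), hs_def, ← map_pow, emb_apply,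
        Subgroup.coe_pow, hr0]
      exact Fin.ext (by rw [hι, rot_zero_pow l i hi])
    rw [conj_cyc, cyc_congr _ _ _ (by simp) (by simp [Fin.ext_iff]) (by simp [Fin.ext_iff])
      (sfix i _ (by simp)) (sfix i _ (by simp)) h3] at h1
    exact h1
  refine eq_top_of_chain _ fun j hj => ⟨⟨0, by omega⟩, ⟨1, by omega⟩, by simp,
    show 0 < j.val by omega, show 1 < j.val by omega, ?_⟩
  rcases (show j.val = 2 ∨ (3 ≤ j.val ∧ j.val < l + 4) ∨ l + 4 ≤ j.val by omega) with h | h | h
  · rw [ht_def] at htH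
    convert htH using 1
    exact cyc_congr _ _ _ _ _ _ rfl rfl (Fin.ext h)
  · have hlt := h.2
    rw [cyc_congr _ _ _ (by simp) (by simp [Fin.ext_iff]) (by simp [Fin.ext_iff]) rfl rfl
      (show j = ⟨j.val - 3 + 3, by omega⟩ from Fin.ext (show j.val = j.val - 3 + 3 by omega))]
    exact row (j.val - 3) (by omega)
  · obtain ⟨i, hi, hij⟩ := htop j h
    have h1 := hstab _ (row i hi)
    rw [pconj_cyc, cyc_congr _ _ _ (by simp) (Fin.ne_of_lt (show 1 < j.val by omega))
      (Fin.ne_of_lt (show 0 < j.val by omega)) s0 s1 hij] at h1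
    exact h1

/-- A three-cycle times a disjoint cycle generates with a conjugate. -/
theorem gen_tsigma (k e : ℕ) (he : 1 ≤ e) (hk : 2 * e + 2 ≤ k) (hk2 : 9 ≤ k)
    (hpar : 4 ≤ e ∨ (e = 3 ∧ Even k)) :
    ∃ σ : Perm (Fin k), σ * σ = 1 ∧ σ.support.card = 2 * e ∧
      ∃ k1 : A k, closure ({k1, pconj σ k1} : Set (A k)) = ⊤ := by
  obtain ⟨m, hmodd, hm3, hmk, hmd, hm2⟩ :
      ∃ m, Odd m ∧ m % 3 ≠ 0 ∧ m + 3 ≤ k ∧ k ≤ m + 2 + e ∧ k ≤ 2 * m + 2 := by
    have h6 : (k - 3) % 6 = 0 ∨ (k - 3) % 6 = 1 ∨ (k - 3) % 6 = 2 ∨ (k - 3) % 6 = 3 ∨ (k - 3) % 6 = 4 ∨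
        (k - 3) % 6 = 5 := by omega
    have hev : Even k → (k - 3) % 6 = 1 ∨ (k - 3) % 6 = 3 ∨ (k - 3) % 6 = 5 := fun h => by
      obtain ⟨s, hs⟩ := h; omega
    rcases h6 with h | h | h | h | h | h
    · exact ⟨k - 4, by rw [Nat.odd_iff]; omega, by omega, by omega, by omega, by omega⟩
    · exact ⟨k - 3, by rw [Nat.odd_iff]; omega, by omega, by omega, by omega, by omega⟩
    · exact ⟨k - 4, by rw [Nat.odd_iff]; omega, by omega, by omega, by omega, by omega⟩
    · refine ⟨k - 5, by rw [Nat.odd_iff]; omega, by omega, by omega, by omega, by omega⟩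
    · have : ¬ Even k := fun h' => by have := hev h'; omega
      refine ⟨k - 6, by rw [Nat.odd_iff]; omega, by omega, by omega, ?_, by omega⟩
      rcases hpar with h' | ⟨-, h'⟩
      · omega
      · exact absurd h' this
    · exact ⟨k - 3, by rw [Nat.odd_iff]; omega, by omega, by omega, by omega, by omega⟩
  set σ : Perm (Fin k) := (piFun_invol k e (by omega) hk).toPerm _
  have hσ2 : σ * σ = 1 := Equiv.ext fun i => piFun_invol k e (by omega) hk i
  have hσ : ∀ i, σ i = piFun k e (by omega) i := fun i => rfl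
  refine ⟨σ, hσ2, piFun_support k e he hk hk2 σ hσ, ?_⟩
  obtain ⟨l, rfl⟩ : ∃ l, m = l + 1 := ⟨m - 1, by have := hmodd.pos; omega⟩
  refine gen_cycle_conj k l (by omega) (by obtain ⟨s, hs⟩ := hmodd; exact ⟨s, by omega⟩) hm3 σ hσ2
    (Fin.ext ?_) (Fin.ext ?_) (Fin.ext ?_) (fun j hj => ⟨k - j.val, by omega, Fin.ext ?_⟩)
  · rw [hσ]; exact piFun_lo k e _ _ (by simp)
  · rw [hσ]; exact piFun_lo k e _ _ (by simp)
  · rw [hσ]; exact piFun_two k e _ _
  · have := j.2
    rw [hσ]; exact piFun_top k e _ hk j.val _ (by omega) (by omega)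

end Cfsg.Agent.Small.BoundedPres
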