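import Mathlib

/-!
A prime between one half and one of every number, with room at both ends.
-/

set_option autoImplicit false

namespace Cfsg.Agent.Small.BoundedPres

open Finset Nat

/-- The central binomial coefficient is small when only few large primes can divide it. -/
theorem centralBinom_le_of_gap (n : ℕ) (hn : 2 < n)
    (no : ∀ p : ℕ, p.Prime → n < p → 2 * n < p + 14) :
    centralBinom n ≤ (2 * n) ^ (sqrt (2 * n) + 14) * 4 ^ (2 * n / 3) := by
  have n2 : 1 ≤ 2 * n := by omega
  let f : ℕ → ℕ := fun x => x ^ n.centralBinom.factorization x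
  let P : Finset ℕ := (range (2 * n + 1)).filter Nat.Prime
  have hP : ∏ x ∈ P, f x = n.centralBinom := by
    refine (Finset.prod_filter_of_ne fun p _ h => ?_).trans n.prod_pow_factorization_centralBinom
    contrapose h; dsimp only [f]
    rw [factorization_eq_zero_of_not_prime n.centralBinom h, _root_.pow_zero]
  have hle : ∀ p ∈ P, f p ≤ 2 * n := fun p _ => pow_factorization_choose_le (by omega)
  rw [← hP, ← prod_filter_mul_prod_filter_not P (fun x => x ≤ sqrt (2 * n) ∨ 2 * n < x + 14)]
  refine mul_le_mul' ?_ ?_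
  · refine (prod_le_pow_card _ _ (2 * n) fun p hp => hle p (mem_of_mem_filter p hp)).trans ?_
    refine pow_right_mono₀ n2 ?_
    calc _ ≤ (Icc 1 (sqrt (2 * n)) ∪ Icc (2 * n + 1 - 14) (2 * n)).card := card_le_card fun x hx => by
          simp only [P, mem_filter, Finset.mem_range] at hx
          simp only [Finset.mem_union, Finset.mem_Icc]
          rcases hx.2 with h | h
          · exact Or.inl ⟨hx.1.2.one_lt.le, h⟩
          · exact Or.inr ⟨by omega, by omega⟩
      _ ≤ _ := (card_union_le _ _).trans (Nat.add_le_add (by simp) (by simp; omega))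
  · let Q := (P.filter fun x => ¬(x ≤ sqrt (2 * n) ∨ 2 * n < x + 14))
    let T := (range (2 * n / 3 + 1)).filter Nat.Prime
    show ∏ x ∈ Q, f x ≤ _
    have hzero : ∀ p ∈ Q, p ∉ T → f p = 1 := by
      intro p hp hT
      simp only [Q, P, mem_filter, Finset.mem_range, not_or, not_le] at hp
      simp only [T, mem_filter, Finset.mem_range, not_and] at hT
      have hlt : 2 * n < 3 * p := by
        by_contra hc
        exact hT (by omega) hp.1.2
      have hpn : p ≤ n := by
        by_contra hc
        exact hp.2.2 (no p hp.1.2 (by omega))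
      dsimp only [f]
      rw [factorization_centralBinom_of_two_mul_self_lt_three_mul hn hpn hlt, _root_.pow_zero]
    calc ∏ x ∈ Q, f x = ∏ x ∈ Q.filter (· ∈ T), f x := by
          refine (prod_filter_of_ne fun p hp h => ?_).symm
          by_contra hT
          exact h (hzero p hp hT)
      _ ≤ ∏ x ∈ Q.filter (· ∈ T), x := prod_le_prod' fun p hp => by
          simp only [Q, P, mem_filter, Finset.mem_range, not_or, not_le] at hp
          refine (pow_right_mono₀ hp.1.1.2.one_lt.le ?_).trans (pow_one p).le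
          exact Nat.factorization_choose_le_one (sqrt_lt'.mp hp.1.2.1)
      _ ≤ ∏ x ∈ T, x := prod_le_prod_of_subset_of_one_le' (fun p hp => (mem_filter.1 hp).2)
          fun p hp _ => (mem_filter.1 hp).2.one_lt.le
      _ ≤ _ := primorial_le_four_pow (2 * n / 3)

theorem succ_le_two_pow_div_eight (s : ℕ) (hs : 80 ≤ s) : s + 1 ≤ 2 ^ (s / 8) := by
  induction s using Nat.strong_induction_on with
  | _ s ih =>
    rcases Nat.lt_or_ge s 88 with h | h
    · rw [show s / 8 = 10 by omega]; omega
    · have := ih (s - 8) (by omega) (by omega)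
      rw [show s / 8 = (s - 8) / 8 + 1 by omega, pow_succ]
      omega

theorem gap_main_inequality (n : ℕ) (hn : 3200 ≤ n) :
    n * ((2 * n) ^ (sqrt (2 * n) + 14) * 4 ^ (2 * n / 3)) ≤ 4 ^ n := by
  set s := sqrt (2 * n) with hs
  have h80 : 80 ≤ s := by rw [hs, le_sqrt]; omega
  have hlt : 2 * n < (s + 1) * (s + 1) := lt_succ_sqrt _
  have hsq : s * s ≤ 2 * n := sqrt_le _
  have h1 : n * (2 * n) ^ (s + 14) ≤ ((2 ^ (s / 8)) ^ 2) ^ (s + 15) := by
    refine le_trans ?_ (Nat.pow_le_pow_left (show 2 * n ≤ (2 ^ (s / 8)) ^ 2 from ?_) _)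
    · rw [_root_.pow_succ (2 * n) (s + 14), mul_comm]
      exact Nat.mul_le_mul_left _ (by omega)
    · rw [sq]
      exact hlt.le.trans (Nat.mul_le_mul (succ_le_two_pow_div_eight s h80) (succ_le_two_pow_div_eight s h80))
  have h2 : s / 8 * (s + 15) ≤ n / 3 := by
    rw [Nat.le_div_iff_mul_le (by norm_num)]
    have h3 : 8 * (s / 8) ≤ s := Nat.mul_div_le s 8
    nlinarith
  rw [← mul_assoc]
  calc n * (2 * n) ^ (s + 14) * 4 ^ (2 * n / 3)
      ≤ ((2 ^ (s / 8)) ^ 2) ^ (s + 15) * 4 ^ (2 * n / 3) := Nat.mul_le_mul_right _ h1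
    _ = 4 ^ (s / 8 * (s + 15) + 2 * n / 3) := by
        rw [← pow_mul, ← pow_mul, pow_add, show (4 : ℕ) = 2 ^ 2 from rfl, ← pow_mul, ← pow_mul]
        ring_nf
    _ ≤ 4 ^ n := Nat.pow_le_pow_right (by norm_num) (by omega)

/-- A prime above `n` and well below `2 * n`. -/
theorem exists_prime_gap (n : ℕ) (hn : 3200 ≤ n) : ∃ p : ℕ, p.Prime ∧ n < p ∧ p + 14 ≤ 2 * n := by
  by_contra hc
  simp only [not_exists, not_and, not_le] at hc
  have h1 := Nat.four_pow_lt_mul_centralBinom n (by omega)
  have h2 := Nat.mul_le_mul_left n (centralBinom_le_of_gap n (by omega) hc)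
  have h3 := gap_main_inequality n hn
  omega

/-- A prime `p` with `p + 3 ≤ n` and `n + 11 ≤ 2 p`. -/
theorem exists_prime_window (n : ℕ) (hn : 20 ≤ n) : ∃ p : ℕ, p.Prime ∧ p + 3 ≤ n ∧ n + 11 ≤ 2 * p := by
  by_cases hbig : 6400 ≤ n
  · obtain ⟨p, hp, h1, h2⟩ := exists_prime_gap ((n + 11) / 2) (by omega)
    exact ⟨p, hp, by omega, by omega⟩
  · have win : ∀ p : ℕ, p.Prime → p + 3 ≤ n → n + 11 ≤ 2 * p →
        ∃ p : ℕ, p.Prime ∧ p + 3 ≤ n ∧ n + 11 ≤ 2 * p := fun p a b c => ⟨p, a, b, c⟩
    rcases Nat.lt_or_ge n 22 with h | h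
    · exact win 17 (by norm_num) (by omega) (by omega)
    rcases Nat.lt_or_ge n 26 with h | h
    · exact win 19 (by norm_num) (by omega) (by omega)
    rcases Nat.lt_or_ge n 34 with h | h
    · exact win 23 (by norm_num) (by omega) (by omega)
    rcases Nat.lt_or_ge n 50 with h | h
    · exact win 31 (by norm_num) (by omega) (by omega)
    rcases Nat.lt_or_ge n 82 with h | h
    · exact win 47 (by norm_num) (by omega) (by omega)
    rcases Nat.lt_or_ge n 142 with h | h
    · exact win 79 (by norm_num) (by omega) (by omega)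
    rcases Nat.lt_or_ge n 260 with h | h
    · exact win 139 (by norm_num) (by omega) (by omega)
    rcases Nat.lt_or_ge n 502 with h | h
    · exact win 257 (by norm_num) (by omega) (by omega)
    rcases Nat.lt_or_ge n 980 with h | h
    · exact win 499 (by norm_num) (by omega) (by omega)
    rcases Nat.lt_or_ge n 1940 with h | h
    · exact win 977 (by norm_num) (by omega) (by omega)
    rcases Nat.lt_or_ge n 3840 with h | h
    · exact win 1933 (by norm_num) (by omega) (by omega)
    · exact win 3833 (by norm_num) (by omega) (by omega)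

end Cfsg.Agent.Small.BoundedPres
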