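import Mathlib
import Cfsg.Agent.Lib.Small.BoundedPres.GlueK1

/-!
Generation in small degree and involutions of prescribed support.
-/

set_option autoImplicit false
set_option linter.style.haveILetI false

namespace Cfsg.Agent.Small.BoundedPres

open Cfsg.Agent.Small.AltDeg Equiv Subgroup

/-- A long cycle generates with its conjugate by a transposition. -/
theorem gen_swap (k : ℕ) (hk : 6 ≤ k) (hev : Even k) :
    ∃ σ : Perm (Fin k), σ * σ = 1 ∧ σ.support.card = 2 * 1 ∧
      ∃ k1 : A k, closure ({k1, pconj σ k1} : Set (A k)) = ⊤ := by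
  obtain ⟨l, rfl⟩ : ∃ l, k = l + 1 + 1 := ⟨k - 2, by omega⟩
  have hl : Even l := by obtain ⟨t, ht⟩ := hev; exact ⟨t - 1, by omega⟩
  obtain ⟨r0, hr0⟩ : ∃ r0 : A (l + 1), (r0 : Perm (Fin (l + 1))) = finRotate (l + 1) :=
    ⟨⟨finRotate (l + 1), Perm.mem_alternatingGroup.2 (by rw [sign_finRotate, Nat.add_sub_cancel]; exact hl.neg_one_pow)⟩, rfl⟩
  let ι : Fin (l + 1) ↪ Fin (l + 1 + 1) := Fin.succEmb _
  have hι : ∀ i, (ι i).val = i.val + 1 := fun i => Fin.val_succ i
  obtain ⟨c, hc⟩ : ∃ c : A (l + 1 + 1), c = emb ι r0 := ⟨_, rfl⟩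
  have c0 : ∀ i, ((c ^ i : A _) : Perm (Fin (l + 1 + 1))) 0 = 0 := fun i => by
    rw [hc, ← map_pow]
    exact emb_supp ι _ _ fun h => by
      obtain ⟨u, hu⟩ := mem_pts.1 h
      exact absurd (congrArg Fin.val hu) (by rw [hι]; simp)
  have capply : ∀ (i : ℕ) (x : Fin (l + 1)), ((c ^ i : A _) : Perm (Fin (l + 1 + 1))) (ι x) =
      ι ((finRotate (l + 1) ^ i) x) := fun i x => by
    rw [hc, ← map_pow, emb_apply, Subgroup.coe_pow, hr0]
  set σ : Perm (Fin (l + 1 + 1)) := Equiv.swap 0 1 with hσ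
  have hσ2 : σ * σ = 1 := Equiv.swap_mul_self _ _
  refine ⟨σ, hσ2, ?_, c, ?_⟩
  · rw [hσ, Perm.card_support_swap (by simp)]
  set H := closure ({c, pconj σ c} : Set (A (l + 1 + 1)))
  have hcH : c ∈ H := Subgroup.subset_closure (Or.inl rfl)
  have hdH : c⁻¹ * pconj σ c ∈ H := mul_mem (inv_mem hcH) (Subgroup.subset_closure (Or.inr rfl))
  have one : (1 : Fin (l + 1 + 1)) = ι 0 := Fin.ext (by rw [hι]; simp)
  have hlast : (Fin.last (l + 1) : Fin (l + 1 + 1)) = ι (Fin.last l) := Fin.ext (by rw [hι]; simp)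
  have n01 : (0 : Fin (l + 1 + 1)) ≠ 1 := by simp
  have n1l : (1 : Fin (l + 1 + 1)) ≠ Fin.last (l + 1) := by simp [Fin.ext_iff]; omega
  have n0l : (0 : Fin (l + 1 + 1)) ≠ Fin.last (l + 1) := by simp [Fin.ext_iff]
  have hq : c⁻¹ * pconj σ c = cyc 0 1 (Fin.last (l + 1)) n01 n1l n0l := by
    rw [inv_mul_eq_iff_eq_mul]
    refine Subtype.ext (Equiv.ext fun x => ?_)
    rw [pconj_coe, Perm.mul_apply, Perm.mul_apply, Subgroup.coe_mul, Perm.mul_apply, hσ, Equiv.swap_inv]
    obtain ⟨q1, q2, q3⟩ := cyc_apply n01 n1l n0l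
    have a0 := c0 1
    rw [pow_one] at a0
    have a1 : ∀ y, (c : Perm (Fin (l + 1 + 1))) (ι y) = ι (finRotate (l + 1) y) := fun y => by
      simpa using capply 1 y
    rcases eq_or_ne x 0 with rfl | h0
    · rw [q1, Equiv.swap_apply_left, one, a1]
      refine Equiv.swap_apply_of_ne_of_ne (fun h => ?_) (fun h => ?_)
      · have := congrArg Fin.val h; rw [hι] at this; simp at this
      · have h2 := congrArg Fin.val (ι.injective h)
        rw [coe_finRotate_of_ne_last (by simp [Fin.ext_iff]; omega)] at h2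
        simp at h2
    rcases eq_or_ne x 1 with rfl | h1
    · rw [q2, Equiv.swap_apply_right, a0, Equiv.swap_apply_left, hlast, a1, finRotate_last, one]
    rcases eq_or_ne x (Fin.last (l + 1)) with rfl | h2
    · rw [q3, Equiv.swap_apply_of_ne_of_ne h0 h1, hlast, a1, finRotate_last, ← one, Equiv.swap_apply_right, a0]
    rw [cyc_supp n01 n1l n0l x (by simp [h0, h1, h2]), Equiv.swap_apply_of_ne_of_ne h0 h1]
    obtain ⟨y, rfl⟩ : ∃ y, ι y = x := ⟨⟨x.val - 1, by omega⟩, Fin.ext (by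
      rw [hι]; have : x.val ≠ 0 := fun h => h0 (Fin.ext h); simp only; omega)⟩
    rw [a1]
    have hy : y ≠ Fin.last l := fun h => h2 (by rw [h, hlast])
    refine Equiv.swap_apply_of_ne_of_ne (fun h => ?_) (fun h => ?_)
    · have := congrArg Fin.val h; rw [hι] at this; simp at this
    · rw [one] at h
      have h3 := congrArg Fin.val (ι.injective h)
      rw [coe_finRotate_of_ne_last hy] at h3
      simp at h3
  rw [hq] at hdH
  refine eq_top_of_chain _ fun j hj => ?_
  have hjb := j.2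
  obtain ⟨i, hi⟩ : ∃ i, j.val = i + 2 := ⟨j.val - 2, by omega⟩
  have hm := mul_mem (mul_mem (pow_mem hcH (i + 1)) hdH) (inv_mem (pow_mem hcH (i + 1)))
  rw [conj_cyc] at hm
  have e1 : ((c ^ (i + 1) : A _) : Perm (Fin (l + 1 + 1))) 1 = j := by
    rw [one, capply]
    exact Fin.ext (by rw [hι, rot_zero_pow l (i + 1) (by omega)]; omega)
  have e2 : (((c ^ (i + 1) : A _) : Perm (Fin (l + 1 + 1))) (Fin.last (l + 1))).val = i + 1 := by
    rw [hlast, capply, pow_succ, Perm.mul_apply, finRotate_last, hι, rot_zero_pow l i (by omega)]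
  refine ⟨((c ^ (i + 1) : A _) : Perm (Fin (l + 1 + 1))) (Fin.last (l + 1)), 0, ?_, ?_, ?_, ?_⟩
  · intro h; rw [h] at e2; simp at e2
  · exact show _ < j.val by omega
  · exact show 0 < j.val by omega
  · rw [cyc_rot, cyc_rot] at hm
    convert hm using 2
    · exact (c0 _).symm
    · exact e1.symm

/-- Seven points. -/
theorem gen_seven : ∃ σ : Perm (Fin 7), σ * σ = 1 ∧ σ.support.card = 2 * 2 ∧
    ∃ k1 : A 7, closure ({k1, pconj σ k1} : Set (A 7)) = ⊤ := by
  let a : A 7 := ⟨c[2, 3, 4, 5, 6], Perm.mem_alternatingGroup.2 (by decide)⟩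
  let σ : Perm (Fin 7) := Equiv.swap 0 2 * Equiv.swap 1 3
  let b : A 7 := pconj σ a
  refine ⟨σ, by decide, by decide, a, ?_⟩
  set H := closure ({a, pconj σ a} : Set (A 7))
  have ha : a ∈ H := Subgroup.subset_closure (Or.inl rfl)
  have hb : b ∈ H := Subgroup.subset_closure (Or.inr rfl)
  have hA : a⁻¹ ∈ H := inv_mem ha
  have hB : b⁻¹ ∈ H := inv_mem hb
  have key : ∀ (z : A 7) (j : Fin 7) (h1 : (0 : Fin 7) ≠ 1) (h2 : 1 ≠ j) (h3 : 0 ≠ j), z ∈ H →
      (∀ x, (z : Perm (Fin 7)) x = if x = 0 then 1 else if x = 1 then j else if x = j then 0 else x) →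
      cyc 0 1 j h1 h2 h3 ∈ H := by
    intro z j h1 h2 h3 hz hx
    convert hz using 1
    refine Subtype.ext (Equiv.ext fun x => ?_)
    obtain ⟨q1, q2, q3⟩ := cyc_apply h1 h2 h3
    rw [hx]
    split_ifs with a b c
    · rw [a, q1]
    · rw [b, q2]
    · rw [c, q3]
    · exact cyc_supp h1 h2 h3 x (by simp [a, b, c])
  refine eq_top_of_chain _ fun j hj => ?_
  have hne : ∀ v : Fin 7, 2 ≤ v.val → (1 : Fin 7) ≠ v ∧ (0 : Fin 7) ≠ v := fun v h =>
    ⟨fun e => by subst e; simp at h, fun e => by subst e; simp at h⟩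
  refine ⟨0, 1, by decide, show 0 < j.val by omega, show 1 < j.val by omega, ?_⟩
  fin_cases j <;> simp at hj
  · exact key (a * b⁻¹ * a⁻¹ * a⁻¹ * b⁻¹ * a * a) 2 _ _ _ (by
      exact mul_mem (mul_mem (mul_mem (mul_mem (mul_mem (mul_mem ha hB) hA) hA) hB) ha) ha) (by decide +kernel)
  · exact key (a * a * b⁻¹ * a⁻¹ * a⁻¹ * b⁻¹ * a) 3 _ _ _ (by
      exact mul_mem (mul_mem (mul_mem (mul_mem (mul_mem (mul_mem ha ha) hB) hA) hA) hB) ha) (by decide +kernel)
  · exact key (a⁻¹ * a⁻¹ * b⁻¹ * a⁻¹ * a⁻¹ * b⁻¹) 4 _ _ _ (by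
      exact mul_mem (mul_mem (mul_mem (mul_mem (mul_mem hA hA) hB) hA) hA) hB) (by decide +kernel)
  · exact key (a⁻¹ * b⁻¹ * a⁻¹ * a⁻¹ * b⁻¹ * a⁻¹) 5 _ _ _ (by
      exact mul_mem (mul_mem (mul_mem (mul_mem (mul_mem hA hB) hA) hA) hB) hA) (by decide +kernel)
  · exact key (b⁻¹ * a⁻¹ * a⁻¹ * b⁻¹ * a⁻¹ * a⁻¹) 6 _ _ _ (by
      exact mul_mem (mul_mem (mul_mem (mul_mem (mul_mem hB hA) hA) hB) hA) hA) (by decide +kernel)

/-- An even involution moving a given number of points. -/
theorem exists_invol (n N : ℕ) (h : 2 * N ≤ n) (hN : Even N) :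
    ∃ y : A n, y * y = 1 ∧ (y : Perm (Fin n)).support.card = 2 * N := by
  let f : Fin n → Fin n := fun i => if _h : i.val < 2 * N then
    (if _h' : i.val % 2 = 0 then ⟨i.val + 1, by omega⟩ else ⟨i.val - 1, by omega⟩) else i
  have hf : ∀ i, (f i).val = if i.val < 2 * N then (if i.val % 2 = 0 then i.val + 1 else i.val - 1) else i.val := by
    intro i; simp only [f]; split_ifs <;> rfl
  have hinv : Function.Involutive f := fun i => Fin.ext (by rw [hf, hf]; split_ifs <;> omega)
  have hσ : hinv.toPerm f * hinv.toPerm f = 1 := Equiv.ext fun i => hinv i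
  have hc : (hinv.toPerm f).support.card = 2 * N := by
    rw [← Finset.card_map Fin.valEmbedding]
    have : (hinv.toPerm f).support.map Fin.valEmbedding = Finset.range (2 * N) := by
      ext v
      simp only [Finset.mem_map, Perm.mem_support, Fin.valEmbedding_apply, Finset.mem_range]
      constructor
      · rintro ⟨i, hi, rfl⟩
        by_contra hc
        exact hi (Fin.ext (show (f i).val = i.val by rw [hf, if_neg hc]))
      · intro hv
        refine ⟨⟨v, by omega⟩, fun he => ?_, rfl⟩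
        have := congrArg Fin.val he
        rw [show hinv.toPerm f ⟨v, _⟩ = f ⟨v, _⟩ from rfl, hf] at this
        simp only [hv, if_true] at this
        split_ifs at this <;> omega
    rw [this, Finset.card_range]
  exact ⟨⟨hinv.toPerm f, Perm.mem_alternatingGroup.2 (by rw [sign_of_invol hσ hc]; exact hN.neg_one_pow)⟩,
    Subtype.ext hσ, hc⟩

/-- Support under an embedding. -/
theorem emb_card_support {k r : ℕ} (ι : Fin k ↪ Fin r) (x : A k) :
    (emb ι x : Perm (Fin r)).support.card = (x : Perm (Fin k)).support.card := by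
  rw [← Finset.card_map ι]
  congr 1
  ext z
  rw [Perm.mem_support, Finset.mem_map]
  by_cases hz : z ∈ pts ι
  · obtain ⟨i, rfl⟩ := mem_pts.1 hz
    rw [emb_apply]
    exact ⟨fun h => ⟨i, Perm.mem_support.2 fun h' => h (by rw [h']), rfl⟩,
      fun ⟨j, hj, hji⟩ h => by
        obtain rfl := ι.injective hji
        exact Perm.mem_support.1 hj (ι.injective h)⟩
  · exact ⟨fun h => absurd (emb_supp ι x z hz) h, fun ⟨j, _, hj⟩ => absurd (mem_pts.2 ⟨j, hj⟩) hz⟩

theorem Supp.pow {r : ℕ} {S : Finset (Fin r)} {g : A r} (hg : Supp S g) (a : ℕ) : Supp S (g ^ a) := by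
  induction a with
  | zero => intro x _; simp
  | succ a ih => intro x hx; rw [pow_succ, Subgroup.coe_mul, Perm.mul_apply, hg x hx, ih x hx]

/-- The two halves of the conjugate involution. -/
theorem GlueData.card_two {a r : ℕ} (D : GlueData a r) (i j : ℕ) :
    ((emb (gl1 a r) (D.p1 ^ i) * emb (gl2 a r) (D.q1 ^ j) : A (a + r + 2)) : Perm (Fin (a + r + 2))).support.card =
      ((D.p1 ^ i : A (a + 2)) : Perm (Fin (a + 2))).support.card +
        ((D.q1 ^ j : A (a + 2)) : Perm (Fin (a + 2))).support.card := by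
  rw [Subgroup.coe_mul, Perm.Disjoint.card_support_mul, emb_card_support, emb_card_support]
  intro z
  by_cases hz : z ∈ pts (gl1 a r)
  · obtain ⟨x, rfl⟩ := mem_pts.1 hz
    by_cases hx : x ∈ D.E1 ∪ glT a r
    · refine Or.inr ?_
      by_cases hz' : gl1 a r x ∈ pts (gl2 a r)
      · obtain ⟨y, hy⟩ := mem_pts.1 hz'
        rw [← hy, emb_apply, Supp.pow D.suppQ j y ?_]
        intro hyE
        have h1 := congrArg Fin.val hy
        rw [gl1_val] at h1
        by_cases hy' : y.val < a + 2 - r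
        · rw [gl2_lo a r hy'] at h1
          have e : y = x := Fin.ext h1
          subst e
          have hnT : y ∉ glT a r := fun h' => by rw [mem_glT] at h'; omega
          exact Finset.disjoint_left.1 D.disj ((Finset.mem_union.1 hx).resolve_right hnT)
            ((Finset.mem_union.1 hyE).resolve_right hnT)
        · rw [gl2_hi a r hy'] at h1
          have := x.2
          omega
      · exact emb_supp _ _ _ hz'
    · exact Or.inl (by rw [emb_apply, Supp.pow D.suppP i x hx])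
  · exact Or.inl (emb_supp _ _ z hz)

end Cfsg.Agent.Small.BoundedPres
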