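import Mathlib
import Cfsg.Agent.Lib.Small.BoundedPres.CopyHom
import Cfsg.Agent.Lib.Small.BoundedPres.GlueTwist

/-!
Short relation lists built on one copy and one involution.
-/

set_option autoImplicit false
set_option linter.style.haveILetI false
set_option linter.unusedSectionVars false

namespace Cfsg.Agent.Small.BoundedPres

open Cfsg.Agent.Small.AltDeg Equiv Subgroup

theorem map_lift {ι : Type*} {Q Q' : Type*} [Group Q] [Group Q'] (f : Q →* Q') (v : ι → Q)
    (w : FreeGroup ι) : f (FreeGroup.lift v w) = FreeGroup.lift (fun i => f (v i)) w :=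
  DFunLike.congr_fun (FreeGroup.ext_hom (f.comp (FreeGroup.lift v)) (FreeGroup.lift fun i => f (v i))
    fun i => by simp) w

theorem map_lift_pair {Q Q' : Type*} [Group Q] [Group Q'] (f : Q →* Q') (u x : Q)
    (w : FreeGroup (Fin 2)) : f (FreeGroup.lift ![u, x] w) = FreeGroup.lift ![f u, f x] w := by
  rw [map_lift]
  congr 2
  ext i; fin_cases i <;> rfl

/-- A presentation from an inverse map. -/
theorem pres_equiv {G : Type*} [Group G] {ι : Type} {k : ℕ} (W : Fin k → FreeGroup ι) (f : ι → G)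
    (hf : ∀ i, FreeGroup.lift f (W i) = 1) (hgen : closure (Set.range f) = ⊤)
    (hker : (PresentedGroup.toGroup (f := f) (rels := Set.range W) (by rintro _ ⟨i, rfl⟩; exact hf i)).ker = ⊥) :
    ∃ rels : Finset (FreeGroup ι), rels.card ≤ k ∧
      ∃ e : PresentedGroup (↑rels : Set (FreeGroup ι)) ≃* G, ∀ i, e (PresentedGroup.of i) = f i := by
  classical
  refine ⟨Finset.univ.image W, Finset.card_image_le.trans (by simp), ?_⟩
  rw [Finset.coe_image, Finset.coe_univ, Set.image_univ]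
  set π := PresentedGroup.toGroup (f := f) (rels := Set.range W) (by rintro _ ⟨i, rfl⟩; exact hf i) with hπ
  refine ⟨MulEquiv.ofBijective π ⟨(MonoidHom.ker_eq_bot_iff π).1 hker, ?_⟩,
    fun i => by show π (PresentedGroup.of i) = f i; simp [π]⟩
  rw [← MonoidHom.range_eq_top, eq_top_iff, ← hgen, Subgroup.closure_le]
  rintro _ ⟨i, rfl⟩
  exact ⟨PresentedGroup.of i, by simp [π]⟩

/-- The fixed data of a copy. -/
structure CopyData (p : ℕ) [NeZero p] where
  odd : Odd p
  three : 3 ≤ p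
  e : ℕ
  e2 : Even e
  e1 : 1 ≤ e
  cop : Nat.Coprime (e - 1) p
  cov : ∀ d : ZMod p, d ≠ 0 → ∃ i : ℕ, ∃ r ∈ ({1} : Finset ℕ),
    d = (e : ZMod p) ^ i * r ∨ d = -((e : ZMod p) ^ i * r)
  H : A (p + 2)
  HU : H * Tm p odd * H⁻¹ = Tm p odd ^ e
  HX : H * cz p 0 * H⁻¹ = (cz p 0)⁻¹
  w : A (p + 2) → FreeGroup (Fin 2)
  hw : ∀ z, FreeGroup.lift ![Tm p odd, cz p 0] (w z) = z

theorem exists_copyData (p : ℕ) [Fact p.Prime] (hp : 3 ≤ p) : Nonempty (CopyData p) := by
  have hpp : p.Prime := Fact.out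
  have hodd : Odd p := hpp.odd_of_ne_two (by omega)
  obtain ⟨g0, hg0⟩ := IsCyclic.exists_generator (α := (ZMod p)ˣ)
  have hsign := sign_mulLeft_gen p (by omega) g0 hg0
  set a := (g0 : ZMod p).val with ha
  obtain ⟨e, he, hee⟩ : ∃ e : ℕ, (e : ZMod p) = g0 ∧ Even e := by
    rcases Nat.even_or_odd a with h | h
    · exact ⟨a, ZMod.natCast_zmod_val _, h⟩
    · exact ⟨a + p, by push_cast; rw [ha, ZMod.natCast_zmod_val, ZMod.natCast_self, add_zero], h.add_odd hodd⟩
  have he1 : 1 ≤ e := by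
    rcases Nat.eq_zero_or_pos e with h | h
    · rw [h, Nat.cast_zero] at he; exact absurd he.symm g0.ne_zero
    · exact h
  have hcop : Nat.Coprime (e - 1) p := by
    refine (Nat.Coprime.symm ((hpp.coprime_iff_not_dvd).2 fun h => ?_))
    rw [← ZMod.natCast_eq_zero_iff, Nat.cast_sub he1, he, Nat.cast_one, sub_eq_zero] at h
    have : Perm.sign (Units.mulLeft g0 : Perm (ZMod p)) = 1 := by
      rw [show g0 = 1 from Units.ext h]
      rw [show (Units.mulLeft (1 : (ZMod p)ˣ) : Perm (ZMod p)) = 1 from Equiv.ext fun z => one_mul z, map_one]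
    rw [this] at hsign; exact absurd hsign (by decide)
  have hsurj : Function.Surjective (FreeGroup.lift ![Tm p hodd, cz p 0]) := by
    rw [← MonoidHom.range_eq_top, FreeGroup.range_lift_eq_closure, eq_top_iff, ← Tm_cz_top p hodd]
    refine Subgroup.closure_mono ?_
    rintro x (rfl | rfl)
    · exact ⟨0, rfl⟩
    · exact ⟨1, rfl⟩
  choose w hw using hsurj
  refine ⟨⟨hodd, by omega, e, hee, he1, hcop, fun d hd => ?_, Hm p g0, Hm_Tm p hodd g0 e he,
    Hm_cz_neg p g0 hsign, w, hw⟩⟩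
  obtain ⟨i, hi⟩ := mem_powers_iff_mem_zpowers.mpr (hg0 (Units.mk0 d hd))
  exact ⟨i, 1, by simp, Or.inl (by rw [he, Nat.cast_one, mul_one]; simpa using (congrArg Units.val hi).symm)⟩

namespace CopyData

variable {p : ℕ} [NeZero p] (C : CopyData p)

/-- The value of a copy element. -/
def ev {Q : Type*} [Group Q] (u x : Q) (z : A (p + 2)) : Q := FreeGroup.lift ![u, x] (C.w z)

theorem map_ev {Q Q' : Type*} [Group Q] [Group Q'] (f : Q →* Q') (u x : Q) (z : A (p + 2)) :
    f (C.ev u x z) = C.ev (f u) (f x) z := map_lift_pair f u x _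

theorem ev_model (z : A (p + 2)) : C.ev (Tm p C.odd) (cz p 0) z = z := C.hw z

theorem ev_hom {Q : Type*} [Group Q] (φ : A (p + 2) →* Q) (z : A (p + 2)) :
    C.ev (φ (Tm p C.odd)) (φ (cz p 0)) z = φ z := by rw [← C.map_ev, C.ev_model]

/-- The three relations and the pair relation, with both orders known. -/
theorem hom {Q : Type*} [Group Q] (u x : Q) (hu : u ^ p = 1) (hx : x ^ 3 = 1)
    (hHU : C.ev u x C.H * u * (C.ev u x C.H)⁻¹ = u ^ C.e)
    (hHX : C.ev u x C.H * x * (C.ev u x C.H)⁻¹ = x⁻¹)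
    (hpair : (x * (u * x * u⁻¹)) ^ 2 = 1) :
    ∃ φ : A (p + 2) →* Q, (∀ z, C.ev u x z = φ z) ∧ φ (Tm p C.odd) = u ∧ φ (cz p 0) = x := by
  obtain ⟨φ, h1, h2⟩ := copy_hom C.odd C.three C.e C.e1 C.cop {1} C.cov u x (C.ev u x C.H) hu hx hHU
    (Or.inr hHX) (fun r hr => by rw [Finset.mem_singleton.1 hr, pow_one]; exact hpair) (by
      have h : C.ev u x C.H ∈ (FreeGroup.lift ![u, x]).range := ⟨_, rfl⟩
      rw [FreeGroup.range_lift_eq_closure] at h
      refine (Subgroup.closure_mono ?_) h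
      rintro _ ⟨i, rfl⟩
      fin_cases i <;> simp)
  exact ⟨φ, fun z => by rw [← h1, ← h2, C.ev_hom], h1, h2⟩

theorem commute_ev {Q : Type*} [Group Q] {u x z : Q} (hu : Commute z u) (hx : Commute z x) (y : A (p + 2)) :
    Commute z (C.ev u x y) := by
  unfold ev
  induction (C.w y) using FreeGroup.induction_on with
  | C1 => rw [map_one]; exact Commute.one_right _
  | of i => rw [FreeGroup.lift_apply_of]; fin_cases i <;> assumption
  | inv_of i hi => rw [map_inv]; exact hi.inv_right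
  | mul a b ha hb => rw [map_mul]; exact ha.mul_right hb

/-- The relators of the copy. -/
def crel {Q : Type*} [Group Q] (u x : Q) : Fin 3 → Q :=
  ![C.ev u x C.H * u * (C.ev u x C.H)⁻¹ * (u ^ C.e)⁻¹, C.ev u x C.H * x * (C.ev u x C.H)⁻¹ * x,
    (x * (u * x * u⁻¹)) ^ 2]

theorem map_crel {Q Q' : Type*} [Group Q] [Group Q'] (f : Q →* Q') (u x : Q) (i : Fin 3) :
    f (C.crel u x i) = C.crel (f u) (f x) i := by
  fin_cases i <;> simp [crel, C.map_ev]

theorem crel_model (i : Fin 3) : C.crel (Tm p C.odd) (cz p 0) i = 1 := by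
  fin_cases i
  · simp [crel, C.ev_model, C.HU]
  · simp [crel, C.ev_model, C.HX]
  · show (cz p 0 * (Tm p C.odd * cz p 0 * (Tm p C.odd)⁻¹)) ^ 2 = 1
    have h := Tm_pow_cz p C.odd 1 0
    rw [pow_one] at h
    rw [h, zero_add]
    refine (gcyc_rels p).2 _ _ fun hh => ?_
    haveI : Fact (1 < p) := ⟨by have := C.three; omega⟩
    simp [Fin.ext_iff, ZMod.val_one] at hh

/-- When the central power is killed. -/
theorem kill {Q : Type*} [Group Q] {u x Z : Q} (hZu : Z = u ^ p) (hcx : Commute Z x)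
    (hrel : ∀ i, C.crel u x i = 1) (t : ℕ) (hx3 : x ^ 3 = Z ^ (2 ^ t)) : Z = 1 := by
  have hcu : Commute Z u := hZu ▸ (Commute.refl u).pow_left p
  set h := C.ev u x C.H
  have hch : Commute Z h := C.commute_ev hcu hcx C.H
  have h0 : h * u * h⁻¹ = u ^ C.e := mul_inv_eq_one.1 (hrel 0)
  have h1 : h * x * h⁻¹ = x⁻¹ := eq_inv_of_mul_eq_one_left (hrel 1)
  have hconj : h * Z * h⁻¹ = Z := by rw [← hch.eq, mul_inv_cancel_right]
  have hZe : Z ^ C.e = Z := by
    conv_rhs => rw [← hconj, hZu, ← conj_pow, h0, ← pow_mul, mul_comm, pow_mul, ← hZu]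
  have hZZ : Z ^ (2 ^ (t + 1)) = 1 := by
    have h2 := congrArg (fun q => q ^ 3) h1
    simp only [conj_pow, inv_pow] at h2
    rw [hx3, ← (hch.pow_left _).eq, mul_inv_cancel_right] at h2
    rw [pow_succ, pow_mul, pow_two]
    exact eq_inv_iff_mul_eq_one.1 h2
  obtain ⟨s, hs⟩ := C.e2
  have step : ∀ j : ℕ, Z ^ (2 ^ (j + 1)) = 1 → Z ^ (2 ^ j) = 1 := by
    intro j hj
    calc Z ^ (2 ^ j) = (Z ^ C.e) ^ (2 ^ j) := by rw [hZe]
      _ = (Z ^ (2 ^ (j + 1))) ^ s := by rw [← pow_mul, ← pow_mul]; congr 1; rw [hs, pow_succ]; ring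
      _ = 1 := by rw [hj, one_pow]
  have : ∀ j : ℕ, Z ^ (2 ^ j) = 1 → Z = 1 := by
    intro j
    induction j with
    | zero => intro hj; simpa using hj
    | succ j ih => exact fun hj => ih (step j hj)
  exact this _ hZZ

/-- The copy from the relators. -/
theorem hom_crel {Q : Type*} [Group Q] {u x : Q} (hu : u ^ p = 1) (hx : x ^ 3 = 1)
    (hrel : ∀ i, C.crel u x i = 1) :
    ∃ φ : A (p + 2) →* Q, (∀ z, C.ev u x z = φ z) ∧ φ (Tm p C.odd) = u ∧ φ (cz p 0) = x :=
  C.hom u x hu hx (mul_inv_eq_one.1 (hrel 0)) (eq_inv_of_mul_eq_one_left (hrel 1)) (hrel 2)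

end CopyData

section Glue

variable {p : ℕ} [NeZero p] (C : CopyData p) {r : ℕ} (D : GlueData p r)

/-- The agreement and commutation relators. -/
def grel (k1 : A (p + 2)) {Q : Type*} [Group Q] (u x g : Q) : Fin 2 → Q :=
  ![g * C.ev u x (pconj D.π k1) * g⁻¹ * (C.ev u x k1)⁻¹,
    C.ev u x D.p1 * (g * C.ev u x (pconj D.π D.q1) * g⁻¹) *
      (g * C.ev u x (pconj D.π D.q1) * g⁻¹ * C.ev u x D.p1)⁻¹]

theorem map_grel (k1 : A (p + 2)) {Q Q' : Type*} [Group Q] [Group Q'] (f : Q →* Q') (u x g : Q) (i : Fin 2) :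
    f (grel C D k1 u x g i) = grel C D k1 (f u) (f x) (f g) i := by
  fin_cases i <;> simp [grel, C.map_ev]

/-- The model's translation. -/
noncomputable def mU : A (p + r + 2) := emb (gl1 p r) (Tm p C.odd)

/-- The model's three-cycle. -/
noncomputable def mX (_C : CopyData p) : A (p + r + 2) := emb (gl1 p r) (cz p 0)

theorem ev_mUX (z : A (p + 2)) : C.ev (mU C) (mX C) z = emb (gl1 p r) z :=
  C.ev_hom (emb (gl1 p r)) z

theorem ev_perm (z : A (p + 2)) :
    C.ev ((mU C : A (p + r + 2)) : Perm (Fin (p + r + 2))) ((mX C : A (p + r + 2)) : Perm (Fin (p + r + 2))) z =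
      ((emb (gl1 p r) z : A (p + r + 2)) : Perm (Fin (p + r + 2))) := by
  have h := C.map_ev (alternatingGroup (Fin (p + r + 2))).subtype (mU C) (mX C) z
  rw [ev_mUX] at h
  exact h.symm

theorem perm_crel (i : Fin 3) :
    C.crel ((mU C : A (p + r + 2)) : Perm (Fin (p + r + 2))) ((mX C : A (p + r + 2)) : Perm (Fin (p + r + 2))) i = 1 := by
  have h1 := C.map_crel ((alternatingGroup (Fin (p + r + 2))).subtype.comp (emb (gl1 p r))) (Tm p C.odd) (cz p 0) i
  rw [C.crel_model, map_one] at h1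
  exact h1.symm

theorem perm_mU : ((mU C : A (p + r + 2)) : Perm (Fin (p + r + 2))) ^ p = 1 := by
  rw [← Subgroup.coe_pow, mU, ← map_pow, Tm_pow_self, map_one]; rfl

theorem perm_mX : ((mX C : A (p + r + 2)) : Perm (Fin (p + r + 2))) ^ 3 = 1 := by
  rw [← Subgroup.coe_pow, mX, ← map_pow, cz, (gcyc_rels p).1, map_one]; rfl

theorem perm_grel {k1 : A (p + 2)} (hk1 : Supp (glK p r) k1) (i : Fin 2) :
    grel C D k1 ((mU C : A (p + r + 2)) : Perm (Fin (p + r + 2))) ((mX C : A (p + r + 2)) : Perm (Fin (p + r + 2))) D.G i = 1 := by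
  fin_cases i
  · show _ * _ * _ * _ = 1
    rw [mul_inv_eq_one, ev_perm, ev_perm, ← pconj_coe, D.model_agree hk1]
  · show _ * _ * _ = 1
    rw [mul_inv_eq_one, ev_perm, ev_perm, ← pconj_coe, ← Subgroup.coe_mul, ← Subgroup.coe_mul, D.model_comm.eq]

/-- Gluing from the relators. -/
theorem hom_grel {Q : Type*} [Group Q] {u x g : Q} (φ : A (p + 2) →* Q) (hev : ∀ z, C.ev u x z = φ z)
    {k1 : A (p + 2)} (hrel : ∀ i, grel C D k1 u x g i = 1) (hg : g * g = 1)
    (hag : g * φ (pconj D.π k1) * g⁻¹ = φ k1 →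
      ∀ y, Supp (glK p r) y → g * φ (pconj D.π y) * g⁻¹ = φ y) :
    ∃ θ : A (p + r + 2) →* Q, (∀ z, θ (emb (gl1 p r) z) = φ z) ∧ ∀ z, g * θ z * g⁻¹ = θ (pconj D.G z) := by
  have h0 := hrel 0
  have h1 := hrel 1
  simp only [grel, hev, Matrix.cons_val_zero, Matrix.cons_val_one, mul_inv_eq_one] at h0 h1
  exact D.hom φ g hg (hag h0) h1

/-- The elements of the two copies. -/
noncomputable def both (q : Bool × A (p + 2)) : A (p + r + 2) :=
  if q.1 then pconj D.G (emb (gl1 p r) q.2) else emb (gl1 p r) q.2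

theorem both_surj : Function.Surjective (FreeGroup.lift (both D)) := by
  rw [← MonoidHom.range_eq_top, FreeGroup.range_lift_eq_closure, eq_top_iff, ← D.top]
  refine Subgroup.closure_mono ?_
  rintro _ (⟨z, rfl⟩ | ⟨z, rfl⟩)
  · exact ⟨(false, z), rfl⟩
  · exact ⟨(true, pconj D.π z), by simp [both, D.G_emb, pconj_pconj D.invol]⟩

/-- The value of a word in the two copies. -/
def ev2 {Q : Type*} [Group Q] (u x g : Q) (w : FreeGroup (Bool × A (p + 2))) : Q :=
  FreeGroup.lift (fun q => if q.1 then g * C.ev u x q.2 * g⁻¹ else C.ev u x q.2) w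

theorem map_ev2 {Q Q' : Type*} [Group Q] [Group Q'] (f : Q →* Q') (u x g : Q) (w : FreeGroup (Bool × A (p + 2))) :
    f (ev2 C u x g w) = ev2 C (f u) (f x) (f g) w := by
  unfold ev2
  rw [map_lift]
  congr 2
  funext q
  split_ifs <;> simp [C.map_ev]

theorem ev2_theta {Q : Type*} [Group Q] {u x g : Q} (φ : A (p + 2) →* Q) (hev : ∀ z, C.ev u x z = φ z)
    (θ : A (p + r + 2) →* Q) (h1 : ∀ z, θ (emb (gl1 p r) z) = φ z)
    (h2 : ∀ z, g * θ z * g⁻¹ = θ (pconj D.G z)) (w : FreeGroup (Bool × A (p + 2))) :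
    ev2 C u x g w = θ (FreeGroup.lift (both D) w) := by
  unfold ev2
  rw [map_lift]
  congr 2
  funext q
  unfold both
  split_ifs
  · rw [hev, ← h1, h2]
  · rw [hev, h1]

end Glue

end Cfsg.Agent.Small.BoundedPres
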