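import Mathlib
import Cfsg.Agent.Lib.Small.BoundedPres.ShortRels
import Cfsg.Agent.Lib.Small.BoundedPres.GlueGen

/-!
Six relations on two generators for symmetric groups, seven for alternating groups.
-/

set_option autoImplicit false
set_option linter.style.haveILetI false
set_option linter.unusedSectionVars false

namespace Cfsg.Agent.Small.BoundedPres

open Cfsg.Agent.Small.AltDeg Equiv Subgroup

theorem agree_of_set {k : ℕ} {Q : Type*} [Group Q] (π : Perm (Fin k)) (φ : A k →* Q) (g : Q)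
    {T : Set (A k)} (h : ∀ t ∈ T, g * φ (pconj π t) * g⁻¹ = φ t) {y : A k} (hy : y ∈ closure T) :
    g * φ (pconj π y) * g⁻¹ = φ y :=
  MonoidHom.eqOn_closure (f := ((MulAut.conj g).toMonoidHom.comp φ).comp (pconj π)) (g := φ) h hy

theorem b_pows {Q : Type*} [Group Q] {X G : Q} (hc : Commute X G) (hX : X ^ 3 = 1) (hG : G * G = 1) :
    (X * G) ^ 4 = X ∧ (X * G) ^ 3 = G := by
  have h4 : G ^ 4 = 1 := by rw [show 4 = 2 * 2 from rfl, pow_mul, pow_two G, hG, one_pow]
  refine ⟨?_, ?_⟩
  · rw [hc.mul_pow, h4, mul_one, pow_succ, hX, one_mul]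
  · rw [hc.mul_pow, hX, one_mul, pow_succ, pow_two, hG, one_mul]

section

variable {p : ℕ} [NeZero p] (C : CopyData p) {r : ℕ} (D : GlueData p r) (k1 : A (p + 2))

include C

/-- Six relators in a translation and one further generator. -/
def srel {Q : Type*} [Group Q] (u b : Q) : Fin 6 → Q :=
  ![u ^ p * (b ^ 6)⁻¹, C.crel u (b ^ 4) 0, C.crel u (b ^ 4) 1, C.crel u (b ^ 4) 2,
    grel C D k1 u (b ^ 4) (b ^ 3) 0, grel C D k1 u (b ^ 4) (b ^ 3) 1]

theorem map_srel {Q Q' : Type*} [Group Q] [Group Q'] (f : Q →* Q') (u b : Q) (i : Fin 6) :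
    f (srel C D k1 u b i) = srel C D k1 (f u) (f b) i := by
  fin_cases i <;> simp [srel, C.map_crel, map_grel]

theorem srel_one {Q : Type*} [Group Q] {u b x g : Q} (h4 : b ^ 4 = x) (h3 : b ^ 3 = g) (hu : u ^ p = 1)
    (h6 : b ^ 6 = 1) (hc : ∀ i, C.crel u x i = 1) (hg : ∀ i, grel C D k1 u x g i = 1) (i : Fin 6) :
    srel C D k1 u b i = 1 := by
  subst h4 h3
  fin_cases i
  · show u ^ p * (b ^ 6)⁻¹ = 1
    rw [hu, h6, inv_one, mul_one]
  · exact hc 0
  · exact hc 1
  · exact hc 2
  · exact hg 0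
  · exact hg 1

/-- What six relators give in any group. -/
theorem srel_hom {Q : Type*} [Group Q] {u b : Q} (hrel : ∀ i, srel C D k1 u b i = 1)
    (hX : pconj D.π (cz p 0) = cz p 0)
    (hgen : ∀ y, Supp (glK p r) y → y ∈ closure ({cz p 0, k1} : Set (A (p + 2)))) :
    b ^ 6 = 1 ∧ ∃ φ : A (p + 2) →* Q, (∀ z, C.ev u (b ^ 4) z = φ z) ∧
      φ (Tm p C.odd) = u ∧ φ (cz p 0) = b ^ 4 ∧
      ∃ θ : A (p + r + 2) →* Q, (∀ z, θ (emb (gl1 p r) z) = φ z) ∧
        ∀ z, b ^ 3 * θ z * (b ^ 3)⁻¹ = θ (pconj D.G z) := by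
  have hc : ∀ i, C.crel u (b ^ 4) i = 1 := fun i => by
    fin_cases i
    · exact hrel 1
    · exact hrel 2
    · exact hrel 3
  have hg : ∀ i, grel C D k1 u (b ^ 4) (b ^ 3) i = 1 := fun i => by
    fin_cases i
    · exact hrel 4
    · exact hrel 5
  have h0 : u ^ p = b ^ 6 := mul_inv_eq_one.1 (hrel 0)
  have hb6 : b ^ 6 = 1 := C.kill h0.symm ((Commute.refl b).pow_pow 6 4) hc 1 (by
    rw [← pow_mul, ← pow_mul]; rfl)
  have hx3 : (b ^ 4) ^ 3 = 1 := by rw [← pow_mul, show 4 * 3 = 6 * 2 from rfl, pow_mul, hb6, one_pow]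
  obtain ⟨φ, hev, hu, hx⟩ := C.hom_crel (h0.trans hb6) hx3 hc
  refine ⟨hb6, φ, hev, hu, hx, hom_grel C D φ hev hg (by rw [← pow_add, hb6]) ?_⟩
  intro hk y hy
  refine agree_of_set D.π φ _ ?_ (hgen y hy)
  rintro t (rfl | rfl)
  · rw [hX, hx, ((Commute.refl b).pow_pow 3 4).eq, mul_inv_cancel_right]
  · exact hk

/-- Seven relators in a translation and one further generator. -/
def arel (w : FreeGroup (Bool × A (p + 2))) {Q : Type*} [Group Q] (u b : Q) : Fin 7 → Q :=
  Fin.snoc (srel C D k1 u b) ((b ^ 3)⁻¹ * ev2 C u (b ^ 4) (b ^ 3) w)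

theorem map_arel (w : FreeGroup (Bool × A (p + 2))) {Q Q' : Type*} [Group Q] [Group Q'] (f : Q →* Q')
    (u b : Q) (i : Fin 7) : f (arel C D k1 w u b i) = arel C D k1 w (f u) (f b) i := by
  induction i using Fin.lastCases with
  | last => simp only [arel, Fin.snoc_last, map_mul, map_inv, map_pow, map_ev2]
  | cast i => simp only [arel, Fin.snoc_castSucc, map_srel]

theorem model_fix (hX : pconj D.π (cz p 0) = cz p 0) (hXK : Supp (glK p r) (cz p 0)) :
    Commute ((mX C : A (p + r + 2)) : Perm (Fin (p + r + 2))) D.G := by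
  have h := D.model_agree hXK
  rw [hX] at h
  have h2 := congrArg Subtype.val h
  rw [pconj_coe] at h2
  exact (show Commute D.G _ from (commute_iff_eq _ _).2 (mul_inv_eq_iff_eq_mul.1 h2)).symm

theorem cz_suppK (hk : 3 ≤ p + 2 - r) : Supp (glK p r) (cz p 0) :=
  (gcyc_apply_ge _).mono fun z hz => by
    simp only [Finset.mem_insert, Finset.mem_singleton] at hz
    rw [mem_glK]
    rcases hz with rfl | rfl | rfl <;> simp <;> omega

/-- Six relations for the symmetric group. -/
theorem sym_short (hk1 : Supp (glK p r) k1) (hX : pconj D.π (cz p 0) = cz p 0)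
    (hgen : ∀ y, Supp (glK p r) y → y ∈ closure ({cz p 0, k1} : Set (A (p + 2))))
    (hsign : Perm.sign D.G = -1) :
    ∃ rels : Finset (FreeGroup (Fin 2)), rels.card ≤ 6 ∧
      Nonempty (PresentedGroup (↑rels : Set (FreeGroup (Fin 2))) ≃* Perm (Fin (p + r + 2))) := by
  have hroom := D.room
  set U : Perm (Fin (p + r + 2)) := ((mU C : A (p + r + 2)) : Perm (Fin (p + r + 2))) with hU
  set X : Perm (Fin (p + r + 2)) := ((mX C : A (p + r + 2)) : Perm (Fin (p + r + 2))) with hXd
  set B : Perm (Fin (p + r + 2)) := X * D.G with hB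
  have hcomm := model_fix C D hX (cz_suppK C (by omega))
  obtain ⟨hB4, hB3⟩ := b_pows hcomm (perm_mX C) D.G_mul
  rw [← hB] at hB4 hB3
  have hB6 : B ^ 6 = 1 := by rw [show 6 = 3 * 2 from rfl, pow_mul, hB3, pow_two, D.G_mul]
  let f : Fin 2 → Perm (Fin (p + r + 2)) := ![U, B]
  let W : Fin 6 → FreeGroup (Fin 2) := srel C D k1 (FreeGroup.of 0) (FreeGroup.of 1)
  have hrelM : ∀ i, srel C D k1 U B i = 1 :=
    srel_one C D k1 hB4 hB3 (perm_mU C) hB6 (perm_crel C) (perm_grel C D hk1)
  have hf : ∀ i, FreeGroup.lift f (W i) = 1 := fun i => by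
    simp only [W, map_srel, FreeGroup.lift_apply_of]; exact hrelM i
  set π := PresentedGroup.toGroup (f := f) (rels := Set.range W) (by rintro _ ⟨i, rfl⟩; exact hf i) with hπ
  have hπ0 : π (PresentedGroup.of 0) = U := by simp [π, f]
  have hπ1 : π (PresentedGroup.of 1) = B := by simp [π, f]
  set m := PresentedGroup.mk (Set.range W)
  set u : PresentedGroup (Set.range W) := PresentedGroup.of 0 with hu0
  set b : PresentedGroup (Set.range W) := PresentedGroup.of 1 with hb0
  have hP : ∀ i, srel C D k1 u b i = 1 := fun i => by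
    have h := PresentedGroup.one_of_mem (rels := Set.range W) ⟨i, rfl⟩
    rwa [map_srel] at h
  obtain ⟨hb6, φ, hev, hu, hx, θ, hθ1, hθ2⟩ := srel_hom C D k1 hP hX hgen
  set g := b ^ 3
  have hgg : g * g = 1 := by rw [← pow_add, hb6]
  have hpt : ∀ z, π (θ z) = (z : Perm (Fin (p + r + 2))) := by
    intro z
    refine DFunLike.congr_fun (MonoidHom.eq_of_eqOn_dense D.top (f := π.comp θ)
      (g := (alternatingGroup (Fin (p + r + 2))).subtype) ?_) z
    have one : ∀ y, π (θ (emb (gl1 p r) y)) = ((emb (gl1 p r) y : A (p + r + 2)) : Perm (Fin (p + r + 2))) := fun y => by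
      rw [hθ1, ← hev, C.map_ev, map_pow, hπ0, hπ1, hB4, ev_perm]
    rintro _ (⟨y, rfl⟩ | ⟨y, rfl⟩)
    · exact one y
    · show π (θ _) = ((_ : A (p + r + 2)) : Perm (Fin (p + r + 2)))
      have e : emb (gl2 p r) y = pconj D.G (emb (gl1 p r) (pconj D.π y)) := by
        rw [D.G_emb, pconj_pconj D.invol]
      rw [e, ← hθ2, map_mul, map_mul, map_inv, one, map_pow, hπ1, hB3, pconj_coe]
  have hcover : ∀ q : PresentedGroup (Set.range W), q ∈ θ.range ∨ g * q ∈ θ.range := by
    intro q
    have hq : q ∈ closure (Set.range (PresentedGroup.of (rels := Set.range W))) := by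
      rw [PresentedGroup.closure_range_of]; trivial
    have hu' : u ∈ θ.range := ⟨_, (hθ1 _).trans hu⟩
    have hx' : b ^ 4 ∈ θ.range := ⟨_, (hθ1 _).trans hx⟩
    have hb : b = b ^ 4 * g := by
      rw [← pow_add, show 4 + 3 = 6 + 1 from rfl, pow_succ, hb6, one_mul]
    have hnorm : ∀ y ∈ θ.range, g * y * g⁻¹ ∈ θ.range := by
      rintro _ ⟨z, rfl⟩; exact ⟨_, (hθ2 z).symm⟩
    have mulr : ∀ (s q : PresentedGroup (Set.range W)), s ∈ θ.range → (q ∈ θ.range ∨ g * q ∈ θ.range) →
        (s * q ∈ θ.range ∨ g * (s * q) ∈ θ.range) := by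
      intro s q hs hq
      rcases hq with hq | hq
      · exact Or.inl (mul_mem hs hq)
      · refine Or.inr ?_
        rw [show g * (s * q) = g * s * g⁻¹ * (g * q) by group]
        exact mul_mem (hnorm s hs) hq
    have mulg : ∀ q, (q ∈ θ.range ∨ g * q ∈ θ.range) → (g * q ∈ θ.range ∨ g * (g * q) ∈ θ.range) := by
      intro q hq
      rcases hq with hq | hq
      · exact Or.inr (by rwa [← mul_assoc, hgg, one_mul])
      · exact Or.inl hq
    induction hq using Subgroup.closure_induction_left with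
    | one => exact Or.inl (one_mem _)
    | mul_left s hs q _ ih =>
      obtain ⟨i, rfl⟩ := hs
      fin_cases i
      · exact mulr u q hu' ih
      · show b * q ∈ θ.range ∨ g * (b * q) ∈ θ.range
        rw [hb, mul_assoc]
        exact mulr _ _ hx' (mulg q ih)
    | inv_mul_cancel s hs q _ ih =>
      obtain ⟨i, rfl⟩ := hs
      fin_cases i
      · exact mulr u⁻¹ q (inv_mem hu') ih
      · show b⁻¹ * q ∈ θ.range ∨ g * (b⁻¹ * q) ∈ θ.range
        rw [show b⁻¹ = g * (b ^ 4)⁻¹ from inv_eq_of_mul_eq_one_right (by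
          show b * (b ^ 3 * (b ^ 4)⁻¹) = 1
          rw [← mul_assoc, ← pow_succ', mul_inv_cancel]), mul_assoc]
        exact mulg _ (mulr _ q (inv_mem hx') ih)
  obtain ⟨rels, hc, e, -⟩ := pres_equiv W f hf (by
    rw [eq_top_iff]
    intro x _
    rw [← FreeGroup.range_lift_eq_closure]
    have hUr : U ∈ (FreeGroup.lift f).range := ⟨FreeGroup.of 0, by simp [f]⟩
    have hBr : B ∈ (FreeGroup.lift f).range := ⟨FreeGroup.of 1, by simp [f]⟩
    have hXr : X ∈ (FreeGroup.lift f).range := by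
      rw [hXd, ← hB4]; exact pow_mem hBr 4
    have hGr : D.G ∈ (FreeGroup.lift f).range := hB3 ▸ pow_mem hBr 3
    have hA : ∀ z : A (p + r + 2), (z : Perm (Fin (p + r + 2))) ∈ (FreeGroup.lift f).range := by
      intro z
      have hz : z ∈ closure (Set.range (emb (gl1 p r)) ∪ Set.range (emb (gl2 p r))) := D.top ▸ Subgroup.mem_top z
      refine (closure_le ((FreeGroup.lift f).range.comap (alternatingGroup (Fin (p + r + 2))).subtype)).2 ?_ hz
      have one : ∀ y, ((emb (gl1 p r) y : A (p + r + 2)) : Perm (Fin (p + r + 2))) ∈ (FreeGroup.lift f).range := by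
        intro y
        rw [← ev_perm C, ← hU, ← hXd]
        unfold CopyData.ev
        have h : FreeGroup.lift ![U, X] (C.w y) ∈ (FreeGroup.lift ![U, X]).range := ⟨_, rfl⟩
        rw [FreeGroup.range_lift_eq_closure] at h
        refine ((closure_le (FreeGroup.lift f).range).2 ?_) h
        rintro _ ⟨i, rfl⟩
        fin_cases i
        · exact hUr
        · exact hXr
      rintro _ (⟨y, rfl⟩ | ⟨y, rfl⟩)
      · exact one y
      · show ((_ : A (p + r + 2)) : Perm (Fin (p + r + 2))) ∈ (FreeGroup.lift f).range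
        have e : emb (gl2 p r) y = pconj D.G (emb (gl1 p r) (pconj D.π y)) := by
          rw [D.G_emb, pconj_pconj D.invol]
        rw [e, pconj_coe]
        exact mul_mem (mul_mem hGr (one _)) (inv_mem hGr)
    rcases Int.units_eq_one_or (Perm.sign x) with h | h
    · exact hA ⟨x, Perm.mem_alternatingGroup.2 h⟩
    · have h2 : Perm.sign (D.G * x) = 1 := by rw [map_mul, hsign, h]; rfl
      have h3 := mul_mem hGr (hA ⟨D.G * x, Perm.mem_alternatingGroup.2 h2⟩)
      rwa [← mul_assoc, D.G_mul, one_mul] at h3) (by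
    rw [← hπ, Subgroup.eq_bot_iff_forall]
    intro q hq
    rw [MonoidHom.mem_ker] at hq
    rcases hcover q with ⟨z, hz⟩ | ⟨z, hz⟩
    · rw [← hz, hpt] at hq
      rw [← hz, show z = 1 from Subtype.ext hq, map_one]
    · have h1 := congrArg π hz
      rw [hpt, map_mul, hq, mul_one, map_pow, hπ1, hB3] at h1
      have h2 := congrArg Perm.sign h1
      rw [Perm.mem_alternatingGroup.1 z.2, hsign] at h2
      exact absurd h2 (by decide))
  exact ⟨rels, hc, ⟨e⟩⟩

/-- Seven relations for the alternating group. -/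
theorem alt_short (hk1 : Supp (glK p r) k1) (hX : pconj D.π (cz p 0) = cz p 0)
    (hgen : ∀ y, Supp (glK p r) y → y ∈ closure ({cz p 0, k1} : Set (A (p + 2))))
    (hsign : Perm.sign D.G = 1) :
    ∃ rels : Finset (FreeGroup (Fin 2)), rels.card ≤ 7 ∧
      Nonempty (PresentedGroup (↑rels : Set (FreeGroup (Fin 2))) ≃* A (p + r + 2)) := by
  have hroom := D.room
  set Gm : A (p + r + 2) := ⟨D.G, Perm.mem_alternatingGroup.2 hsign⟩ with hGm
  set U : A (p + r + 2) := mU C with hU
  set X : A (p + r + 2) := mX C with hXd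
  set B : A (p + r + 2) := X * Gm with hB
  have hG2 : Gm * Gm = 1 := Subtype.ext D.G_mul
  have hcomm : Commute X Gm := (commute_iff_eq _ _).2 (Subtype.ext (model_fix C D hX (cz_suppK C (by omega))).eq)
  have hX3 : X ^ 3 = 1 := Subtype.ext (by rw [Subgroup.coe_pow]; exact perm_mX C)
  obtain ⟨hB4, hB3⟩ := b_pows hcomm hX3 hG2
  rw [← hB] at hB4 hB3
  have hB6 : B ^ 6 = 1 := by rw [show 6 = 3 * 2 from rfl, pow_mul, hB3, pow_two, hG2]
  obtain ⟨w, hw⟩ := both_surj D Gm
  let f : Fin 2 → A (p + r + 2) := ![U, B]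
  let W : Fin 7 → FreeGroup (Fin 2) := arel C D k1 w (FreeGroup.of 0) (FreeGroup.of 1)
  let sub := (alternatingGroup (Fin (p + r + 2))).subtype
  have hsub : Function.Injective sub := Subtype.val_injective
  have hconj : ∀ z : A (p + r + 2), Gm * z * Gm⁻¹ = pconj D.G z := fun z => rfl
  have hevU : ∀ z, C.ev U X z = emb (gl1 p r) z := ev_mUX C
  have hrelM : ∀ i, arel C D k1 w U B i = 1 := by
    intro i
    induction i using Fin.lastCases with
    | last =>
      show Fin.snoc (α := fun _ => A (p + r + 2)) _ _ (Fin.last 6) = 1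
      rw [Fin.snoc_last, inv_mul_eq_one, hB4, hB3, ev2_theta C D (emb (gl1 p r)) hevU (MonoidHom.id _)
        (fun z => rfl) hconj]
      exact hw.symm
    | cast i =>
      show Fin.snoc (α := fun _ => A (p + r + 2)) _ _ i.castSucc = 1
      rw [Fin.snoc_castSucc]
      refine hsub ?_
      rw [map_srel, map_one]
      have e4 : sub B ^ 4 = sub X := by rw [← map_pow, hB4]
      have e3 : sub B ^ 3 = D.G := by rw [← map_pow, hB3]; rfl
      have e6 : sub B ^ 6 = 1 := by rw [← map_pow, hB6, map_one]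
      exact srel_one C D k1 e4 e3 (perm_mU C) e6 (perm_crel C) (perm_grel C D hk1) i
  have hf : ∀ i, FreeGroup.lift f (W i) = 1 := fun i => by
    simp only [W, map_arel, FreeGroup.lift_apply_of]; exact hrelM i
  set π := PresentedGroup.toGroup (f := f) (rels := Set.range W) (by rintro _ ⟨i, rfl⟩; exact hf i) with hπ
  set u : PresentedGroup (Set.range W) := PresentedGroup.of 0 with hu0
  set b : PresentedGroup (Set.range W) := PresentedGroup.of 1 with hb0
  have hP : ∀ i, arel C D k1 w u b i = 1 := fun i => by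
    have h := PresentedGroup.one_of_mem (rels := Set.range W) ⟨i, rfl⟩
    rwa [map_arel] at h
  have hP' : ∀ i, srel C D k1 u b i = 1 := fun i => by
    have h := hP i.castSucc
    rwa [arel, Fin.snoc_castSucc] at h
  obtain ⟨hb6, φ, hev, hu, hx, θ, hθ1, hθ2⟩ := srel_hom C D k1 hP' hX hgen
  have hθU : θ U = u := (hθ1 _).trans hu
  have hθX : θ X = b ^ 4 := (hθ1 _).trans hx
  have hθG : θ Gm = b ^ 3 := by
    have h := hP (Fin.last 6)
    rw [arel, Fin.snoc_last, inv_mul_eq_one, ev2_theta C D φ hev θ hθ1 hθ2, hw] at h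
    exact h.symm
  have hθf : ∀ i, θ (f i) = PresentedGroup.of i := fun i => by
    fin_cases i
    · exact hθU
    · show θ B = b
      rw [hB, map_mul, hθX, hθG, ← pow_add, show 4 + 3 = 6 + 1 from rfl, pow_succ, hb6, one_mul]
  have hgenf : closure (Set.range f) = ⊤ := by
    rw [eq_top_iff, ← D.top, Subgroup.closure_le, ← FreeGroup.range_lift_eq_closure]
    have hUr : U ∈ (FreeGroup.lift f).range := ⟨FreeGroup.of 0, by simp [f]⟩
    have hBr : B ∈ (FreeGroup.lift f).range := ⟨FreeGroup.of 1, by simp [f]⟩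
    have hXr : X ∈ (FreeGroup.lift f).range := hB4 ▸ pow_mem hBr 4
    have hGr : Gm ∈ (FreeGroup.lift f).range := hB3 ▸ pow_mem hBr 3
    have one : ∀ y, emb (gl1 p r) y ∈ (FreeGroup.lift f).range := by
      intro y
      rw [← hevU]
      have h : FreeGroup.lift ![U, X] (C.w y) ∈ (FreeGroup.lift ![U, X]).range := ⟨_, rfl⟩
      rw [FreeGroup.range_lift_eq_closure] at h
      refine ((closure_le (FreeGroup.lift f).range).2 ?_) h
      rintro _ ⟨i, rfl⟩
      fin_cases i
      · exact hUr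
      · exact hXr
    rintro _ (⟨y, rfl⟩ | ⟨y, rfl⟩)
    · exact one y
    · have e : emb (gl2 p r) y = pconj D.G (emb (gl1 p r) (pconj D.π y)) := by
        rw [D.G_emb, pconj_pconj D.invol]
      rw [e, ← hconj]
      exact mul_mem (mul_mem hGr (one _)) (inv_mem hGr)
  obtain ⟨rels, hc, e, -⟩ := pres_equiv W f hf hgenf (by
    rw [← hπ, Subgroup.eq_bot_iff_forall]
    intro q hq
    rw [MonoidHom.mem_ker] at hq
    have h : θ.comp π = MonoidHom.id _ := PresentedGroup.ext fun i => by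
      show θ (π (PresentedGroup.of i)) = PresentedGroup.of i
      rw [show π (PresentedGroup.of i) = f i by simp [π]]; exact hθf i
    rw [← MonoidHom.id_apply (PresentedGroup (Set.range W)) q, ← h, MonoidHom.comp_apply, hq, map_one])
  exact ⟨rels, hc, ⟨e⟩⟩

end

end Cfsg.Agent.Small.BoundedPres
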