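import Mathlib
import Cfsg.Agent.Lib.Small.BoundedPres.ShortPres

/-!
Seven relations on three generators for alternating groups.
-/

set_option autoImplicit false
set_option linter.style.haveILetI false
set_option linter.unusedSectionVars false

namespace Cfsg.Agent.Small.BoundedPres

open Cfsg.Agent.Small.AltDeg Equiv Subgroup

section

variable {p : ℕ} [NeZero p] (C : CopyData p) {r : ℕ} (D : GlueData p r) (k1 y1 y2 : A (p + 2))

include C

/-- Seven relators in three generators. -/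
def trel (w : FreeGroup (Bool × A (p + 2))) {Q : Type*} [Group Q] (u x g : Q) : Fin 7 → Q :=
  ![u ^ p * (x ^ 3)⁻¹, C.crel u x 0, C.crel u x 1, C.crel u x 2, grel C D k1 u x g 0, grel C D k1 u x g 1,
    g⁻¹ * (ev2 C u x g w * (C.ev u x y1 * (g * C.ev u x (pconj D.π y2) * g⁻¹)) *
      (ev2 C u x g w)⁻¹)]

theorem map_trel (w : FreeGroup (Bool × A (p + 2))) {Q Q' : Type*} [Group Q] [Group Q'] (f : Q →* Q')
    (u x g : Q) (i : Fin 7) : f (trel C D k1 y1 y2 w u x g i) = trel C D k1 y1 y2 w (f u) (f x) (f g) i := by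
  fin_cases i <;> simp [trel, C.map_crel, map_grel, C.map_ev, map_ev2]

theorem trel_one (w : FreeGroup (Bool × A (p + 2))) {Q : Type*} [Group Q] {u x g : Q} (hu : u ^ p = 1)
    (hx : x ^ 3 = 1) (hc : ∀ i, C.crel u x i = 1) (hg : ∀ i, grel C D k1 u x g i = 1)
    (hW : ev2 C u x g w * (C.ev u x y1 * (g * C.ev u x (pconj D.π y2) * g⁻¹)) *
      (ev2 C u x g w)⁻¹ = g) (i : Fin 7) : trel C D k1 y1 y2 w u x g i = 1 := by
  fin_cases i
  · show u ^ p * (x ^ 3)⁻¹ = 1
    rw [hu, hx, inv_one, mul_one]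
  · exact hc 0
  · exact hc 1
  · exact hc 2
  · exact hg 0
  · exact hg 1
  · show g⁻¹ * _ = 1
    rw [hW, inv_mul_cancel]

/-- What seven relators give in any group. -/
theorem trel_hom (w : FreeGroup (Bool × A (p + 2))) {Q : Type*} [Group Q] {u x g : Q}
    (hrel : ∀ i, trel C D k1 y1 y2 w u x g i = 1)
    (hy1 : y1 * y1 = 1) (hy2 : y2 * y2 = 1)
    (hcy : (∃ a b : ℕ, y1 = D.p1 ^ a ∧ y2 = D.q1 ^ b) ∨ y2 = 1)
    (hgen : ∀ y, Supp (glK p r) y → y ∈ closure ({k1, pconj D.π k1} : Set (A (p + 2)))) :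
    ∃ θ : A (p + r + 2) →* Q, θ (mU C) = u ∧ θ (mX C) = x ∧
      (∀ z, g * θ z * g⁻¹ = θ (pconj D.G z)) ∧
      g = θ (FreeGroup.lift (both D) w * (emb (gl1 p r) y1 *
        pconj D.G (emb (gl1 p r) (pconj D.π y2))) * (FreeGroup.lift (both D) w)⁻¹) := by
  have hc : ∀ i, C.crel u x i = 1 := fun i => by
    fin_cases i
    · exact hrel 1
    · exact hrel 2
    · exact hrel 3
  have hgr : ∀ i, grel C D k1 u x g i = 1 := fun i => by
    fin_cases i
    · exact hrel 4
    · exact hrel 5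
  have h0 : u ^ p = x ^ 3 := mul_inv_eq_one.1 (hrel 0)
  have hx3 : x ^ 3 = 1 := C.kill h0.symm ((Commute.refl x).pow_left 3) hc 0 (by simp)
  obtain ⟨φ, hev, hu, hx⟩ := C.hom_crel (h0.trans hx3) hx3 hc
  have hW : g⁻¹ * (ev2 C u x g w * (φ y1 * (g * φ (pconj D.π y2) * g⁻¹)) *
      (ev2 C u x g w)⁻¹) = 1 := by
    have := hrel 6
    simp only [trel] at this
    rw [← hev, ← hev]
    exact this
  rw [inv_mul_eq_one] at hW
  have hcom : Commute (φ D.p1) (g * φ (pconj D.π D.q1) * g⁻¹) := by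
    have h1 := hgr 1
    simp only [grel, hev, Matrix.cons_val_one, Matrix.cons_val_zero, mul_inv_eq_one] at h1
    exact h1
  have hc2 : Commute (φ y1) (g * φ (pconj D.π y2) * g⁻¹) := by
    rcases hcy with ⟨i, j, rfl, rfl⟩ | rfl
    · simp only [map_pow, ← conj_pow]
      exact hcom.pow_pow i j
    · simp
  have hgg : g * g = 1 := by
    rw [hW, ← pow_two, conj_pow, hc2.mul_pow, pow_two, pow_two, ← map_mul φ, hy1, map_one, one_mul,
      show ∀ a : Q, g * a * g⁻¹ * (g * a * g⁻¹) = g * (a * a) * g⁻¹ from fun a => by group,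
      ← map_mul φ, ← map_mul, hy2]
    simp
  obtain ⟨θ, h1, h2⟩ := hom_grel C D φ hev hgr hgg (fun hk y hy => agree_of_set D.π φ g (by
    rintro t (rfl | rfl)
    · exact hk
    · rw [pconj_pconj D.invol, ← hk]
      rw [inv_eq_of_mul_eq_one_right hgg, ← mul_assoc, ← mul_assoc, hgg, one_mul, mul_assoc, hgg, mul_one])
    (hgen y hy))
  refine ⟨θ, (h1 _).trans hu, (h1 _).trans hx, h2, ?_⟩
  conv_lhs => rw [hW]
  rw [map_mul, map_mul, map_inv, map_mul, ← h2, h1, h1, ev2_theta C D φ hev θ h1 h2]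

/-- Seven relations on three generators for the alternating group. -/
theorem alt_short3 (hk1 : Supp (glK p r) k1) (hsign : Perm.sign D.G = 1)
    (hy1 : y1 * y1 = 1) (hy2 : y2 * y2 = 1)
    (hcy : (∃ a b : ℕ, y1 = D.p1 ^ a ∧ y2 = D.q1 ^ b) ∨ y2 = 1)
    (hgen : ∀ y, Supp (glK p r) y → y ∈ closure ({k1, pconj D.π k1} : Set (A (p + 2))))
    (hy : ((emb (gl1 p r) y1 * emb (gl2 p r) y2 : A (p + r + 2)) : Perm (Fin (p + r + 2))).support.card =
      D.G.support.card) :
    ∃ rels : Finset (FreeGroup (Fin 3)), rels.card ≤ 7 ∧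
      Nonempty (PresentedGroup (↑rels : Set (FreeGroup (Fin 3))) ≃* A (p + r + 2)) := by
  classical
  set Gm : A (p + r + 2) := ⟨D.G, Perm.mem_alternatingGroup.2 hsign⟩ with hGm
  have hconj : ∀ z : A (p + r + 2), Gm * z * Gm⁻¹ = pconj D.G z := fun z => rfl
  have hq2 : ∀ z, pconj D.G (emb (gl1 p r) (pconj D.π z)) = emb (gl2 p r) z := fun z => by
    rw [D.G_emb, pconj_pconj D.invol]
  set Y : A (p + r + 2) := emb (gl1 p r) y1 * pconj D.G (emb (gl1 p r) (pconj D.π y2)) with hY
  have hY' : Y = emb (gl1 p r) y1 * emb (gl2 p r) y2 := by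
    rw [hY, hq2]
  have hcm : Commute (emb (gl1 p r) y1) (emb (gl2 p r) y2) := by
    rcases hcy with ⟨i, j, rfl, rfl⟩ | rfl
    · have h0 := D.model_comm
      rw [hq2] at h0
      rw [map_pow, map_pow]
      exact h0.pow_pow i j
    · rw [map_one]; exact Commute.one_right _
  have hYY : Y * Y = 1 := by
    rw [hY', ← pow_two, hcm.mul_pow, pow_two, pow_two, ← map_mul, hy1, map_one, one_mul, ← map_mul, hy2, map_one]
  have hne : ((Y : A (p + r + 2)) : Perm (Fin (p + r + 2))) ≠ 1 := by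
    intro e
    rw [← hY', e, Perm.support_one, Finset.card_empty, D.G_support] at hy
    have := D.pos
    omega
  obtain ⟨z, hz⟩ := exists_alt_conj (σ := ((Y : A (p + r + 2)) : Perm (Fin (p + r + 2)))) (τ := D.G)
    (by rw [← Subgroup.coe_mul, hYY]; rfl) D.G_mul (by rw [hY']; exact hy) hne
  obtain ⟨w, hw⟩ := both_surj D z
  set U : A (p + r + 2) := mU C with hU
  set X : A (p + r + 2) := mX C with hXd
  have hevU : ∀ z, C.ev U X z = emb (gl1 p r) z := ev_mUX C
  let f : Fin 3 → A (p + r + 2) := ![U, X, Gm]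
  let W : Fin 7 → FreeGroup (Fin 3) := trel C D k1 y1 y2 w (FreeGroup.of 0) (FreeGroup.of 1) (FreeGroup.of 2)
  let sub := (alternatingGroup (Fin (p + r + 2))).subtype
  have hsub : Function.Injective sub := Subtype.val_injective
  have hrelM : ∀ i, trel C D k1 y1 y2 w U X Gm i = 1 := by
    intro i
    refine trel_one C D k1 y1 y2 w (hsub ?_) (hsub ?_) (fun i => hsub ?_) (fun i => hsub ?_) ?_ i
    · rw [map_pow, map_one]; exact perm_mU C
    · rw [map_pow, map_one]; exact perm_mX C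
    · rw [C.map_crel, map_one]; exact perm_crel C i
    · rw [map_grel, map_one]; exact perm_grel C D hk1 i
    · rw [ev2_theta C D (emb (gl1 p r)) hevU (MonoidHom.id _) (fun z => rfl) hconj, hevU, hevU, hconj]
      show FreeGroup.lift (both D) w * Y * (FreeGroup.lift (both D) w)⁻¹ = Gm
      rw [hw]
      exact Subtype.ext hz
  have hf : ∀ i, FreeGroup.lift f (W i) = 1 := fun i => by
    simp only [W, map_trel, FreeGroup.lift_apply_of]; exact hrelM i
  set π := PresentedGroup.toGroup (f := f) (rels := Set.range W) (by rintro _ ⟨i, rfl⟩; exact hf i) with hπ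
  set u : PresentedGroup (Set.range W) := PresentedGroup.of 0
  set x : PresentedGroup (Set.range W) := PresentedGroup.of 1
  set g : PresentedGroup (Set.range W) := PresentedGroup.of 2
  have hP : ∀ i, trel C D k1 y1 y2 w u x g i = 1 := fun i => by
    have h' := PresentedGroup.one_of_mem (rels := Set.range W) ⟨i, rfl⟩
    rwa [map_trel] at h'
  obtain ⟨θ, hθU, hθX, -, hθG⟩ := trel_hom C D k1 y1 y2 w hP hy1 hy2 hcy hgen
  have hθf : ∀ i, θ (f i) = PresentedGroup.of i := fun i => by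
    fin_cases i
    · exact hθU
    · exact hθX
    · show θ Gm = g
      rw [hθG, hw, ← hY]
      congr 1
      exact Subtype.ext hz.symm
  have hgenf : closure (Set.range f) = ⊤ := by
    rw [eq_top_iff, ← D.top, Subgroup.closure_le, ← FreeGroup.range_lift_eq_closure]
    have hGr : Gm ∈ (FreeGroup.lift f).range := ⟨FreeGroup.of 2, by simp [f]⟩
    have one : ∀ y, emb (gl1 p r) y ∈ (FreeGroup.lift f).range := by
      intro y
      rw [← hevU]
      have h : FreeGroup.lift ![U, X] (C.w y) ∈ (FreeGroup.lift ![U, X]).range := ⟨_, rfl⟩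
      rw [FreeGroup.range_lift_eq_closure] at h
      refine ((closure_le (FreeGroup.lift f).range).2 ?_) h
      rintro _ ⟨i, rfl⟩
      fin_cases i
      · exact ⟨FreeGroup.of 0, by simp [f]⟩
      · exact ⟨FreeGroup.of 1, by simp [f]⟩
    rintro _ (⟨y, rfl⟩ | ⟨y, rfl⟩)
    · exact one y
    · rw [← hq2 y, ← hconj]
      exact mul_mem (mul_mem hGr (one _)) (inv_mem hGr)
  obtain ⟨rels, hc, e, -⟩ := pres_equiv W f hf hgenf (by
    rw [← hπ, Subgroup.eq_bot_iff_forall]
    intro q hq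
    rw [MonoidHom.mem_ker] at hq
    have h : θ.comp π = MonoidHom.id _ := PresentedGroup.ext fun i => by
      show θ (π (PresentedGroup.of i)) = PresentedGroup.of i
      rw [show π (PresentedGroup.of i) = f i by simp [π]]; exact hθf i
    rw [← MonoidHom.id_apply (PresentedGroup (Set.range W)) q, ← h, MonoidHom.comp_apply, hq, map_one])
  exact ⟨rels, hc, ⟨e⟩⟩

end

end Cfsg.Agent.Small.BoundedPres
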