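import Mathlib
import Cfsg.Agent.Lib.Small.BoundedPres.ShortRels
import Cfsg.Agent.Lib.Small.BoundedPres.GlueK1
import Cfsg.Agent.S2530

/-!
Short presentations in small degree and in degree two more than a prime.
-/

set_option autoImplicit false
set_option linter.style.haveILetI false
set_option linter.unusedSectionVars false

namespace Cfsg.Agent.Small.BoundedPres

open Cfsg.Agent.Small.AltDeg Equiv Subgroup

/-- An inverse map gives trivial kernel. -/
theorem ker_bot_of_inv {G : Type*} [Group G] {ι : Type} {R : Set (FreeGroup ι)} (f : ι → G)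
    (π : PresentedGroup R →* G) (hπ : ∀ i, π (PresentedGroup.of i) = f i) (θ : G →* PresentedGroup R)
    (hθ : ∀ i, θ (f i) = PresentedGroup.of i) : π.ker = ⊥ := by
  rw [Subgroup.eq_bot_iff_forall]
  intro q hq
  rw [MonoidHom.mem_ker] at hq
  have h : θ.comp π = MonoidHom.id _ := PresentedGroup.ext fun i => by
    show θ (π (PresentedGroup.of i)) = PresentedGroup.of i
    rw [hπ]; exact hθ i
  rw [← MonoidHom.id_apply (PresentedGroup R) q, ← h, MonoidHom.comp_apply, hq, map_one]

theorem swap_cz (p : ℕ) [NeZero p] :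
    pconj (Equiv.swap (⟨0, by omega⟩ : Fin (p + 2)) ⟨1, by omega⟩) (cz p 0) = (cz p 0)⁻¹ := by
  show pconj _ (cyc _ _ _ _ _ _) = (cyc _ _ _ _ _ _)⁻¹
  refine (pconj_cyc _ _ _ _).trans (Eq.trans ?_ (cyc_inv _ _ _).symm)
  exact cyc_congr _ _ _ _ _ _ (Equiv.swap_apply_left _ _) (Equiv.swap_apply_right _ _)
    (Equiv.swap_apply_of_ne_of_ne (by simp [Fin.ext_iff]) (by simp [Fin.ext_iff]))

section Base

variable {p : ℕ} [NeZero p] (C : CopyData p)

include C

/-- Four relators for the alternating group of degree `p + 2`. -/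
def brel {Q : Type*} [Group Q] (u x : Q) : Fin 4 → Q :=
  ![u ^ p * (x ^ 3)⁻¹, C.crel u x 0, C.crel u x 1, C.crel u x 2]

theorem map_brel {Q Q' : Type*} [Group Q] [Group Q'] (f : Q →* Q') (u x : Q) (i : Fin 4) :
    f (brel C u x i) = brel C (f u) (f x) i := by
  fin_cases i <;> simp [brel, C.map_crel]

/-- Four relations for the alternating group of degree `p + 2`. -/
theorem alt_base : ∃ rels : Finset (FreeGroup (Fin 2)), rels.card ≤ 4 ∧
    Nonempty (PresentedGroup (↑rels : Set (FreeGroup (Fin 2))) ≃* A (p + 2)) := by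
  let f : Fin 2 → A (p + 2) := ![Tm p C.odd, cz p 0]
  let W : Fin 4 → FreeGroup (Fin 2) := brel C (FreeGroup.of 0) (FreeGroup.of 1)
  have hf : ∀ i, FreeGroup.lift f (W i) = 1 := fun i => by
    simp only [W, map_brel, FreeGroup.lift_apply_of]
    fin_cases i
    · show Tm p C.odd ^ p * (cz p 0 ^ 3)⁻¹ = 1
      rw [Tm_pow_self, cz, (gcyc_rels p).1, inv_one, mul_one]
    · exact C.crel_model 0
    · exact C.crel_model 1
    · exact C.crel_model 2
  set π := PresentedGroup.toGroup (f := f) (rels := Set.range W) (by rintro _ ⟨i, rfl⟩; exact hf i) with hπ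
  set u : PresentedGroup (Set.range W) := PresentedGroup.of 0
  set x : PresentedGroup (Set.range W) := PresentedGroup.of 1
  have hP : ∀ i, brel C u x i = 1 := fun i => by
    have h := PresentedGroup.one_of_mem (rels := Set.range W) ⟨i, rfl⟩
    rwa [map_brel] at h
  have hc : ∀ i, C.crel u x i = 1 := fun i => by
    fin_cases i
    · exact hP 1
    · exact hP 2
    · exact hP 3
  have h0 : u ^ p = x ^ 3 := mul_inv_eq_one.1 (hP 0)
  have hx3 : x ^ 3 = 1 := C.kill h0.symm ((Commute.refl x).pow_left 3) hc 0 (by simp)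
  obtain ⟨φ, -, hu, hx⟩ := C.hom_crel (h0.trans hx3) hx3 hc
  obtain ⟨rels, hcard, e, -⟩ := pres_equiv W f hf (by
    rw [show Set.range f = {Tm p C.odd, cz p 0} by simp [f, Matrix.range_cons, Matrix.range_empty, Set.pair_comm]]
    exact Tm_cz_top p C.odd) (ker_bot_of_inv f _ (fun i => by simp) φ (fun i => by
      fin_cases i
      · exact hu
      · exact hx))
  exact ⟨rels, hcard, ⟨e⟩⟩

/-- Five relators for the symmetric group of degree `p + 2`. -/
def qrel (q : ℕ) {Q : Type*} [Group Q] (b x : Q) : Fin 5 → Q :=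
  ![b ^ (2 * p) * (x ^ 3)⁻¹, C.crel (b ^ q) x 0, C.crel (b ^ q) x 1, C.crel (b ^ q) x 2,
    b ^ p * x * (b ^ p)⁻¹ * x]

theorem map_qrel (q : ℕ) {Q Q' : Type*} [Group Q] [Group Q'] (f : Q →* Q') (b x : Q) (i : Fin 5) :
    f (qrel C q b x i) = qrel C q (f b) (f x) i := by
  fin_cases i <;> simp [qrel, C.map_crel]

theorem qrel_one (q : ℕ) {Q : Type*} [Group Q] {b x : Q} (h0 : b ^ (2 * p) * (x ^ 3)⁻¹ = 1)
    (hc : ∀ i, C.crel (b ^ q) x i = 1) (h4 : b ^ p * x * (b ^ p)⁻¹ * x = 1) (i : Fin 5) :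
    qrel C q b x i = 1 := by
  fin_cases i
  · exact h0
  · exact hc 0
  · exact hc 1
  · exact hc 2
  · exact h4

/-- Five relations for the symmetric group of degree `p + 2`. -/
theorem sym_base : ∃ rels : Finset (FreeGroup (Fin 2)), rels.card ≤ 5 ∧
    Nonempty (PresentedGroup (↑rels : Set (FreeGroup (Fin 2))) ≃* Perm (Fin (p + 2))) := by
  have hp3 := C.three
  obtain ⟨q, c, s, hq1, hq2, hqp⟩ : ∃ q c s, q = 2 * s ∧ q + p = 1 + 2 * p * c ∧ q * p = 2 * p * s ∧ Odd s := by
    obtain ⟨j, hj⟩ := C.odd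
    rcases Nat.even_or_odd (j + 1) with he | he
    · refine ⟨3 * p + 1, 2, 3 * j + 2, by omega, by omega, by rw [show 3 * p + 1 = 2 * (3 * j + 2) by omega]; ring, ?_⟩
      obtain ⟨l, hl⟩ := he; rw [Nat.odd_iff]; omega
    · refine ⟨p + 1, 1, j + 1, by omega, by omega, by rw [show p + 1 = 2 * (j + 1) by omega]; ring, he⟩
  obtain ⟨hqp, hsodd⟩ := hqp
  set T : Perm (Fin (p + 2)) := Equiv.swap ⟨0, by omega⟩ ⟨1, by omega⟩ with hT
  set U : Perm (Fin (p + 2)) := ((Tm p C.odd : A (p + 2)) : Perm (Fin (p + 2))) with hU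
  set X : Perm (Fin (p + 2)) := ((cz p 0 : A (p + 2)) : Perm (Fin (p + 2))) with hX
  set B : Perm (Fin (p + 2)) := U * T with hB
  have hT2 : T * T = 1 := Equiv.swap_mul_self _ _
  have hUp : U ^ p = 1 := by rw [hU, ← Subgroup.coe_pow, Tm_pow_self]; rfl
  have hUT : Commute U T := by
    refine (commute_iff_eq _ _).2 (mul_inv_eq_iff_eq_mul.1 ?_).symm
    rw [hT, Equiv.swap_inv]
    refine Equiv.ext fun i => ?_
    rw [Perm.mul_apply, Perm.mul_apply]
    rcases Nat.lt_or_ge i.val 2 with hi | hi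
    · have h1 : (Equiv.swap (⟨0, by omega⟩ : Fin (p + 2)) ⟨1, by omega⟩ i).val < 2 := by
        rw [Equiv.swap_apply_def]; split_ifs <;> simp [hi]
      rw [hU, Tm_fix p C.odd h1, Tm_fix p C.odd hi, Equiv.swap_apply_self]
    · obtain ⟨d, rfl⟩ := cpt_surj p hi
      have e : ∀ d, Equiv.swap (⟨0, by omega⟩ : Fin (p + 2)) ⟨1, by omega⟩ (cpt p d) = cpt p d := fun d =>
        Equiv.swap_apply_of_ne_of_ne (cpt_ne p d (by simp)) (cpt_ne p d (by simp))
      rw [e, hU, Tm_apply, e]
  have hTpow : ∀ j, T ^ (2 * j) = 1 := fun j => by rw [pow_mul, pow_two, hT2, one_pow]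
  have hBp : B ^ p = T := by
    obtain ⟨j, hj⟩ := C.odd
    rw [hB, hUT.mul_pow, hUp, one_mul]
    exact (congrArg (T ^ ·) hj).trans (by rw [pow_succ, hTpow, one_mul])
  have hB2p : B ^ (2 * p) = 1 := by rw [mul_comm, pow_mul, hBp, pow_two, hT2]
  have hBq : B ^ q = U := by
    have h1 : B ^ (q + p) = B := by rw [hq2, pow_add, pow_mul, hB2p, one_pow, pow_one, mul_one]
    rw [pow_add, hBp] at h1
    exact mul_right_cancel h1
  let sub := (alternatingGroup (Fin (p + 2))).subtype
  let f : Fin 2 → Perm (Fin (p + 2)) := ![B, X]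
  let W : Fin 5 → FreeGroup (Fin 2) := qrel C q (FreeGroup.of 0) (FreeGroup.of 1)
  have hTX : T * X * T⁻¹ = X⁻¹ := by
    have h1 : pconj T (cz p 0) = (cz p 0)⁻¹ := swap_cz p
    exact congrArg Subtype.val h1
  have hf : ∀ i, FreeGroup.lift f (W i) = 1 := fun i => by
    simp only [W, map_qrel, FreeGroup.lift_apply_of]
    have hc : ∀ i, C.crel U X i = 1 := fun i => by
      have h := C.map_crel sub (Tm p C.odd) (cz p 0) i
      rw [C.crel_model, map_one] at h
      exact h.symm
    show qrel C q B X i = 1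
    refine qrel_one C q ?_ (fun i => by rw [hBq]; exact hc i) ?_ i
    · rw [hB2p, hX, ← Subgroup.coe_pow, cz, (gcyc_rels p).1]; simp
    · rw [hBp, hTX, inv_mul_cancel]
  set π := PresentedGroup.toGroup (f := f) (rels := Set.range W) (by rintro _ ⟨i, rfl⟩; exact hf i) with hπ
  have hπ0 : π (PresentedGroup.of 0) = B := by simp [π, f]
  have hπ1 : π (PresentedGroup.of 1) = X := by simp [π, f]
  set b : PresentedGroup (Set.range W) := PresentedGroup.of 0 with hb0
  set x : PresentedGroup (Set.range W) := PresentedGroup.of 1 with hx0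
  have hP : ∀ i, qrel C q b x i = 1 := fun i => by
    have h := PresentedGroup.one_of_mem (rels := Set.range W) ⟨i, rfl⟩
    rwa [map_qrel] at h
  have hc : ∀ i, C.crel (b ^ q) x i = 1 := fun i => by
    fin_cases i
    · exact hP 1
    · exact hP 2
    · exact hP 3
  have h0 : b ^ (2 * p) = x ^ 3 := mul_inv_eq_one.1 (hP 0)
  have h4 : b ^ p * x * (b ^ p)⁻¹ = x⁻¹ := eq_inv_of_mul_eq_one_left (hP 4)
  set Z := b ^ (2 * p) with hZ
  have hZ2 : Z * Z = 1 := by
    have h2 := congrArg (fun q => q ^ 3) h4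
    simp only [conj_pow, inv_pow] at h2
    rw [← h0, ((Commute.refl b).pow_pow p (2 * p)).eq, mul_inv_cancel_right] at h2
    exact eq_inv_iff_mul_eq_one.1 h2
  have hZs : (b ^ q) ^ p = Z := by
    rw [← pow_mul, hqp, pow_mul, ← hZ]
    obtain ⟨l, rfl⟩ := hsodd
    rw [pow_succ, pow_mul, pow_two, hZ2, one_pow, one_mul]
  have hZ1 : Z = 1 := C.kill hZs.symm (h0 ▸ (Commute.refl x).pow_left 3) hc 0 (by simpa using h0.symm)
  obtain ⟨φ, hev, hu, hx⟩ := C.hom_crel (hZs.trans hZ1) (h0.symm.trans hZ1) hc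
  set t := b ^ p with ht
  have htt : t * t = 1 := by rw [← pow_add, ← two_mul, ← hZ, hZ1]
  have hnorm : ∀ y ∈ φ.range, t * y * t⁻¹ ∈ φ.range := by
    rintro _ ⟨z, rfl⟩
    have hz : z ∈ closure ({Tm p C.odd, cz p 0} : Set (A (p + 2))) := by rw [Tm_cz_top]; trivial
    induction hz using Subgroup.closure_induction with
    | mem y hy =>
      rcases hy with rfl | rfl
      · rw [hu, ((Commute.refl b).pow_pow p q).eq, mul_inv_cancel_right]; exact ⟨_, hu⟩
      · rw [hx, h4]; exact inv_mem ⟨_, hx⟩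
    | one => simp
    | mul a c _ _ ha hc =>
      rw [map_mul, show t * (φ a * φ c) * t⁻¹ = t * φ a * t⁻¹ * (t * φ c * t⁻¹) by group]
      exact mul_mem ha hc
    | inv a _ ha =>
      rw [map_inv, show t * (φ a)⁻¹ * t⁻¹ = (t * φ a * t⁻¹)⁻¹ by group]
      exact inv_mem ha
  have hb : b = b ^ q * t := by
    rw [← pow_add, hq2, pow_add, pow_one, pow_mul, ← hZ, hZ1, one_pow, mul_one]
  have hcover : ∀ y : PresentedGroup (Set.range W), y ∈ φ.range ∨ t * y ∈ φ.range := by
    intro y
    have hy : y ∈ closure (Set.range (PresentedGroup.of (rels := Set.range W))) := by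
      rw [PresentedGroup.closure_range_of]; trivial
    have mulr : ∀ (s y : PresentedGroup (Set.range W)), s ∈ φ.range → (y ∈ φ.range ∨ t * y ∈ φ.range) →
        (s * y ∈ φ.range ∨ t * (s * y) ∈ φ.range) := by
      intro s y hs hy
      rcases hy with hy | hy
      · exact Or.inl (mul_mem hs hy)
      · refine Or.inr ?_
        rw [show t * (s * y) = t * s * t⁻¹ * (t * y) by group]
        exact mul_mem (hnorm s hs) hy
    have mulg : ∀ y, (y ∈ φ.range ∨ t * y ∈ φ.range) → (t * y ∈ φ.range ∨ t * (t * y) ∈ φ.range) := by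
      intro y hy
      rcases hy with hy | hy
      · exact Or.inr (by rwa [← mul_assoc, htt, one_mul])
      · exact Or.inl hy
    induction hy using Subgroup.closure_induction_left with
    | one => exact Or.inl (one_mem _)
    | mul_left s hs y _ ih =>
      obtain ⟨i, rfl⟩ := hs
      fin_cases i
      · show b * y ∈ φ.range ∨ t * (b * y) ∈ φ.range
        rw [hb, mul_assoc]
        exact mulr _ _ ⟨_, hu⟩ (mulg y ih)
      · exact mulr x y ⟨_, hx⟩ ih
    | inv_mul_cancel s hs y _ ih =>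
      obtain ⟨i, rfl⟩ := hs
      fin_cases i
      · show b⁻¹ * y ∈ φ.range ∨ t * (b⁻¹ * y) ∈ φ.range
        rw [show b⁻¹ = t * (b ^ q)⁻¹ from inv_eq_of_mul_eq_one_right (by
          show b * (b ^ p * (b ^ q)⁻¹) = 1
          rw [← mul_assoc, ← pow_succ', mul_inv_eq_one]
          have h5 : b ^ (q + p) * b ^ p = b * b ^ p := by rw [pow_add b q p, ← hb]
          rw [pow_succ', ← h5, pow_add b q p, mul_assoc, htt, mul_one]), mul_assoc]
        exact mulg _ (mulr _ y (inv_mem ⟨_, hu⟩) ih)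
      · exact mulr x⁻¹ y (inv_mem ⟨_, hx⟩) ih
  have hpt : ∀ z, π (φ z) = (z : Perm (Fin (p + 2))) := fun z => by
    rw [← hev, C.map_ev, map_pow, hπ0, hπ1, hBq, hU, hX]
    have h := C.map_ev sub (Tm p C.odd) (cz p 0) z
    rw [C.ev_model] at h
    exact h.symm
  obtain ⟨rels, hcard, e, -⟩ := pres_equiv W f hf (by
    rw [eq_top_iff]
    intro y _
    rw [← FreeGroup.range_lift_eq_closure]
    have hBr : B ∈ (FreeGroup.lift f).range := ⟨FreeGroup.of 0, by simp [f]⟩
    have hA : ∀ z : A (p + 2), (z : Perm (Fin (p + 2))) ∈ (FreeGroup.lift f).range := by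
      intro z
      have hz : z ∈ closure ({Tm p C.odd, cz p 0} : Set (A (p + 2))) := by rw [Tm_cz_top]; trivial
      refine (closure_le ((FreeGroup.lift f).range.comap sub)).2 ?_ hz
      rintro _ (rfl | rfl)
      · show ((Tm p C.odd : A (p + 2)) : Perm (Fin (p + 2))) ∈ (FreeGroup.lift f).range
        rw [← hU, ← hBq]; exact pow_mem hBr q
      · exact ⟨FreeGroup.of 1, by simp [f, sub, hX]⟩
    rcases Int.units_eq_one_or (Perm.sign y) with h | h
    · exact hA ⟨y, Perm.mem_alternatingGroup.2 h⟩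
    · have hTs : Perm.sign T = -1 := Perm.sign_swap (by simp)
      have h2 : Perm.sign (T * y) = 1 := by rw [map_mul, hTs, h]; rfl
      have hTr : T ∈ (FreeGroup.lift f).range := hBp ▸ pow_mem hBr p
      have h3 := mul_mem hTr (hA ⟨T * y, Perm.mem_alternatingGroup.2 h2⟩)
      rwa [← mul_assoc, hT2, one_mul] at h3) (by
    rw [← hπ, Subgroup.eq_bot_iff_forall]
    intro y hy
    rw [MonoidHom.mem_ker] at hy
    rcases hcover y with ⟨z, hz⟩ | ⟨z, hz⟩
    · rw [← hz, hpt] at hy
      rw [← hz, show z = 1 from Subtype.ext hy, map_one]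
    · have h1 := congrArg π hz
      rw [hpt, map_mul, hy, mul_one, map_pow, hπ0, hBp] at h1
      have h2 := congrArg Perm.sign h1
      rw [Perm.mem_alternatingGroup.1 z.2, hT, Perm.sign_swap (by simp)] at h2
      exact absurd h2 (by decide))
  exact ⟨rels, hcard, ⟨e⟩⟩

end Base

/-! The relators of Moore for symmetric groups. -/

/-- Moore's relators. -/
def mrel (n : ℕ) {Q : Type*} [Group Q] (s t : Q) : Fin (2 + (n / 2 - 1)) → Q :=
  Fin.append ![s * s, t ^ n * ((s * t) ^ (n - 1))⁻¹]
    fun j => (s * (t ^ (j.val + 2) * s * (t ^ (j.val + 2))⁻¹)) ^ 2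

theorem map_mrel (n : ℕ) {Q Q' : Type*} [Group Q] [Group Q'] (f : Q →* Q') (s t : Q) (i) :
    f (mrel n s t i) = mrel n (f s) (f t) i := by
  induction i using Fin.addCases with
  | left i => fin_cases i <;> simp [mrel]
  | right i => simp [mrel]

/-- Few relations for a symmetric group of small degree. -/
theorem sym_moore (m : ℕ) (hm : 2 ≤ m)
    (hM : ∀ i, mrel (m + 1) (Equiv.swap (0 : Fin (m + 1)) 1) (finRotate (m + 1)) i = 1)
    (hT : finRotate (m + 1) = (List.ofFn fun i : Fin m => Equiv.swap i.castSucc i.succ).prod)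
    (hn : finRotate (m + 1) ^ (m + 1) = 1) :
    ∃ rels : Finset (FreeGroup (Fin 2)), rels.card ≤ 2 + ((m + 1) / 2 - 1) ∧
      Nonempty (PresentedGroup (↑rels : Set (FreeGroup (Fin 2))) ≃* Perm (Fin (m + 1))) := by
  let f : Fin 2 → Perm (Fin (m + 1)) := ![Equiv.swap 0 1, finRotate (m + 1)]
  let W := mrel (m + 1) (FreeGroup.of (0 : Fin 2)) (FreeGroup.of 1)
  have hf : ∀ i, FreeGroup.lift f (W i) = 1 := fun i => by
    simp only [W, map_mrel, FreeGroup.lift_apply_of]; exact hM i
  set π := PresentedGroup.toGroup (f := f) (rels := Set.range W) (by rintro _ ⟨i, rfl⟩; exact hf i) with hπ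
  set s : PresentedGroup (Set.range W) := PresentedGroup.of 0
  set t : PresentedGroup (Set.range W) := PresentedGroup.of 1
  have hP : ∀ i, mrel (m + 1) s t i = 1 := fun i => by
    have h := PresentedGroup.one_of_mem (rels := Set.range W) ⟨i, rfl⟩
    rwa [map_mrel] at h
  have hss : s * s = 1 := by
    have := hP (Fin.castAdd _ 0)
    simpa [mrel] using this
  have htn : t ^ (m + 1) = (s * t) ^ m := by
    have := hP (Fin.castAdd _ 1)
    simpa [mrel, mul_inv_eq_one] using this
  have hsinv : s⁻¹ = s := inv_eq_of_mul_eq_one_right hss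
  have hZs : Commute (t ^ (m + 1)) s := by
    have h1 : Commute (t ^ (m + 1)) (s * t) := htn ▸ (Commute.refl (s * t)).pow_left m
    have h2 : Commute (t ^ (m + 1)) t := (Commute.refl t).pow_left _
    simpa using h1.mul_right h2.inv_right
  obtain ⟨S, hS⟩ : ∃ S : ℕ → PresentedGroup (Set.range W), ∀ i, S i = t ^ i * s * (t ^ i)⁻¹ := ⟨_, fun _ => rfl⟩
  have hSS : ∀ i, S i * S i = 1 := fun i => by
    rw [hS, show t ^ i * s * (t ^ i)⁻¹ * (t ^ i * s * (t ^ i)⁻¹) = t ^ i * (s * s) * (t ^ i)⁻¹ by group, hss]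
    simp
  have hperiod : ∀ i, S (i + (m + 1)) = S i := fun i => by
    rw [hS, hS, pow_add, show t ^ i * t ^ (m + 1) * s * (t ^ i * t ^ (m + 1))⁻¹ =
      t ^ i * (t ^ (m + 1) * s * (t ^ (m + 1))⁻¹) * (t ^ i)⁻¹ by group, hZs.eq, mul_inv_cancel_right]
  have hshift : ∀ i d, t ^ i * S d * (t ^ i)⁻¹ = S (i + d) := fun i d => by
    rw [hS, hS, pow_add]; group
  have hpair : ∀ j, 2 ≤ j → j ≤ (m + 1) / 2 → (S 0 * S j) ^ 2 = 1 := by
    intro j h1 h2
    have h := hP (Fin.natAdd 2 ⟨j - 2, by omega⟩)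
    simp only [mrel, Fin.append_right] at h
    rw [show j - 2 + 2 = j by omega] at h
    rwa [hS, hS, pow_zero, one_mul, inv_one, mul_one]
  have hfar : ∀ j, 2 ≤ j → j + 1 ≤ m → Commute (S 0) (S j) := by
    intro j h1 h2
    have inv2 : ∀ i, (S i)⁻¹ = S i := fun i => inv_eq_of_mul_eq_one_right (hSS i)
    have key : ∀ i d, (S i * S d) ^ 2 = 1 → Commute (S i) (S d) := fun i d h => by
      refine (commute_iff_eq _ _).2 ?_
      rw [pow_two] at h
      rw [eq_inv_of_mul_eq_one_left h, mul_inv_rev, inv2, inv2]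
    rcases Nat.lt_or_ge ((m + 1) / 2) j with h | h
    · have h3 := key _ _ (hpair (m + 1 - j) (by omega) (by omega))
      have h4 := h3.map (MulAut.conj (t ^ j)).toMonoidHom
      simp only [MulEquiv.coe_toMonoidHom, MulAut.conj_apply, hshift, add_zero] at h4
      rw [show j + (m + 1 - j) = 0 + (m + 1) by omega, hperiod] at h4
      exact h4.symm
    · exact key _ _ (hpair j h1 h)
  have hprod : ∀ l, ((List.range l).map S).prod = (s * t) ^ l * (t ^ l)⁻¹ := by
    intro l
    induction l with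
    | zero => simp
    | succ l ih =>
      rw [List.range_succ, List.map_append, List.prod_append, ih]
      simp only [List.map_singleton, List.prod_singleton, hS, pow_succ]
      group
  have htprod : t = ((List.range m).map S).prod := by
    rw [hprod, ← htn, pow_succ']; group
  have hbraid : (S 0 * S 1) ^ 3 = 1 := by
    obtain ⟨l, rfl⟩ : ∃ l, m = l + 2 := ⟨m - 2, by omega⟩
    set R := ((List.range l).map fun i => S (i + 2)).prod with hR
    have hcR : Commute (S 0) R := by
      refine Commute.list_prod_right _ _ fun y hy => ?_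
      obtain ⟨i, hi, rfl⟩ := List.mem_map.1 hy
      rw [List.mem_range] at hi
      exact hfar _ (by omega) (by omega)
    have ht : t = S 0 * (S 1 * R) := by
      rw [htprod, List.range_succ_eq_map, List.map_cons, List.prod_cons, List.range_succ_eq_map, List.map_cons,
        List.map_cons, List.prod_cons, List.map_map, List.map_map]
      rfl
    have h1 : t * S 0 * t⁻¹ = S 1 := by simpa using hshift 1 0
    rw [ht] at h1
    have h2 : S 0 * S 1 * S 0 * (S 1)⁻¹ * (S 0)⁻¹ = S 1 := by
      calc _ = S 0 * S 1 * (R * S 0 * R⁻¹) * (S 1)⁻¹ * (S 0)⁻¹ := by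
            rw [← hcR.eq, mul_inv_cancel_right]
        _ = S 0 * (S 1 * R) * S 0 * (S 0 * (S 1 * R))⁻¹ := by group
        _ = S 1 := h1
    rw [inv_eq_of_mul_eq_one_right (hSS 1), inv_eq_of_mul_eq_one_right (hSS 0)] at h2
    calc (S 0 * S 1) ^ 3 = S 0 * S 1 * S 0 * S 1 * S 0 * S 1 := by simp only [pow_succ, pow_zero, one_mul, mul_assoc]
      _ = 1 := by rw [h2, hSS]
  obtain ⟨cs, hcs⟩ := Cfsg.Agent.S2530.result m
  have hlift : (CoxeterMatrix.A m).IsLiftable (fun i : Fin m => S i.val) := by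
    intro i j
    show (S i.val * S j.val) ^ (CoxeterMatrix.A m).M i j = 1
    simp only [CoxeterMatrix.A, Matrix.of_apply]
    have sw : ∀ (a b : PresentedGroup (Set.range W)) (e : ℕ), (a * b) ^ e = 1 → (b * a) ^ e = 1 := by
      intro a b e h
      rw [show b * a = a⁻¹ * (a * b) * a⁻¹⁻¹ by group, conj_pow, h]; simp
    have conjS : ∀ (a d e : ℕ), (S 0 * S d) ^ e = 1 → (S a * S (a + d)) ^ e = 1 := by
      intro a d e h
      rw [show S a * S (a + d) = t ^ a * (S 0 * S d) * (t ^ a)⁻¹ by
        rw [← hshift a d, ← show t ^ a * S 0 * (t ^ a)⁻¹ = S a by simpa using hshift a 0]; group,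
        conj_pow, h]
      simp
    have comm2 : ∀ d, 2 ≤ d → d + 1 ≤ m → (S 0 * S d) ^ 2 = 1 := fun d h1 h2 => by
      rw [(hfar d h1 h2).mul_pow, pow_two, pow_two, hSS, hSS, one_mul]
    have hi := i.2
    have hj := j.2
    split_ifs with h1 h2
    · subst h1; rw [pow_one, hSS]
    · rcases h2 with h2 | h2
      · rw [show (i : ℕ) = j.val + 1 by omega]; exact sw _ _ _ (conjS _ 1 3 hbraid)
      · rw [show (j : ℕ) = i.val + 1 by omega]; exact conjS _ 1 3 hbraid
    · have h1' : (i : ℕ) ≠ j := fun e => h1 (Fin.ext e)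
      rcases Nat.lt_or_ge i.val j.val with h | h
      · rw [show (j : ℕ) = i.val + (j.val - i.val) by omega]
        exact conjS _ _ 2 (comm2 _ (by omega) (by omega))
      · rw [show (i : ℕ) = j.val + (i.val - j.val) by omega]
        exact sw _ _ _ (conjS _ _ 2 (comm2 _ (by omega) (by omega)))
  let θ : Perm (Fin (m + 1)) →* PresentedGroup (Set.range W) := cs.lift ⟨_, hlift⟩
  have hθ : ∀ i : Fin m, θ (Equiv.swap i.castSucc i.succ) = S i.val := fun i => by
    rw [← hcs]; exact cs.lift_apply_simple hlift i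
  have hθs : θ (Equiv.swap 0 1) = s := by
    have h := hθ ⟨0, by omega⟩
    rw [hS] at h
    simp only [pow_zero, one_mul, inv_one, mul_one] at h
    rw [← h]
    congr 1
    refine congrArg₂ Equiv.swap (Fin.ext (by simp)) (Fin.ext ?_)
    simp; omega
  have hθt : θ (finRotate (m + 1)) = t := by
    rw [hT, map_list_prod, List.map_ofFn, htprod]
    congr 1
    refine List.ext_getElem (by simp) fun i h1 h2 => ?_
    simp only [List.getElem_ofFn, Function.comp_apply, List.getElem_map, List.getElem_range]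
    exact hθ ⟨i, by simpa using h1⟩
  obtain ⟨rels, hc, e, -⟩ := pres_equiv W f hf (by
    rw [eq_top_iff]
    intro y _
    rw [← FreeGroup.range_lift_eq_closure]
    have hy : y ∈ closure (Set.range fun i : Fin m => Equiv.swap i.castSucc i.succ) := by
      have := Equiv.Perm.mclosure_swap_castSucc_succ m
      exact Subgroup.le_closure_toSubmonoid _ (this ▸ Submonoid.mem_top y)
    refine (closure_le (FreeGroup.lift f).range).2 ?_ hy
    rintro _ ⟨i, rfl⟩
    have key : ∀ i : ℕ, i < m → π (S i) ∈ (FreeGroup.lift f).range := fun i _ => by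
      rw [hS, map_mul, map_mul, map_inv, map_pow]
      have e0 : π s = f 0 := by simp [π, s]
      have e1 : π t = f 1 := by simp [π, t]
      rw [e0, e1]
      have r0 : f 0 ∈ (FreeGroup.lift f).range := ⟨FreeGroup.of 0, by simp⟩
      have r1 : f 1 ∈ (FreeGroup.lift f).range := ⟨FreeGroup.of 1, by simp⟩
      exact mul_mem (mul_mem (pow_mem r1 _) r0) (inv_mem (pow_mem r1 _))
    have h2 := key i.val i.2
    have hπθ : π.comp θ = MonoidHom.id _ := by
      refine cs.ext_simple fun j => ?_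
      show π (θ (cs.simple j)) = cs.simple j
      rw [hcs, hθ, hS, map_mul, map_mul, map_inv, map_pow]
      have e0 : π s = Equiv.swap 0 1 := by simp [π, s, f]
      have e1 : π t = finRotate (m + 1) := by simp [π, t, f]
      rw [e0, e1, ← Equiv.swap_apply_apply]
      have hr : ∀ (l : ℕ) (z : Fin (m + 1)), z.val + l < m + 1 → ((finRotate (m + 1) ^ l) z).val = z.val + l := by
        intro l
        induction l with
        | zero => intro z _; simp
        | succ l ih =>
          intro z hz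
          have h1 := ih z (by omega)
          rw [pow_succ', Perm.mul_apply, coe_finRotate_of_ne_last (by
            intro h; rw [h, Fin.val_last] at h1; omega), h1]
          omega
      congr 1
      · exact Fin.ext (by rw [hr _ 0 (by simp)]; simp)
      · have : ((1 : Fin (m + 1)) : ℕ) = 1 := by simp; omega
        exact Fin.ext (by rw [hr _ 1 (by omega), this]; simp; omega)
    have := DFunLike.congr_fun hπθ (Equiv.swap i.castSucc i.succ)
    rw [MonoidHom.comp_apply, hθ, MonoidHom.id_apply] at this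
    show Equiv.swap i.castSucc i.succ ∈ _
    rw [← this]; exact h2) (ker_bot_of_inv f _ (fun i => by simp) θ (fun i => by
      fin_cases i
      · exact hθs
      · exact hθt))
  exact ⟨rels, hc, ⟨e⟩⟩

end Cfsg.Agent.Small.BoundedPres
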