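import Mathlib
import Cfsg.Agent.Lib.Small.BoundedPres.PrimeGap
import Cfsg.Agent.Lib.Small.BoundedPres.ShortPres3
import Cfsg.Agent.Lib.Small.BoundedPres.ShortSmall
import Cfsg.Agent.Lib.Small.BoundedPres.ShortGen

/-!
Short presentations of symmetric and alternating groups of every degree.
-/

set_option autoImplicit false
set_option linter.style.haveILetI false
set_option linter.unusedSectionVars false

namespace Cfsg.Agent.Small.BoundedPres

open Cfsg.Agent.Small.AltDeg Equiv Subgroup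

/-- A presentation on `g` generators with at most `r` relations. -/
def PresN (g : ℕ) (G : Type*) [Group G] (r : ℕ) : Prop :=
  ∃ rels : Finset (FreeGroup (Fin g)), rels.card ≤ r ∧
    Nonempty (PresentedGroup (↑rels : Set (FreeGroup (Fin g))) ≃* G)

theorem PresN.mono {g r r' : ℕ} {G : Type*} [Group G] (h : PresN g G r) (hr : r ≤ r') : PresN g G r' := by
  obtain ⟨rels, hc, e⟩ := h
  exact ⟨rels, hc.trans hr, e⟩

theorem PresN.congr {g r : ℕ} {G G' : Type*} [Group G] [Group G'] (h : PresN g G r) (e : G ≃* G') : PresN g G' r := by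
  obtain ⟨rels, hc, ⟨e'⟩⟩ := h
  exact ⟨rels, hc, ⟨e'.trans e⟩⟩

theorem PresN.pres {g r : ℕ} {G : Type*} [Group G] (h : PresN g G r) : Pres G r := ⟨g, h⟩

/-- One idle generator costs one relation. -/
theorem PresN.succ {g r : ℕ} {G : Type*} [Group G] (h : PresN g G r) : PresN (g + 1) G (r + 1) := by
  classical
  obtain ⟨rels, hc, ⟨e⟩⟩ := h
  let ι : FreeGroup (Fin g) →* FreeGroup (Fin (g + 1)) := FreeGroup.map Fin.castSucc
  let R : Finset (FreeGroup (Fin (g + 1))) := insert (FreeGroup.of (Fin.last g)) (rels.image ι)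
  refine ⟨R, (Finset.card_insert_le _ _).trans (Nat.add_le_add_right (Finset.card_image_le.trans hc) 1), ?_⟩
  let f : Fin (g + 1) → PresentedGroup (↑rels : Set (FreeGroup (Fin g))) :=
    Fin.snoc (fun i => PresentedGroup.of i) 1
  have hfι : ∀ w, FreeGroup.lift f (ι w) = PresentedGroup.mk _ w := fun w =>
    DFunLike.congr_fun (FreeGroup.ext_hom ((FreeGroup.lift f).comp ι) (PresentedGroup.mk _) fun i => by
      simp [ι, f]; rfl) w
  have hR : ∀ w ∈ (↑R : Set (FreeGroup (Fin (g + 1)))), FreeGroup.lift f w = 1 := by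
    intro w hw
    rcases Finset.mem_insert.1 (Finset.mem_coe.1 hw) with rfl | hw
    · simp [f]
    · obtain ⟨v, hv, rfl⟩ := Finset.mem_image.1 hw
      rw [hfι]
      exact PresentedGroup.one_of_mem (Finset.mem_coe.2 hv)
  let π := PresentedGroup.toGroup hR
  let m := PresentedGroup.mk (↑R : Set (FreeGroup (Fin (g + 1))))
  have hback : ∀ v ∈ (↑rels : Set (FreeGroup (Fin g))),
      FreeGroup.lift (fun i : Fin g => (PresentedGroup.of i.castSucc : PresentedGroup (↑R : Set _))) v = 1 := by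
    intro v hv
    rw [show FreeGroup.lift (fun i : Fin g => (PresentedGroup.of i.castSucc : PresentedGroup (↑R : Set _))) v =
      m (ι v) from DFunLike.congr_fun (FreeGroup.ext_hom _ (m.comp ι) fun i => by simp [m, ι]; rfl) v]
    exact PresentedGroup.one_of_mem
      (Finset.mem_coe.2 (Finset.mem_insert_of_mem (Finset.mem_image_of_mem _ (Finset.mem_coe.1 hv))))
  let θ := PresentedGroup.toGroup hback
  refine ⟨(π.toMulEquiv θ (PresentedGroup.ext fun i => ?_) (PresentedGroup.ext fun i => ?_)).trans e⟩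
  · induction i using Fin.lastCases with
    | last =>
      have : (PresentedGroup.of (Fin.last g) : PresentedGroup (↑R : Set _)) = 1 :=
        PresentedGroup.one_of_mem (Finset.mem_coe.2 (Finset.mem_insert_self _ _))
      simp [this]
    | cast i => simp [π, θ, f]
  · simp [π, θ, f]

theorem exists_kgen (p r : ℕ) [NeZero p] (hk : 3 ≤ p + 2 - r) : ∃ k1 : A (p + 2), Supp (glK p r) k1 ∧
    ∀ y, Supp (glK p r) y → y ∈ closure ({cz p 0, k1} : Set (A (p + 2))) := by
  obtain ⟨c, hc⟩ := two_gen_cyc (p + 2 - r) hk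
  refine ⟨emb (kEmb p r) c, kEmb_supp p r c, fun y hy => ?_⟩
  refine mem_closure_emb (kEmb p r) hc ?_ ((pts_kEmb p r).symm ▸ hy)
  rintro t (rfl | rfl)
  · refine Subgroup.subset_closure (Or.inl ?_)
    rw [emb_cyc]
    show cyc _ _ _ _ _ _ = cyc _ _ _ _ _ _
    exact cyc_congr _ _ _ _ _ _ rfl rfl (Fin.ext (by simp [kEmb]))
  · exact Subgroup.subset_closure (Or.inr rfl)

/-- Gluing data whose involution fixes the first three points. -/
theorem exists_dataB (p r : ℕ) [NeZero p] (hr : 1 ≤ r) (hrp : r + 4 ≤ p) (d : ℕ) (hd : d ≤ 1) :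
    ∃ D : GlueData p r, pconj D.π (cz p 0) = cz p 0 ∧ Perm.sign D.G = (-1) ^ (r + d) := by
  classical
  obtain ⟨c, hc⟩ := two_gen_cyc (3 + r) (by omega)
  have main : ∀ σ : Perm (Fin (p + 2 - r)), σ * σ = 1 → σ.support.card = 2 * d →
      (∀ v : ℕ, ∀ hv : v < p + 2 - r, v < 3 → σ ⟨v, hv⟩ = ⟨v, hv⟩) →
      ∃ D : GlueData p r, pconj D.π (cz p 0) = cz p 0 ∧ Perm.sign D.G = (-1) ^ (r + d) := by
    intro σ hσ hsupp hfix
    let D := mkData p r 3 hr hrp le_rfl (Or.inl rfl) (kLift p r σ) (kLift_mul p r hσ) (kLift_fix p r σ) c hc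
    refine ⟨D, ?_, ?_⟩
    · have e : ∀ (v : ℕ) (hv : v < p + 2), v < 3 → D.π ⟨v, hv⟩ = ⟨v, hv⟩ := by
        intro v hv h3
        have : (⟨v, hv⟩ : Fin (p + 2)) = kEmb p r ⟨v, by omega⟩ := Fin.ext rfl
        rw [this]
        show kLift p r σ (kEmb p r ⟨v, _⟩) = _
        rw [kLift_apply, hfix v _ h3]
      show pconj D.π (cyc _ _ _ _ _ _) = cyc _ _ _ _ _ _
      refine (pconj_cyc _ _ _ _).trans (cyc_congr _ _ _ _ _ _ (e 0 _ (by omega)) (e 1 _ (by omega)) ?_)
      exact e _ _ (by simp)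
    · refine sign_of_invol D.G_mul ?_
      rw [D.G_support, show D.π.support.card = 2 * d from (kLift_support p r σ).trans hsupp]
      ring
  rcases (show d = 0 ∨ d = 1 by omega) with rfl | rfl
  · exact main 1 (one_mul _) (by simp) (fun v hv _ => rfl)
  · refine main (Equiv.swap ⟨3, by omega⟩ ⟨4, by omega⟩) (Equiv.swap_mul_self _ _)
      (by rw [Perm.card_support_swap (by simp)]) (fun v hv h => Equiv.swap_apply_of_ne_of_ne ?_ ?_)
    · simp [Fin.ext_iff]; omega
    · simp [Fin.ext_iff]; omega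

theorem sym_glue (p r : ℕ) [Fact p.Prime] (hp : 5 ≤ p) (hr : 1 ≤ r) (hrp : r + 4 ≤ p) :
    PresN 2 (Perm (Fin (p + r + 2))) 6 := by
  obtain ⟨C⟩ := exists_copyData p (by omega)
  obtain ⟨d, hd, hpar⟩ : ∃ d, d ≤ 1 ∧ Odd (r + d) := by
    rcases Nat.even_or_odd r with h | h
    · exact ⟨1, le_rfl, h.add_one⟩
    · exact ⟨0, by omega, h⟩
  obtain ⟨D, hX, hs⟩ := exists_dataB p r hr hrp d hd
  obtain ⟨k1, hk1, hgen⟩ := exists_kgen p r (by omega)
  exact sym_short C D k1 hk1 hX hgen (by rw [hs, hpar.neg_one_pow])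

theorem alt_glue (p r : ℕ) [Fact p.Prime] (hp : 5 ≤ p) (hr : 1 ≤ r) (hrp : r + 4 ≤ p) :
    PresN 2 (A (p + r + 2)) 7 := by
  obtain ⟨C⟩ := exists_copyData p (by omega)
  obtain ⟨d, hd, hpar⟩ : ∃ d, d ≤ 1 ∧ Even (r + d) := by
    rcases Nat.even_or_odd r with h | h
    · exact ⟨0, by omega, h⟩
    · exact ⟨1, le_rfl, h.add_one⟩
  obtain ⟨D, hX, hs⟩ := exists_dataB p r hr hrp d hd
  obtain ⟨k1, hk1, hgen⟩ := exists_kgen p r (by omega)
  exact alt_short C D k1 hk1 hX hgen (by rw [hs, hpar.neg_one_pow])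

theorem kgen_pair (p r : ℕ) (σ : Perm (Fin (p + 2 - r))) {c : A (p + 2 - r)}
    (hc : closure ({c, pconj σ c} : Set (A (p + 2 - r))) = ⊤) {y : A (p + 2)} (hy : Supp (glK p r) y) :
    y ∈ closure ({emb (kEmb p r) c, pconj (kLift p r σ) (emb (kEmb p r) c)} : Set (A (p + 2))) := by
  refine mem_closure_emb (kEmb p r) hc ?_ ((pts_kEmb p r).symm ▸ hy)
  rintro t (rfl | rfl)
  · exact Subgroup.subset_closure (Or.inl rfl)
  · exact Subgroup.subset_closure (Or.inr (pconj_kLift p r σ c).symm)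

/-- The involution inside the first copy. -/
theorem alt_glue3_small (p r d : ℕ) [Fact p.Prime] (hp : 5 ≤ p) (hr : 1 ≤ r) (hrp : r + 4 ≤ p)
    (hd : 2 * (r + d) ≤ p + 2) (hpar : Even (r + d))
    (hσ : ∃ σ : Perm (Fin (p + 2 - r)), σ * σ = 1 ∧ σ.support.card = 2 * d ∧
      ∃ k1 : A (p + 2 - r), closure ({k1, pconj σ k1} : Set (A (p + 2 - r))) = ⊤) :
    PresN 3 (A (p + r + 2)) 7 := by
  classical
  obtain ⟨C⟩ := exists_copyData p (by omega)
  obtain ⟨c0, hc0⟩ := two_gen_cyc (3 + r) (by omega)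
  obtain ⟨σ, hσ2, hsupp, c, hc⟩ := hσ
  let D := mkData p r 3 hr hrp le_rfl (Or.inl rfl) (kLift p r σ) (kLift_mul p r hσ2) (kLift_fix p r σ) c0 hc0
  have hG : D.G.support.card = 2 * (r + d) := by
    rw [D.G_support, show D.π.support.card = 2 * d from (kLift_support p r σ).trans hsupp]; ring
  obtain ⟨y1, hy1, hy1c⟩ := exists_invol (p + 2) (r + d) hd hpar
  refine alt_short3 C D (emb (kEmb p r) c) y1 1 (kEmb_supp p r c) ?_ hy1 (one_mul 1) (Or.inr rfl)
    (fun y hy => kgen_pair p r σ hc hy) ?_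
  · rw [sign_of_invol D.G_mul hG, hpar.neg_one_pow]
  · rw [map_one, mul_one, emb_card_support, hy1c, hG]

/-- The involution across both copies. -/
theorem alt_glue3_large (p r : ℕ) [Fact p.Prime] (hp : 5 ≤ p) (hr : 1 ≤ r) (hk : r + 12 ≤ p) :
    PresN 3 (A (p + r + 2)) 7 := by
  classical
  obtain ⟨C⟩ := exists_copyData p (by omega)
  obtain ⟨e, he3, he6, hmod⟩ : ∃ e, 3 ≤ e ∧ e ≤ 6 ∧ (e + r) % 4 = 0 := by
    rcases (show r % 4 = 0 ∨ r % 4 = 1 ∨ r % 4 = 2 ∨ r % 4 = 3 by omega) with h | h | h | h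
    · exact ⟨4, by omega, by omega, by omega⟩
    · exact ⟨3, by omega, by omega, by omega⟩
    · exact ⟨6, by omega, by omega, by omega⟩
    · exact ⟨5, by omega, by omega, by omega⟩
  have hodd : Odd p := (Fact.out : p.Prime).odd_of_ne_two (by omega)
  obtain ⟨h, hh, hN⟩ : ∃ h, Odd h ∧ e + r = 2 + 2 * h :=
    ⟨(e + r) / 2 - 1, by rw [Nat.odd_iff]; omega, by omega⟩
  obtain ⟨c0, hc0, hinv, hcard⟩ := gen_invol h (e + r) hh hN
  obtain ⟨σ, hσ2, hsupp, c, hc⟩ := gen_tsigma (p + 2 - r) e (by omega) (by omega) (by omega) (by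
    rcases Nat.lt_or_ge e 4 with h4 | h4
    · refine Or.inr ⟨by omega, ?_⟩
      obtain ⟨t, ht⟩ := hodd
      rw [Nat.even_iff]; omega
    · exact Or.inl h4)
  let D := mkData p r e hr (by omega) he3 (Or.inr (by omega)) (kLift p r σ) (kLift_mul p r hσ2)
    (kLift_fix p r σ) c0 hc0
  have hG : D.G.support.card = 2 * (r + e) := by
    rw [D.G_support, show D.π.support.card = 2 * e from (kLift_support p r σ).trans hsupp]; ring
  have hpar : Even (r + e) := by rw [Nat.even_iff]; omega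
  have sq : ∀ {ι : Fin (e + r) ↪ Fin (p + 2)}, emb ι c0 ^ h * emb ι c0 ^ h = 1 := fun {ι} => by
    rw [← map_pow, ← map_mul, hinv, map_one]
  have cd : ∀ {ι : Fin (e + r) ↪ Fin (p + 2)}, ((emb ι c0 ^ h : A (p + 2)) : Perm (Fin (p + 2))).support.card = e + r :=
    fun {ι} => by rw [← map_pow, emb_card_support, hcard]
  refine alt_short3 C D (emb (kEmb p r) c) (D.p1 ^ h) (D.q1 ^ h) (kEmb_supp p r c) ?_ sq sq
    (Or.inl ⟨h, h, rfl, rfl⟩) (fun y hy => kgen_pair p r σ hc hy) ?_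
  · rw [sign_of_invol D.G_mul hG, hpar.neg_one_pow]
  · rw [D.card_two, hG, show ((D.p1 ^ h : A (p + 2)) : Perm (Fin (p + 2))).support.card = e + r from cd,
      show ((D.q1 ^ h : A (p + 2)) : Perm (Fin (p + 2))).support.card = e + r from cd]
    ring

theorem sym_moore_small (n : ℕ) (h4 : 4 ≤ n) (h11 : n ≤ 11) : PresN 2 (Perm (Fin n)) 6 := by
  obtain ⟨m, rfl⟩ : ∃ m, n = m + 1 := ⟨n - 1, by omega⟩
  have key : (∀ i, mrel (m + 1) (Equiv.swap (0 : Fin (m + 1)) 1) (finRotate (m + 1)) i = 1) ∧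
      finRotate (m + 1) = (List.ofFn fun i : Fin m => Equiv.swap i.castSucc i.succ).prod ∧
      finRotate (m + 1) ^ (m + 1) = 1 := by
    obtain ⟨h1, h2⟩ : 3 ≤ m ∧ m ≤ 10 := ⟨by omega, by omega⟩
    interval_cases m <;> decide +kernel
  exact PresN.mono (sym_moore m (by omega) key.1 key.2.1 key.2.2) (by omega)

theorem sym_six (n : ℕ) (hn : 5 ≤ n) : PresN 2 (Perm (Fin n)) 6 := by
  rcases Nat.lt_or_ge n 12 with h | h
  · exact sym_moore_small n (by omega) (by omega)
  have base : n = 13 → PresN 2 (Perm (Fin n)) 6 := fun e => by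
    subst e
    haveI : Fact (Nat.Prime 11) := ⟨by norm_num⟩
    obtain ⟨C⟩ := exists_copyData 11 (by norm_num)
    exact PresN.mono (sym_base C) (by norm_num)
  have glue : ∀ p, p.Prime → 5 ≤ p → p + 3 ≤ n → n + 2 ≤ 2 * p → PresN 2 (Perm (Fin n)) 6 := by
    intro p hp h5 h1 h2
    obtain ⟨r, rfl⟩ : ∃ r, n = p + r + 2 := ⟨n - p - 2, by omega⟩
    haveI : Fact p.Prime := ⟨hp⟩
    exact sym_glue p r h5 (by omega) (by omega)
  rcases Nat.lt_or_ge n 20 with h20 | h20
  · rcases (show n = 12 ∨ n = 13 ∨ (14 ≤ n ∧ n ≤ 19) by omega) with e | e | e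
    · exact glue 7 (by norm_num) (by norm_num) (by omega) (by omega)
    · exact base e
    · exact glue 11 (by norm_num) (by norm_num) (by omega) (by omega)
  · obtain ⟨p, hp, h1, h2⟩ := exists_prime_window n h20
    exact glue p hp (by omega) h1 (by omega)

theorem alt_base_pres (p : ℕ) (hp : p.Prime) (h5 : 3 ≤ p) : PresN 2 (A (p + 2)) 4 := by
  haveI : Fact p.Prime := ⟨hp⟩
  obtain ⟨C⟩ := exists_copyData p (by omega)
  exact alt_base C

theorem alt_seven (n : ℕ) (hn : 7 ≤ n) : PresN 2 (A n) 7 := by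
  have glue : ∀ p, p.Prime → 5 ≤ p → p + 3 ≤ n → n + 2 ≤ 2 * p → PresN 2 (A n) 7 := by
    intro p hp h5 h1 h2
    obtain ⟨r, rfl⟩ : ∃ r, n = p + r + 2 := ⟨n - p - 2, by omega⟩
    haveI : Fact p.Prime := ⟨hp⟩
    exact alt_glue p r h5 (by omega) (by omega)
  rcases Nat.lt_or_ge n 20 with h20 | h20
  · rcases (show n = 7 ∨ n = 8 ∨ n = 9 ∨ (10 ≤ n ∧ n ≤ 12) ∨ n = 13 ∨ (14 ≤ n ∧ n ≤ 19) by omega) with
      e | e | e | e | e | e
    · subst e; exact PresN.mono (alt_base_pres 5 (by norm_num) (by norm_num)) (by norm_num)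
    · exact glue 5 (by norm_num) le_rfl (by omega) (by omega)
    · subst e; exact PresN.mono (alt_base_pres 7 (by norm_num) (by norm_num)) (by norm_num)
    · exact glue 7 (by norm_num) (by norm_num) (by omega) (by omega)
    · subst e; exact PresN.mono (alt_base_pres 11 (by norm_num) (by norm_num)) (by norm_num)
    · exact glue 11 (by norm_num) (by norm_num) (by omega) (by omega)
  · obtain ⟨p, hp, h1, h2⟩ := exists_prime_window n h20
    exact glue p hp (by omega) h1 (by omega)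

theorem alt_seven3 (n : ℕ) (hn : 7 ≤ n) : PresN 3 (A n) 7 := by
  rcases Nat.lt_or_ge n 20 with h20 | h20
  · have base : ∀ p, p.Prime → 5 ≤ p → n = p + 2 → PresN 3 (A n) 7 := fun p hp h5 e =>
      e ▸ PresN.mono (alt_base_pres p hp (by omega)).succ (by norm_num)
    have odd1 : ∀ p r, p.Prime → 5 ≤ p → n = p + r + 2 → Odd r → r + 4 ≤ p → 2 * (r + 1) ≤ p + 2 →
        PresN 3 (A n) 7 := by
      intro p r hp h5 e hr h1 h2
      haveI : Fact p.Prime := ⟨hp⟩
      subst e
      exact alt_glue3_small p r 1 h5 hr.pos h1 h2 hr.add_one (gen_swap (p + 2 - r) (by omega) (by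
        have := Nat.odd_iff.1 hr
        have := Nat.odd_iff.1 (hp.odd_of_ne_two (by omega))
        rw [Nat.even_iff]; omega))
    interval_cases n
    · exact base 5 (by norm_num) le_rfl rfl
    · exact odd1 5 1 (by norm_num) le_rfl rfl odd_one (by norm_num) (by norm_num)
    · exact base 7 (by norm_num) (by norm_num) rfl
    · exact odd1 7 1 (by norm_num) (by norm_num) rfl odd_one (by norm_num) (by norm_num)
    · haveI : Fact (Nat.Prime 7) := ⟨by norm_num⟩
      exact alt_glue3_small 7 2 2 (by norm_num) (by norm_num) (by norm_num) (by norm_num) (by decide) gen_seven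
    · exact odd1 7 3 (by norm_num) (by norm_num) rfl (by decide) (by norm_num) (by norm_num)
    · exact base 11 (by norm_num) (by norm_num) rfl
    · exact odd1 11 1 (by norm_num) (by norm_num) rfl odd_one (by norm_num) (by norm_num)
    · exact base 13 (by norm_num) (by norm_num) rfl
    · exact odd1 13 1 (by norm_num) (by norm_num) rfl odd_one (by norm_num) (by norm_num)
    · haveI : Fact (Nat.Prime 13) := ⟨by norm_num⟩
      exact alt_glue3_small 13 2 4 (by norm_num) (by norm_num) (by norm_num) (by norm_num) (by decide)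
        (gen_tsigma 13 4 (by norm_num) (by norm_num) (by norm_num) (Or.inl le_rfl))
    · exact odd1 13 3 (by norm_num) (by norm_num) rfl (by decide) (by norm_num) (by norm_num)
    · exact base 17 (by norm_num) (by norm_num) rfl
  · obtain ⟨p, hp, h1, h2⟩ := exists_prime_window n h20
    obtain ⟨r, rfl⟩ : ∃ r, n = p + r + 2 := ⟨n - p - 2, by omega⟩
    haveI : Fact p.Prime := ⟨hp⟩
    exact alt_glue3_large p r (by omega) (by omega) (by omega)

end Cfsg.Agent.Small.BoundedPres
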