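import Mathlib
import Cfsg.Agent.Lib.Small.BoundedPres.ShortAll

/-!
Presentations with a prescribed number of generators.
-/

set_option autoImplicit false
set_option linter.style.haveILetI false

namespace Cfsg.Agent.Small.BoundedPres

open Subgroup

variable {G : Type*} [Group G]

/-- Relations satisfied by generators, with a homomorphism back, present the group. -/
theorem PresN.of_inv {ι : Type} [Fintype ι] {g : ℕ} (hg : Fintype.card ι = g) (rels : Finset (FreeGroup ι))
    (f : ι → G) (hf : ∀ r ∈ rels, FreeGroup.lift f r = 1)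
    (θ : G →* PresentedGroup (↑rels : Set (FreeGroup ι)))
    (hθ : ∀ i, θ (f i) = PresentedGroup.of i) (hgen : closure (Set.range f) = ⊤) :
    PresN g G rels.card := by
  classical
  subst hg
  let π := PresentedGroup.toGroup (f := f) (rels := (↑rels : Set (FreeGroup ι)))
    (fun r hr => hf r (Finset.mem_coe.mp hr))
  have h1 : θ.comp π = MonoidHom.id _ := PresentedGroup.ext fun i => by
    simp [π, hθ]
  have h2 : π.comp θ = MonoidHom.id G := MonoidHom.eq_of_eqOn_dense hgen (by
    rintro _ ⟨i, rfl⟩
    simp [π, hθ])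
  let e0 : PresentedGroup (↑rels : Set (FreeGroup ι)) ≃* G := π.toMulEquiv θ h1 h2
  let σ := Fintype.equivFin ι
  let Φ := FreeGroup.freeGroupCongr σ
  refine ⟨rels.image Φ, Finset.card_image_le, ⟨?_⟩⟩
  have e1 : PresentedGroup (↑(rels.image Φ) : Set (FreeGroup (Fin (Fintype.card ι)))) ≃*
      PresentedGroup (↑rels : Set (FreeGroup ι)) := by
    rw [Finset.coe_image]
    exact (PresentedGroup.equivPresentedGroup _ σ).symm
  exact e1.trans e0

/-- Using a presentation: homomorphisms are the same as tuples satisfying the relations. -/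
theorem PresN.exists_hom {g r : ℕ} (h : PresN g G r) :
    ∃ rels : Finset (FreeGroup (Fin g)), ∃ q : FreeGroup (Fin g) →* G,
      rels.card ≤ r ∧ Function.Surjective q ∧ (∀ w ∈ rels, q w = 1) ∧
      ∀ {H : Type} [Group H] (ψ : FreeGroup (Fin g) →* H), (∀ w ∈ rels, ψ w = 1) →
        ∃ φ : G →* H, ∀ w, φ (q w) = ψ w := by
  obtain ⟨rels, hc, ⟨e⟩⟩ := h
  refine ⟨rels, e.toMonoidHom.comp (PresentedGroup.mk _), hc,
    e.surjective.comp (PresentedGroup.mk_surjective _), fun w hw => ?_, ?_⟩
  · show e (PresentedGroup.mk _ w) = 1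
    rw [PresentedGroup.one_of_mem (Finset.mem_coe.mpr hw), map_one]
  · intro H _ ψ hψ
    let j := PresentedGroup.toGroup (f := fun i => ψ (FreeGroup.of i))
      (rels := (↑rels : Set (FreeGroup (Fin g)))) (fun w hw => by
        rw [show FreeGroup.lift (fun i => ψ (FreeGroup.of i)) = ψ from
          FreeGroup.ext_hom _ _ fun i => by simp]
        exact hψ w (Finset.mem_coe.mp hw))
    refine ⟨j.comp e.symm.toMonoidHom, fun w => ?_⟩
    show j (e.symm (e (PresentedGroup.mk _ w))) = ψ w
    rw [e.symm_apply_apply]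
    exact DFunLike.congr_fun (FreeGroup.ext_hom (j.comp (PresentedGroup.mk _)) ψ fun i => by
      show j (PresentedGroup.of i) = _
      simp [j]) w

/-- One more relation presents a quotient by the normal closure of an element. -/
theorem PresN.quotient {g r : ℕ} (h : PresN g G r) (z : G) (N : Subgroup G) [N.Normal]
    (hN : Subgroup.normalClosure {z} = N) : PresN g (G ⧸ N) (r + 1) := by
  classical
  obtain ⟨rels, q, hc, hq, hrel, huniv⟩ := h.exists_hom
  obtain ⟨w, hw⟩ := hq z
  have hf : ∀ v, FreeGroup.lift (fun i => (QuotientGroup.mk (q (FreeGroup.of i)) : G ⧸ N)) v =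
      QuotientGroup.mk' N (q v) := fun v => DFunLike.congr_fun
    (FreeGroup.ext_hom (FreeGroup.lift _) ((QuotientGroup.mk' N).comp q) fun i => by simp) v
  set R := insert w rels with hR
  obtain ⟨φ, hφ⟩ := huniv (PresentedGroup.mk (↑R : Set (FreeGroup (Fin g))))
    fun v hv => PresentedGroup.one_of_mem (by simp [hR, hv])
  have hle : N ≤ φ.ker := by
    rw [← hN]
    refine Subgroup.normalClosure_le_normal ?_
    intro x (hx : x = z)
    show φ x = 1
    rw [hx, ← hw, hφ]
    exact PresentedGroup.one_of_mem (by simp [hR])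
  refine (PresN.of_inv (Fintype.card_fin g) R (fun i => (QuotientGroup.mk (q (FreeGroup.of i)) : G ⧸ N)) ?_
    (QuotientGroup.lift N φ hle) (fun i => ?_) ?_).mono
      ((Finset.card_insert_le _ _).trans (Nat.add_le_add_right hc 1))
  · intro v hv
    rw [hf]
    rcases Finset.mem_insert.mp hv with rfl | hv
    · rw [hw, QuotientGroup.mk'_apply, QuotientGroup.eq_one_iff, ← hN]
      exact Subgroup.subset_normalClosure rfl
    · rw [hrel v hv, map_one]
  · show φ (q (FreeGroup.of i)) = _
    rw [hφ]; rfl
  · rw [eq_top_iff]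
    intro x _
    obtain ⟨y, rfl⟩ := QuotientGroup.mk'_surjective N x
    obtain ⟨v, rfl⟩ := hq y
    rw [← hf, ← FreeGroup.range_lift_eq_closure]
    exact ⟨v, rfl⟩

end Cfsg.Agent.Small.BoundedPres
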