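import Mathlib
import Cfsg.Agent.Lib.Small.BoundedPres.AltPres
import Cfsg.Agent.Lib.Small.SL3Pres.Main
import Cfsg.Agent.Lib.Small.SchurSLn

/-!
Permutation matrices, transport of triples and field lemmas for bounded presentations of the special linear
groups.
-/

set_option autoImplicit false
set_option linter.style.haveILetI false

namespace Cfsg.Agent.Small.BoundedPres

open Cfsg.Agent.Small.AltDeg Equiv Subgroup Matrix Cfsg.Agent.Lead.SL2Pres Cfsg.Agent.Small.SL3Pres

variable {F : Type*} [Field F] {n : ℕ}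

local notation "T" => Matrix.SpecialLinearGroup.transvection

/-- Even permutations as matrices of determinant one. -/
def pm : A n →* Matrix.SpecialLinearGroup (Fin n) F where
  toFun σ := ⟨((σ : Perm (Fin n))⁻¹).permMatrix F, by
    rw [Matrix.det_permutation, map_inv, Perm.mem_alternatingGroup.1 σ.2]; simp⟩
  map_one' := Subtype.ext (by simp)
  map_mul' σ τ := Subtype.ext (by
    show ((σ * τ : A n) : Perm (Fin n))⁻¹.permMatrix F = _ * _
    rw [Subgroup.coe_mul, _root_.mul_inv_rev, Matrix.permMatrix_mul])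

theorem pm_mulVec (σ : A n) (v : Fin n → F) (k : Fin n) :
    ((pm σ : Matrix.SpecialLinearGroup (Fin n) F).1 *ᵥ v) k = v ((σ : Perm (Fin n))⁻¹ k) := by
  show (((σ : Perm (Fin n))⁻¹).permMatrix F *ᵥ v) k = _
  rw [Matrix.permMatrix_mulVec]; rfl

theorem sl_ext_mulVec {a b : Matrix.SpecialLinearGroup (Fin n) F} (h : ∀ v k, (a.1 *ᵥ v) k = (b.1 *ᵥ v) k) :
    a = b := by
  refine Subtype.ext (Matrix.ext_of_mulVec_single fun i => funext fun k => h _ k)

theorem transvection_mulVec {i j : Fin n} (hij : i ≠ j) (t : F) (v : Fin n → F) (k : Fin n) :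
    ((T hij t).1 *ᵥ v) k = if k = i then v k + t * v j else v k := by
  rw [Matrix.SpecialLinearGroup.transvection_coe, Matrix.add_mulVec, Matrix.one_mulVec,
    Matrix.single_mulVec, Pi.add_apply]
  by_cases h : k = i
  · subst h; simp
  · simp [h]

theorem pm_conj (σ : A n) {i j : Fin n} (hij : i ≠ j) (t : F) :
    pm σ * T hij t * (pm σ : Matrix.SpecialLinearGroup (Fin n) F)⁻¹ =
      T ((σ : Perm (Fin n)).injective.ne hij) t := by
  rw [mul_inv_eq_iff_eq_mul]
  refine sl_ext_mulVec fun v k => ?_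
  simp only [Matrix.SpecialLinearGroup.coe_mul, ← Matrix.mulVec_mulVec]
  rw [pm_mulVec, transvection_mulVec, transvection_mulVec, pm_mulVec, pm_mulVec]
  simp only [Perm.inv_def, Equiv.symm_apply_eq, Equiv.symm_apply_apply]

/-- An even permutation with prescribed values on a short list, up to a transposition. -/
theorem exists_even_map {k : ℕ} (p q : Fin k ↪ Fin n) (a b : Fin n) (hab : a ≠ b) :
    (∃ σ : A n, ∀ i, (σ : Perm (Fin n)) (p i) = q i) ∨
      ∃ σ : A n, ∀ i, (σ : Perm (Fin n)) (p i) = Equiv.swap a b (q i) := by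
  classical
  obtain ⟨g, hg⟩ : ∃ g : Perm (Fin n), ∀ i, g (p i) = q i := by
    obtain ⟨e, he⟩ : ∃ e : {x // x ∈ Set.range p} ≃ {x // x ∈ Set.range q}, ∀ i,
        (e ⟨p i, ⟨i, rfl⟩⟩ : Fin n) = q i :=
      ⟨(Equiv.ofInjective p p.injective).symm.trans (Equiv.ofInjective q q.injective), fun i => by
        show ((Equiv.ofInjective q q.injective) ((Equiv.ofInjective p p.injective).symm ⟨p i, _⟩) : Fin n) = q i
        rw [Equiv.ofInjective_symm_apply]; rfl⟩
    exact ⟨e.extendSubtype, fun i => by rw [e.extendSubtype_apply_of_mem _ ⟨i, rfl⟩, he]⟩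
  by_cases hs : Perm.sign g = 1
  · exact Or.inl ⟨⟨g, Perm.mem_alternatingGroup.2 hs⟩, hg⟩
  · refine Or.inr ⟨⟨Equiv.swap a b * g, Perm.mem_alternatingGroup.2 ?_⟩, fun i => ?_⟩
    · rw [map_mul, Perm.sign_swap hab, (Int.units_eq_one_or _).resolve_left hs]; rfl
    · show Equiv.swap a b (g (p i)) = _
      rw [hg]

/-- Triples of a system of root elements give homomorphisms from the rank two group. -/
theorem exists_lift3 [Finite F] {G : Type*} [Group G] (x : Fin 3 → Fin 3 → F → G)
    (hadd : ∀ i j, i ≠ j → ∀ t u, x i j t * x i j u = x i j (t + u))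
    (hcomm : ∀ i j k l, i ≠ j → k ≠ l → i ≠ l → j ≠ k → ∀ t u, Commute (x i j t) (x k l u))
    (hcomm3 : ∀ i j l, i ≠ j → j ≠ l → i ≠ l → ∀ t u, x i j t * x j l u = x i l (t * u) * x j l u * x i j t) :
    ∃ Φ : Matrix.SpecialLinearGroup (Fin 3) F →* G, ∀ (i j : Fin 3) (h : i ≠ j) (t : F), Φ (T h t) = x i j t := by
  obtain ⟨e, he⟩ := SteinbergSLn.main (K := F) 3 le_rfl
  let f : {ij : Fin 3 × Fin 3 // ij.1 ≠ ij.2} × F → G := fun p => x p.1.1.1 p.1.1.2 p.2
  have hf : ∀ r ∈ SteinbergSLn.rels 3 F, FreeGroup.lift f r = 1 := by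
    rintro r ((⟨a, t, u, rfl⟩ | ⟨a, b, t, u, h1, h2, rfl⟩) | ⟨a, b, h, t, u, h2, rfl⟩)
    · simp only [map_mul, map_inv, FreeGroup.lift_apply_of, f]
      rw [hadd _ _ a.2, mul_inv_cancel]
    · simp only [map_mul, map_inv, FreeGroup.lift_apply_of, f]
      rw [(hcomm _ _ _ _ a.2 b.2 h1 h2 t u).eq]; group
    · obtain ⟨⟨i, j⟩, hij⟩ := a
      obtain ⟨⟨j', l⟩, hjl⟩ := b
      simp only at h h2 hij hjl
      subst h2
      simp only [map_mul, map_inv, FreeGroup.lift_apply_of, f]
      rw [hcomm3 i j l hij hjl h t u]; group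
  refine ⟨(PresentedGroup.toGroup hf).comp e.symm.toMonoidHom, fun i j h t => ?_⟩
  have : e.symm (T h t) = PresentedGroup.of (⟨(i, j), h⟩, t) := by
    rw [MulEquiv.symm_apply_eq]; exact Subtype.ext (he ⟨(i, j), h⟩ t).symm
  show PresentedGroup.toGroup hf (e.symm _) = _
  rw [this, PresentedGroup.toGroup.of]

/-- Transport along an injection of indices. -/
theorem exists_block [Finite F] {m : ℕ} (hm : 3 ≤ m) (p : Fin 3 ↪ Fin m) :
    ∃ Φ : Matrix.SpecialLinearGroup (Fin 3) F →* Matrix.SpecialLinearGroup (Fin m) F,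
      ∀ (i j : Fin 3) (h : i ≠ j) (t : F), Φ (T h t) = T (p.injective.ne h) t := by
  obtain ⟨S, hS⟩ := SchurSLn.exists_St (K := F) (n := m) hm
  obtain ⟨Φ, hΦ⟩ := exists_lift3 (fun i j t => S.x (p i) (p j) t) (fun i j h => S.xadd _ _ (p.injective.ne h))
    (fun i j k l h1 h2 h3 h4 => S.comm _ _ _ _ (p.injective.ne h1) (p.injective.ne h2) (p.injective.ne h3)
      (p.injective.ne h4))
    (fun i j l h1 h2 h3 => S.comm3 _ _ _ (p.injective.ne h1) (p.injective.ne h2) (p.injective.ne h3))
  exact ⟨Φ, fun i j h t => by rw [hΦ, ← hS (S.x _ _ _), S.φx _ _ (p.injective.ne h)]⟩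

/-- A torus element as a product of transvections. -/
def th {i j : Fin n} (hij : i ≠ j) (t : F) : Matrix.SpecialLinearGroup (Fin n) F :=
  T hij t * T hij.symm (-t⁻¹) * T hij t * (T hij 1 * T hij.symm (-1) * T hij 1)⁻¹

theorem th_scale [Finite F] (hn : 3 ≤ n) {i j : Fin n} (hij : i ≠ j) {t : F} (ht : t ≠ 0) {k l : Fin n}
    (hkl : k ≠ l) (u : F) :
    th hij t * T hkl u * (th hij t)⁻¹ =
      T hkl ((if k = i then t else if k = j then t⁻¹ else 1) *
        (if l = i then t⁻¹ else if l = j then t else 1) * u) := by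
  obtain ⟨S, hS⟩ := SchurSLn.exists_St (K := F) (n := n) hn
  have hx : ∀ {a b : Fin n} (h : a ≠ b) (s : F), S.x a b s = T h s := fun {a b} h s => by
    rw [← hS (S.x a b s), S.φx a b h]
  have hh : th hij t = S.h i j t := by
    rw [th, SteinbergSLn.St.h, SteinbergSLn.St.w, SteinbergSLn.St.w, hx hij, hx hij, hx hij.symm, hx hij.symm,
      inv_one]
  rw [mul_inv_eq_iff_eq_mul, hh, ← hx hkl, ← hx hkl,
    ← hS (S.h i j t * S.x k l u), ← hS (S.x k l _ * S.h i j t)]
  refine S.phi_eq fun v => funext fun m => ?_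
  simp only [SteinbergSLn.St.act_mul, S.act_h hij ht, S.act_x hkl]
  have hlk : l ≠ k := hkl.symm
  by_cases hmk : m = k
  · subst hmk
    by_cases hmi : m = i
    · subst hmi
      by_cases hlj : l = j
      · subst hlj; simp [hij.symm]; field_simp
      · simp [hlk, hlj]; ring
    · by_cases hmj : m = j
      · subst hmj
        by_cases hli : l = i
        · subst hli; simp [hij, hij.symm]; field_simp
        · simp [hmi, hli, hlk]; ring
      · by_cases hli : l = i
        · subst hli; simp [hmi, hmj, hij]; field_simp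
        · by_cases hlj : l = j
          · subst hlj; simp [hmi, hmj, hij.symm]; field_simp
          · simp [hmi, hmj, hli, hlj]
  · by_cases hmi : m = i
    · subst hmi; simp [hmk]
    · by_cases hmj : m = j
      · subst hmj; simp [hmi, hmk]
      · simp [hmk, hmi, hmj]

/-- Squares span. -/
theorem squares_span [Fintype F] :
    AddSubgroup.closure {x : F | ∃ l : Fˣ, x = (l : F) ^ 2} = ⊤ := by
  set H := AddSubgroup.closure {x : F | ∃ l : Fˣ, x = (l : F) ^ 2}
  have hsq : ∀ y : F, y ^ 2 ∈ H := fun y => by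
    rcases eq_or_ne y 0 with rfl | hy
    · simp
    · exact AddSubgroup.subset_closure ⟨Units.mk0 y hy, rfl⟩
  rw [eq_top_iff]
  intro c _
  by_cases h2 : ringChar F = 2
  · obtain ⟨y, hy⟩ := FiniteField.isSquare_of_char_two h2 c
    rw [hy, ← pow_two]; exact hsq y
  · have e2 : (2 : F) ≠ 0 := Ring.two_ne_zero h2
    have : c = ((c + 1) / 2) ^ 2 - ((c - 1) / 2) ^ 2 := by field_simp; ring
    rw [this]; exact H.sub_mem (hsq _) (hsq _)

/-- One or two classes modulo cubes span. -/
theorem cube_classes [Fintype F] :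
    ∃ K : Finset F, K.card ≤ 2 ∧ (∀ k ∈ K, k ≠ 0) ∧
      AddSubgroup.closure {x : F | ∃ k ∈ (K : Set F), ∃ l : Fˣ, x = k * (l : F) ^ 3} = ⊤ ∧
      AddSubgroup.closure {x : F | ∃ k ∈ (K : Set F), ∃ l : Fˣ, x = k⁻¹ * (l : F) ^ 3} = ⊤ := by
  classical
  obtain ⟨ζ, hζ⟩ := IsCyclic.exists_generator (α := Fˣ)
  by_cases h4 : Fintype.card F = 4
  · have hζ1 : (ζ : F) ≠ 1 := by
      intro h
      have hord : orderOf ζ = Fintype.card F - 1 := by
        rw [orderOf_eq_card_of_forall_mem_zpowers hζ, Nat.card_units, Nat.card_eq_fintype_card]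
      rw [show ζ = 1 from Units.ext h, orderOf_one, h4] at hord
      omega
    have key : ∀ g : F → F, g 1 = 1 → g (ζ : F) ≠ 0 → g (ζ : F) ≠ 1 →
        AddSubgroup.closure {x : F | ∃ k ∈ (({1, (ζ : F)} : Finset F) : Set F),
          ∃ l : Fˣ, x = g k * (l : F) ^ 3} = ⊤ := by
      intro g hg hy0 hy1
      set H := AddSubgroup.closure {x : F | ∃ k ∈ (({1, (ζ : F)} : Finset F) : Set F),
        ∃ l : Fˣ, x = g k * (l : F) ^ 3}
      have h1 : (1 : F) ∈ H := AddSubgroup.subset_closure ⟨1, by simp, 1, by simp [hg]⟩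
      have hy : g (ζ : F) ∈ H := AddSubgroup.subset_closure ⟨(ζ : F), by simp, 1, by simp⟩
      apply AddSubgroup.eq_top_of_card_eq
      have hdvd := AddSubgroup.card_addSubgroup_dvd_card H
      rw [Nat.card_eq_fintype_card (α := F), h4] at hdvd ⊢
      haveI : Fintype H := Fintype.ofFinite H
      have hge : 3 ≤ Nat.card H := by
        let z : Fin 3 → H := ![0, ⟨1, h1⟩, ⟨g (ζ : F), hy⟩]
        have hz : Function.Injective z := by
          intro a b hab
          have hab' := congrArg (Subtype.val : H → F) hab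
          fin_cases a <;> fin_cases b <;>
            first
              | rfl
              | exact absurd hab' zero_ne_one
              | exact absurd hab' one_ne_zero
              | exact absurd hab' hy0
              | exact absurd hab' hy0.symm
              | exact absurd hab' hy1
              | exact absurd hab' hy1.symm
        have := Nat.card_le_card_of_injective z hz
        simpa using this
      have hle := Nat.le_of_dvd (by norm_num) hdvd
      interval_cases h : Nat.card H <;> omega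
    refine ⟨{1, (ζ : F)}, Finset.card_le_two, ?_, key id rfl ζ.ne_zero hζ1,
      key (fun k => k⁻¹) inv_one (inv_ne_zero ζ.ne_zero) fun h => hζ1 (inv_eq_one.mp h)⟩
    intro k hk
    simp only [Finset.mem_insert, Finset.mem_singleton] at hk
    rcases hk with rfl | rfl
    exacts [one_ne_zero, ζ.ne_zero]
  · refine ⟨{1}, by simp, by simp, ?_, ?_⟩
    all_goals
      rw [eq_top_iff, ← cubes_span h4]
      refine AddSubgroup.closure_mono ?_
      rintro _ ⟨l, rfl⟩
      exact ⟨1, by simp, l, by simp⟩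

/-- Exchange of the two coordinates. -/
def swFun (g : Matrix.SpecialLinearGroup (Fin 2) F) : Matrix.SpecialLinearGroup (Fin 2) F :=
  ⟨!![g.1 1 1, g.1 1 0; g.1 0 1, g.1 0 0], by
    have := g.2
    rw [Matrix.det_fin_two] at this
    rw [Matrix.det_fin_two_of]; linear_combination this⟩

theorem swFun_coe (g : Matrix.SpecialLinearGroup (Fin 2) F) :
    (swFun g).1 = !![g.1 1 1, g.1 1 0; g.1 0 1, g.1 0 0] := rfl

/-- Exchange of the two coordinates, as an automorphism. -/
def sw : Matrix.SpecialLinearGroup (Fin 2) F →* Matrix.SpecialLinearGroup (Fin 2) F where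
  toFun := swFun
  map_one' := by
    apply Matrix.SpecialLinearGroup.ext; intro i j
    fin_cases i <;> fin_cases j <;> simp [swFun_coe]
  map_mul' g h := by
    apply Matrix.SpecialLinearGroup.ext; intro i j
    simp only [Matrix.SpecialLinearGroup.coe_mul]
    fin_cases i <;> fin_cases j <;> simp [swFun_coe, Matrix.mul_apply, Fin.sum_univ_two] <;> ring

theorem sw_un (a : F) : sw (un a) = ln a := by
  apply Matrix.SpecialLinearGroup.ext; intro i j
  show (swFun (un a)).1 i j = _
  rw [swFun_coe]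
  fin_cases i <;> fin_cases j <;> simp [un, ln]

theorem sw_ln (a : F) : sw (ln a) = un a := by
  apply Matrix.SpecialLinearGroup.ext; intro i j
  show (swFun (ln a)).1 i j = _
  rw [swFun_coe]
  fin_cases i <;> fin_cases j <;> simp [un, ln]

end Cfsg.Agent.Small.BoundedPres
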