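import Mathlib
import Cfsg.Agent.Lib.Small.BoundedPres.SLnBase

/-!
Steinberg's relations from relations between the rank one group and the even permutations.
-/

set_option autoImplicit false
set_option linter.style.haveILetI false
set_option linter.unusedSectionVars false

namespace Cfsg.Agent.Small.BoundedPres

open Cfsg.Agent.Small.AltDeg Equiv Subgroup Matrix Cfsg.Agent.Lead.SL2Pres Cfsg.Agent.Small.SL3Pres

variable {F : Type*} [Field F] [Fintype F] {n : ℕ}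

local notation "T" => Matrix.SpecialLinearGroup.transvection

/-- The first three points. -/
def p3 (n : ℕ) (hn : 4 ≤ n) : Fin 3 ↪ Fin n :=
  ⟨fun a => ⟨a.val, by omega⟩, fun a b h => Fin.ext (Fin.mk.inj_iff.mp h)⟩

/-- The basic three-cycle. -/
noncomputable def c3 (n : ℕ) (hn : 4 ≤ n) : A n := emb (p3 n hn) a3

theorem c3_apply (hn : 4 ≤ n) (a : Fin 3) :
    (c3 n hn : Perm (Fin n)) (p3 n hn a) = p3 n hn (a + 1) := by
  rw [c3, emb_apply]
  congr 1
  revert a; decide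

/-- The relations. -/
structure GenRels (F G : Type*) [Field F] [Group G] (n : ℕ) where
  hn : 4 ≤ n
  ψ : Matrix.SpecialLinearGroup (Fin 2) F →* G
  α : A n →* G
  stab : ∀ σ : A n, (σ : Perm (Fin n)) ⟨0, by omega⟩ = ⟨0, by omega⟩ →
    (σ : Perm (Fin n)) ⟨1, by omega⟩ = ⟨1, by omega⟩ → ∀ g, Commute (α σ) (ψ g)
  σ0 : A n
  σ0_zero : (σ0 : Perm (Fin n)) ⟨0, by omega⟩ = ⟨1, by omega⟩
  σ0_one : (σ0 : Perm (Fin n)) ⟨1, by omega⟩ = ⟨0, by omega⟩
  swap : ∀ g, α σ0 * ψ g * (α σ0)⁻¹ = ψ (sw g)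
  ζ : Fˣ
  gen : ∀ z : Fˣ, z ∈ Subgroup.zpowers ζ
  twc : ψ tw * α (c3 n hn) = α (c3 n hn) * (ψ tw)⁻¹ * (α (c3 n hn))⁻¹
  conj : ∀ g, (α (c3 n hn) * ψ (dg ζ) * (α (c3 n hn))⁻¹) * ψ g * (α (c3 n hn) * ψ (dg ζ) * (α (c3 n hn))⁻¹)⁻¹ =
    ψ (dconj ζ g)
  K : Set F
  ne : ∀ k ∈ K, k ≠ 0
  base : ∀ k ∈ K, ψ (un 1) * (α (c3 n hn) * ψ (un k) * (α (c3 n hn))⁻¹) * (ψ (un 1))⁻¹ =
    (α (c3 n hn) * α (c3 n hn) * ψ (ln k) * ((α (c3 n hn))⁻¹ * (α (c3 n hn))⁻¹)) *
      (α (c3 n hn) * ψ (un k) * (α (c3 n hn))⁻¹)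
  span : AddSubgroup.closure {x : F | ∃ k ∈ K, ∃ l : Fˣ, x = k * (l : F) ^ 3} = ⊤
  span' : AddSubgroup.closure {x : F | ∃ k ∈ K, ∃ l : Fˣ, x = k⁻¹ * (l : F) ^ 3} = ⊤
  σa : A n
  σa_zero : (σa : Perm (Fin n)) ⟨0, by omega⟩ = ⟨2, by omega⟩
  σa_one : (σa : Perm (Fin n)) ⟨1, by omega⟩ = ⟨3, by omega⟩
  σb : A n
  σb_zero : (σb : Perm (Fin n)) ⟨0, by omega⟩ = ⟨3, by omega⟩
  σb_one : (σb : Perm (Fin n)) ⟨1, by omega⟩ = ⟨2, by omega⟩
  quad : ∀ σ : A n, σ = σa ∨ σ = σb → Commute (ψ (un 1)) (α σ * ψ (un 1) * (α σ)⁻¹)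

namespace GenRels

variable {G : Type*} [Group G] (D : GenRels F G n)

include D in
theorem hn3 : 3 ≤ n := le_trans (by norm_num) D.hn

/-- The relations on the first triple. -/
noncomputable def rels3 : SL3Pres.Rels F G where
  ψ := D.ψ
  C := D.α (c3 n D.hn)
  ζ := D.ζ
  gen := D.gen
  cube := by
    rw [← map_pow, show c3 n D.hn ^ 3 = 1 by
      rw [c3, ← map_pow, show a3 ^ 3 = 1 from Subtype.ext (by decide), map_one], map_one]
  twc := D.twc
  conj := D.conj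
  K := D.K
  ne := D.ne
  base := D.base
  span := D.span
  span' := D.span'

theorem exists_pair {i j : Fin n} (h : i ≠ j) :
    ∃ σ : A n, (σ : Perm (Fin n)) ⟨0, by have := D.hn; omega⟩ = i ∧
      (σ : Perm (Fin n)) ⟨1, by have := D.hn; omega⟩ = j := by
  have := D.hn
  have h01 : (⟨0, by omega⟩ : Fin n) ≠ ⟨1, by omega⟩ := by simp
  obtain ⟨σ, hσ⟩ := exists_map (r := n) (k := 2) (by omega)
    ⟨![⟨0, by omega⟩, ⟨1, by omega⟩], fun a b e => by
      fin_cases a <;> fin_cases b <;> first | rfl | exact absurd e h01 | exact absurd e h01.symm⟩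
    ⟨![i, j], fun a b e => by fin_cases a <;> fin_cases b <;> first | rfl | exact absurd e h | exact absurd e h.symm⟩
  exact ⟨σ, hσ 0, hσ 1⟩

open scoped Classical in
/-- Root elements. -/
noncomputable def x (i j : Fin n) (t : F) : G :=
  if h : i ≠ j then D.α (D.exists_pair h).choose * D.ψ (un t) * (D.α (D.exists_pair h).choose)⁻¹ else 1

theorem x_eq {i j : Fin n} (σ : A n) (h0 : (σ : Perm (Fin n)) ⟨0, by have := D.hn; omega⟩ = i)
    (h1 : (σ : Perm (Fin n)) ⟨1, by have := D.hn; omega⟩ = j) (t : F) :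
    D.x i j t = D.α σ * D.ψ (un t) * (D.α σ)⁻¹ := by
  have hij : i ≠ j := by
    rw [← h0, ← h1]
    exact (σ : Perm (Fin n)).injective.ne (by simp)
  rw [x, dif_pos hij]
  obtain ⟨s0, s1⟩ := (D.exists_pair hij).choose_spec
  set τ := (D.exists_pair hij).choose
  have hc : Commute (D.α (σ⁻¹ * τ)) (D.ψ (un t)) := by
    refine D.stab _ ?_ ?_ _
    · show (σ : Perm (Fin n))⁻¹ ((τ : Perm (Fin n)) _) = _
      rw [s0, ← h0, Perm.inv_def, Equiv.symm_apply_apply]
    · show (σ : Perm (Fin n))⁻¹ ((τ : Perm (Fin n)) _) = _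
      rw [s1, ← h1, Perm.inv_def, Equiv.symm_apply_apply]
  calc D.α τ * D.ψ (un t) * (D.α τ)⁻¹
      = D.α σ * (D.α (σ⁻¹ * τ) * D.ψ (un t) * (D.α (σ⁻¹ * τ))⁻¹) * (D.α σ)⁻¹ := by
        rw [map_mul, map_inv]; group
    _ = D.α σ * D.ψ (un t) * (D.α σ)⁻¹ := by rw [hc.eq, mul_inv_cancel_right]

theorem x_conj (σ : A n) {i j : Fin n} (h : i ≠ j) (t : F) :
    D.α σ * D.x i j t * (D.α σ)⁻¹ = D.x ((σ : Perm (Fin n)) i) ((σ : Perm (Fin n)) j) t := by
  obtain ⟨τ, h0, h1⟩ := D.exists_pair h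
  rw [D.x_eq τ h0 h1, D.x_eq (σ * τ) (show (σ : Perm (Fin n)) ((τ : Perm (Fin n)) _) = _ by rw [h0])
    (show (σ : Perm (Fin n)) ((τ : Perm (Fin n)) _) = _ by rw [h1]), map_mul]
  group

theorem x3_eq (a b : Fin 3) (h : a ≠ b) (t : F) : D.rels3.x a b t = D.x (p3 n D.hn a) (p3 n D.hn b) t := by
  have sh : ∀ a b : Fin 3, a ≠ b → D.rels3.x a b t = D.x (p3 n D.hn a) (p3 n D.hn b) t →
      D.rels3.x (a + 1) (b + 1) t = D.x (p3 n D.hn (a + 1)) (p3 n D.hn (b + 1)) t := by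
    intro a b h e
    rw [← D.rels3.C_conj, e, ← c3_apply D.hn a, ← c3_apply D.hn b]
    exact D.x_conj _ ((p3 n D.hn).injective.ne h) t
  have a0 : D.rels3.x 0 1 t = D.x (p3 n D.hn 0) (p3 n D.hn 1) t := by
    rw [D.x_eq (i := p3 n D.hn 0) (j := p3 n D.hn 1) 1 rfl rfl, map_one, one_mul, inv_one, mul_one]; rfl
  have b0 : D.rels3.x 1 0 t = D.x (p3 n D.hn 1) (p3 n D.hn 0) t := by
    rw [D.x_eq (i := p3 n D.hn 1) (j := p3 n D.hn 0) D.σ0 D.σ0_zero D.σ0_one, D.swap, sw_un]; rfl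
  have a1 := sh 0 1 (by decide) a0
  have a2 := sh _ _ (by decide) a1
  have b1 := sh 1 0 (by decide) b0
  have b2 := sh _ _ (by decide) b1
  fin_cases a <;> fin_cases b <;>
    first
      | exact absurd rfl h
      | exact a0 | exact a1 | exact a2 | exact b0 | exact b1 | exact b2

/-- Every triple gives a copy of the rank two group. -/
theorem exists_triple (p : Fin 3 ↪ Fin n) :
    ∃ Φ : Matrix.SpecialLinearGroup (Fin 3) F →* G,
      ∀ (a b : Fin 3) (h : a ≠ b) (t : F), Φ (T h t) = D.x (p a) (p b) t := by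
  obtain ⟨Φ, hΦ, -, -⟩ := D.rels3.exists_hom
  rcases exists_even_map (p3 n D.hn) p (p 0) (p 1) (p.injective.ne (by decide)) with ⟨σ, hσ⟩ | ⟨σ, hσ⟩
  · refine ⟨(MulAut.conj (D.α σ)).toMonoidHom.comp Φ, fun a b h t => ?_⟩
    show D.α σ * Φ (T h t) * (D.α σ)⁻¹ = _
    rw [hΦ, D.x3_eq a b h, D.x_conj σ ((p3 n D.hn).injective.ne h), hσ, hσ]
  · obtain ⟨Ψ, hΨ⟩ := exists_block (F := F) le_rfl (Equiv.swap (0 : Fin 3) 1).toEmbedding
    refine ⟨((MulAut.conj (D.α σ)).toMonoidHom.comp Φ).comp Ψ, fun a b h t => ?_⟩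
    show D.α σ * Φ (Ψ (T h t)) * (D.α σ)⁻¹ = _
    have hne : (Equiv.swap (0 : Fin 3) 1) a ≠ (Equiv.swap (0 : Fin 3) 1) b := (Equiv.injective _).ne h
    rw [hΨ, hΦ, D.x3_eq _ _ _, D.x_conj σ ((p3 n D.hn).injective.ne _), hσ, hσ]
    · congr 1
      · exact (Function.Injective.swap_apply p.injective 0 1 _).trans
          (congrArg p (Equiv.swap_apply_self 0 1 a))
      · exact (Function.Injective.swap_apply p.injective 0 1 _).trans
          (congrArg p (Equiv.swap_apply_self 0 1 b))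
    all_goals exact hne

include D in
theorem exists_three {i j : Fin n} (h : i ≠ j) : ∃ l, i ≠ l ∧ j ≠ l := by
  have hn := D.hn
  have hc : ({i, j} : Finset (Fin n)).card < (Finset.univ : Finset (Fin n)).card := by
    rw [Finset.card_univ, Fintype.card_fin]
    exact lt_of_le_of_lt Finset.card_le_two (by omega)
  obtain ⟨l, -, hl⟩ := Finset.exists_mem_notMem_of_card_lt_card hc
  simp only [Finset.mem_insert, Finset.mem_singleton, not_or] at hl
  exact ⟨l, Ne.symm hl.1, Ne.symm hl.2⟩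

/-- An injection from three distinct points. -/
def inj3 {i j l : Fin n} (h1 : i ≠ j) (h2 : j ≠ l) (h3 : i ≠ l) : Fin 3 ↪ Fin n := three i j l h1 h2 h3

theorem x_add {i j : Fin n} (h : i ≠ j) (t u : F) : D.x i j t * D.x i j u = D.x i j (t + u) := by
  obtain ⟨l, h1, h2⟩ := D.exists_three h
  obtain ⟨Φ, hΦ⟩ := D.exists_triple (inj3 h h2 h1)
  have e := fun s => hΦ 0 1 (by decide) s
  show D.x (inj3 h h2 h1 0) (inj3 h h2 h1 1) t * D.x (inj3 h h2 h1 0) (inj3 h h2 h1 1) u =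
    D.x (inj3 h h2 h1 0) (inj3 h h2 h1 1) (t + u)
  rw [← e, ← e, ← e, ← map_mul, Matrix.SpecialLinearGroup.transvection_add]

theorem x_comm3 {i j l : Fin n} (h1 : i ≠ j) (h2 : j ≠ l) (h3 : i ≠ l) (t u : F) :
    D.x i j t * D.x j l u = D.x i l (t * u) * D.x j l u * D.x i j t := by
  obtain ⟨Φ, hΦ⟩ := D.exists_triple (inj3 h1 h2 h3)
  obtain ⟨S, hS⟩ := SchurSLn.exists_St (K := F) (n := 3) le_rfl
  have hx : ∀ (a b : Fin 3) (h : a ≠ b) (s : F), Φ (S.x a b s) = D.x (inj3 h1 h2 h3 a) (inj3 h1 h2 h3 b) s :=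
    fun a b h s => by rw [← hS (S.x a b s), S.φx a b h, hΦ]
  have e := congrArg Φ (S.comm3 0 1 2 (by decide) (by decide) (by decide) t u)
  simp only [map_mul, hx 0 1 (by decide), hx 1 2 (by decide), hx 0 2 (by decide)] at e
  exact e

theorem x_comm_triple (p : Fin 3 ↪ Fin n) {a b c d : Fin 3} (h1 : a ≠ b) (h2 : c ≠ d) (h3 : a ≠ d) (h4 : b ≠ c)
    (t u : F) : Commute (D.x (p a) (p b) t) (D.x (p c) (p d) u) := by
  obtain ⟨Φ, hΦ⟩ := D.exists_triple p
  obtain ⟨S, hS⟩ := SchurSLn.exists_St (K := F) (n := 3) le_rfl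
  have hx : ∀ (a b : Fin 3) (h : a ≠ b) (s : F), Φ (S.x a b s) = D.x (p a) (p b) s :=
    fun a b h s => by rw [← hS (S.x a b s), S.φx a b h, hΦ]
  have e := (S.comm a b c d h1 h2 h3 h4 t u).map Φ
  rwa [hx a b h1, hx c d h2] at e

/-- Torus elements. -/
noncomputable def hh (i j : Fin n) (t : F) : G :=
  D.x i j t * D.x j i (-t⁻¹) * D.x i j t * (D.x i j 1 * D.x j i (-1) * D.x i j 1)⁻¹

theorem hh_scale (p : Fin 3 ↪ Fin n) {a b c d : Fin 3} (hab : a ≠ b) (hcd : c ≠ d) {t : F} (ht : t ≠ 0) (u : F) :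
    D.hh (p a) (p b) t * D.x (p c) (p d) u * (D.hh (p a) (p b) t)⁻¹ =
      D.x (p c) (p d) ((if c = a then t else if c = b then t⁻¹ else 1) *
        (if d = a then t⁻¹ else if d = b then t else 1) * u) := by
  obtain ⟨Φ, hΦ⟩ := D.exists_triple p
  have e := congrArg Φ (th_scale (n := 3) le_rfl hab ht hcd u)
  simp only [th, map_mul, map_inv, hΦ] at e
  exact e

theorem quad_base (σ : A n) (hσ : σ = D.σa ∨ σ = D.σb) (a b : F) :
    Commute (D.x ⟨0, by have := D.hn; omega⟩ ⟨1, by have := D.hn; omega⟩ a)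
      (D.x ((σ : Perm (Fin n)) ⟨0, by have := D.hn; omega⟩) ((σ : Perm (Fin n)) ⟨1, by have := D.hn; omega⟩) b) := by
  have := D.hn
  set i0 : Fin n := ⟨0, by omega⟩ with hi0
  set i1 : Fin n := ⟨1, by omega⟩ with hi1
  set i2 : Fin n := ⟨2, by omega⟩ with hi2
  set i3 : Fin n := ⟨3, by omega⟩ with hi3
  have n01 : i0 ≠ i1 := by simp [i0, i1]
  have n02 : i0 ≠ i2 := by simp [i0, i2]
  have n12 : i1 ≠ i2 := by simp [i1, i2]
  have n03 : i0 ≠ i3 := by simp [i0, i3]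
  have n13 : i1 ≠ i3 := by simp [i1, i3]
  have n23 : i2 ≠ i3 := by simp [i2, i3]
  have hne : (σ : Perm (Fin n)) i0 ≠ (σ : Perm (Fin n)) i1 := (σ : Perm (Fin n)).injective.ne n01
  rcases eq_or_ne a 0 with rfl | ha
  · have h := D.x_add n01 0 0
    rw [add_zero, mul_eq_left] at h
    rw [h]; exact Commute.one_left _
  have h1 : Commute (D.x i0 i1 1) (D.x ((σ : Perm (Fin n)) i0) ((σ : Perm (Fin n)) i1) 1) := by
    rw [D.x_eq (i := i0) (j := i1) 1 rfl rfl,
      D.x_eq (i := (σ : Perm (Fin n)) i0) (j := (σ : Perm (Fin n)) i1) σ rfl rfl, map_one, one_mul, inv_one, mul_one]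
    exact D.quad σ hσ
  -- the torus orbit
  have horb : ∃ ε : ℤ, (ε = 1 ∨ ε = -1) ∧ ∀ m : Fˣ, Commute (D.x i0 i1 a)
      (D.x ((σ : Perm (Fin n)) i0) ((σ : Perm (Fin n)) i1) ((a * (m : F) ^ 2) ^ ε)) := by
    have s01a : ∀ (l : F), l ≠ 0 → ∀ u, D.hh i0 i2 l * D.x i0 i1 u * (D.hh i0 i2 l)⁻¹ = D.x i0 i1 (l * u) := by
      intro l hl u
      have e : D.hh i0 i2 l * D.x i0 i1 u * (D.hh i0 i2 l)⁻¹ = _ :=
        D.hh_scale (inj3 n01 n12 n02) (a := 0) (b := 2) (c := 0) (d := 1) (by decide) (by decide) hl u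
      rw [e]
      show D.x i0 i1 _ = _
      congr 1; simp
    have s01b : ∀ (l : F), l ≠ 0 → ∀ u, D.hh i1 i2 l * D.x i0 i1 u * (D.hh i1 i2 l)⁻¹ = D.x i0 i1 (l⁻¹ * u) := by
      intro l hl u
      have e : D.hh i1 i2 l * D.x i0 i1 u * (D.hh i1 i2 l)⁻¹ = _ :=
        D.hh_scale (inj3 n01 n12 n02) (a := 1) (b := 2) (c := 0) (d := 1) (by decide) (by decide) hl u
      rw [e]
      show D.x i0 i1 _ = _
      congr 1; simp
    rcases hσ with rfl | rfl
    · refine ⟨-1, Or.inr rfl, fun m => ?_⟩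
      have s23 : ∀ (i : Fin n) (hi : i ≠ i2) (hi' : i ≠ i3) (l : F), l ≠ 0 → ∀ u,
          D.hh i i2 l * D.x i2 i3 u * (D.hh i i2 l)⁻¹ = D.x i2 i3 (l⁻¹ * u) := by
        intro i hi hi' l hl u
        have e : D.hh i i2 l * D.x i2 i3 u * (D.hh i i2 l)⁻¹ = _ :=
          D.hh_scale (inj3 hi n23 hi') (a := 0) (b := 1) (c := 1) (d := 2) (by decide) (by decide) hl u
        rw [e]
        show D.x i2 i3 _ = _
        congr 1; simp
      rw [D.σa_zero, D.σa_one] at h1 ⊢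
      have e := h1.map (MulAut.conj (D.hh i0 i2 (a * m) * D.hh i1 i2 (m : F))).toMonoidHom
      have hc : ∀ y, (MulAut.conj (D.hh i0 i2 (a * m) * D.hh i1 i2 (m : F))).toMonoidHom y =
          D.hh i0 i2 (a * m) * (D.hh i1 i2 (m : F) * y * (D.hh i1 i2 (m : F))⁻¹) * (D.hh i0 i2 (a * m))⁻¹ :=
        fun y => by simp [mul_assoc]
      rw [hc, hc, s01b _ m.ne_zero, s01a _ (mul_ne_zero ha m.ne_zero), s23 i1 n12 n13 _ m.ne_zero,
        s23 i0 n02 n03 _ (mul_ne_zero ha m.ne_zero)] at e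
      convert e using 2
      · have := m.ne_zero; field_simp
      · have := m.ne_zero
        rw [_root_.zpow_neg, _root_.zpow_one]; field_simp
    · refine ⟨1, Or.inl rfl, fun m => ?_⟩
      have s32 : ∀ (i : Fin n) (hi : i ≠ i2) (hi' : i ≠ i3) (l : F), l ≠ 0 → ∀ u,
          D.hh i i2 l * D.x i3 i2 u * (D.hh i i2 l)⁻¹ = D.x i3 i2 (l * u) := by
        intro i hi hi' l hl u
        have e : D.hh i i2 l * D.x i3 i2 u * (D.hh i i2 l)⁻¹ = _ :=
          D.hh_scale (inj3 hi n23 hi') (a := 0) (b := 1) (c := 2) (d := 1) (by decide) (by decide) hl u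
        rw [e]
        show D.x i3 i2 _ = _
        congr 1; simp
      rw [D.σb_zero, D.σb_one] at h1 ⊢
      have e := h1.map (MulAut.conj (D.hh i0 i2 (a * m) * D.hh i1 i2 (m : F))).toMonoidHom
      have hc : ∀ y, (MulAut.conj (D.hh i0 i2 (a * m) * D.hh i1 i2 (m : F))).toMonoidHom y =
          D.hh i0 i2 (a * m) * (D.hh i1 i2 (m : F) * y * (D.hh i1 i2 (m : F))⁻¹) * (D.hh i0 i2 (a * m))⁻¹ :=
        fun y => by simp [mul_assoc]
      rw [hc, hc, s01b _ m.ne_zero, s01a _ (mul_ne_zero ha m.ne_zero), s32 i1 n12 n13 _ m.ne_zero,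
        s32 i0 n02 n03 _ (mul_ne_zero ha m.ne_zero)] at e
      convert e using 2
      · have := m.ne_zero; field_simp
      · rw [_root_.zpow_one]; ring
  obtain ⟨ε, hε, horb⟩ := horb
  refine SL3Pres.Rels.commute_add (f := fun s => D.x i0 i1 s)
    (g := fun s => D.x ((σ : Perm (Fin n)) i0) ((σ : Perm (Fin n)) i1) s) (fun s s' => (D.x_add hne s s').symm)
    (SL3Pres.Rels.span_scale (S := {y : F | ∃ l : Fˣ, y = (l : F) ^ 2}) squares_span
      (c := (a ^ ε)⁻¹) (inv_ne_zero (zpow_ne_zero _ ha))) ?_ b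
  rintro s ⟨l, hl⟩
  have hs : s = (a * ((l ^ ε : Fˣ) : F) ^ 2) ^ ε := by
    have : s = a ^ ε * (l : F) ^ 2 := by
      rw [← hl, ← mul_assoc, mul_inv_cancel₀ (zpow_ne_zero _ ha), one_mul]
    rw [this, _root_.mul_zpow]
    congr 1
    rcases hε with rfl | rfl <;> simp
  rw [hs]
  exact horb (l ^ ε)

theorem x_comm {i j k l : Fin n} (hij : i ≠ j) (hkl : k ≠ l) (hil : i ≠ l) (hjk : j ≠ k) (t u : F) :
    Commute (D.x i j t) (D.x k l u) := by
  by_cases hik : i = k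
  · subst hik
    by_cases hjl : j = l
    · subst hjl
      rw [commute_iff_eq, D.x_add hij, D.x_add hij, add_comm]
    · exact D.x_comm_triple (inj3 hij hjl hil) (a := 0) (b := 1) (c := 0) (d := 2) (by decide) (by decide)
        (by decide) (by decide) t u
  by_cases hjl : j = l
  · subst hjl
    exact D.x_comm_triple (inj3 hij hjk hik) (a := 0) (b := 1) (c := 2) (d := 1) (by decide) (by decide)
      (by decide) (by decide) t u
  -- four distinct points
  have := D.hn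
  let P : Fin 4 ↪ Fin n := ⟨fun a => ⟨a.val, by omega⟩, fun a b h => Fin.ext (Fin.mk.inj_iff.mp h)⟩
  let Q : Fin 4 ↪ Fin n := ⟨![i, j, k, l], fun a b e => by
    fin_cases a <;> fin_cases b <;>
      first
        | rfl
        | exact absurd e hij | exact absurd e hij.symm | exact absurd e hik | exact absurd e (Ne.symm hik)
        | exact absurd e hil | exact absurd e hil.symm | exact absurd e hjk | exact absurd e hjk.symm
        | exact absurd e hjl | exact absurd e (Ne.symm hjl) | exact absurd e hkl | exact absurd e hkl.symm⟩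
  rcases exists_even_map P Q k l hkl with ⟨τ, hτ⟩ | ⟨τ, hτ⟩
  · have h := (D.quad_base D.σa (Or.inl rfl) t u).map (MulAut.conj (D.α τ)).toMonoidHom
    rw [D.σa_zero, D.σa_one] at h
    simp only [MulEquiv.coe_toMonoidHom, MulAut.conj_apply] at h
    rw [D.x_conj τ (by simp), D.x_conj τ (by simp), show (τ : Perm (Fin n)) ⟨0, by omega⟩ = i from hτ 0,
      show (τ : Perm (Fin n)) ⟨1, by omega⟩ = j from hτ 1, show (τ : Perm (Fin n)) ⟨2, by omega⟩ = k from hτ 2,
      show (τ : Perm (Fin n)) ⟨3, by omega⟩ = l from hτ 3] at h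
    exact h
  · have h := (D.quad_base D.σb (Or.inr rfl) t u).map (MulAut.conj (D.α τ)).toMonoidHom
    rw [D.σb_zero, D.σb_one] at h
    simp only [MulEquiv.coe_toMonoidHom, MulAut.conj_apply] at h
    rw [D.x_conj τ (by simp), D.x_conj τ (by simp),
      show (τ : Perm (Fin n)) ⟨0, by omega⟩ = i from (hτ 0).trans (Equiv.swap_apply_of_ne_of_ne hik hil),
      show (τ : Perm (Fin n)) ⟨1, by omega⟩ = j from (hτ 1).trans (Equiv.swap_apply_of_ne_of_ne hjk hjl),
      show (τ : Perm (Fin n)) ⟨3, by omega⟩ = k from (hτ 3).trans (Equiv.swap_apply_right k l),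
      show (τ : Perm (Fin n)) ⟨2, by omega⟩ = l from (hτ 2).trans (Equiv.swap_apply_left k l)] at h
    exact h

/-- The Steinberg datum over an evaluation. -/
noncomputable def st (π : G →* Matrix.SpecialLinearGroup (Fin n) F) (hπψ : ∀ a, π (D.ψ (un a)) =
    T (show (⟨0, by have := D.hn; omega⟩ : Fin n) ≠ ⟨1, by have := D.hn; omega⟩ by simp) a)
    (hπα : ∀ σ, π (D.α σ) = pm σ) : SteinbergSLn.St n F G where
  x := D.x
  φ := π
  φx i j h t := by
    obtain ⟨σ, h0, h1⟩ := D.exists_pair h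
    rw [D.x_eq σ h0 h1, map_mul, map_mul, map_inv, hπα, hπψ, pm_conj]
    subst h0 h1
    rfl
  xadd _ _ h t u := D.x_add h t u
  comm _ _ _ _ h1 h2 h3 h4 t u := D.x_comm h1 h2 h3 h4 t u
  comm3 _ _ _ h1 h2 h3 t u := D.x_comm3 h1 h2 h3 t u
  three := D.hn3

/-- All root elements. -/
def rootSet : Set G := {g | ∃ (i j : Fin n) (_ : i ≠ j) (t : F), g = D.x i j t}

theorem gen_le :
    (∀ g, D.ψ g ∈ closure D.rootSet) ∧ ∀ σ, D.α σ ∈ closure D.rootSet := by
  set R := closure D.rootSet with hR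
  have hx : ∀ i j (_ : i ≠ j) (t : F), D.x i j t ∈ R := fun i j h t => subset_closure ⟨i, j, h, t, rfl⟩
  have hu : ∀ a, D.ψ (un a) ∈ R := fun a => by
    have e : D.x (p3 n D.hn 0) (p3 n D.hn 1) a = D.ψ (un a) := (D.x3_eq 0 1 (by decide) a).symm
    rw [← e]; exact hx _ _ ((p3 n D.hn).injective.ne (by decide)) a
  have hl : ∀ a, D.ψ (ln a) ∈ R := fun a => by
    have e : D.x (p3 n D.hn 1) (p3 n D.hn 0) a = D.ψ (ln a) := (D.x3_eq 1 0 (by decide) a).symm
    rw [← e]; exact hx _ _ ((p3 n D.hn).injective.ne (by decide)) a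
  have ht : D.ψ tw ∈ R := by
    rw [tw_eq, map_mul, map_mul]; exact mul_mem (mul_mem (hu _) (hl _)) (hu _)
  have hd : ∀ l, D.ψ (dg l) ∈ R := fun l => by
    rw [dg_eq, map_mul, map_mul, map_mul, map_inv]
    exact mul_mem (mul_mem (mul_mem (hu _) (hl _)) (hu _)) (inv_mem ht)
  refine ⟨fun g => ?_, ?_⟩
  · rcases exists_bruhat g with ⟨b, l, rfl⟩ | ⟨b, l, c, rfl⟩
    · rw [map_mul]; exact mul_mem (hu b) (hd l)
    · rw [map_mul, map_mul, map_mul]; exact mul_mem (mul_mem (mul_mem (hu b) (hd l)) ht) (hu c)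
  · obtain ⟨Φ, hΦ, -, hC⟩ := D.rels3.exists_hom
    have hall : ∀ y : Matrix.SpecialLinearGroup (Fin 3) F, Φ y ∈ R := by
      intro y
      have hm : y ∈ (⊤ : Subgroup _) := mem_top _
      rw [← Classical.sl_closure_transvections] at hm
      induction hm using Subgroup.closure_induction with
      | mem z hz =>
        obtain ⟨a, b, h, t, rfl⟩ := hz
        rw [hΦ a b h t, D.x3_eq a b h]
        exact hx _ _ ((p3 n D.hn).injective.ne h) t
      | one => rw [map_one]; exact one_mem _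
      | mul a b _ _ ha hb => rw [map_mul]; exact mul_mem ha hb
      | inv a _ ha => rw [map_inv]; exact inv_mem ha
    have hc : D.α (c3 n D.hn) ∈ R := by
      show D.rels3.C ∈ R
      rw [← hC]
      exact hall _
    have hinv : ∀ σ y, y ∈ R → D.α σ * y * (D.α σ)⁻¹ ∈ R := by
      intro σ y hy
      induction hy using Subgroup.closure_induction with
      | mem z hz =>
        obtain ⟨i, j, h, t, rfl⟩ := hz
        rw [D.x_conj σ h]
        exact hx _ _ ((σ : Perm (Fin n)).injective.ne h) t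
      | one => simp
      | mul a b _ _ ha hb =>
        rw [show D.α σ * (a * b) * (D.α σ)⁻¹ = D.α σ * a * (D.α σ)⁻¹ * (D.α σ * b * (D.α σ)⁻¹) by group]
        exact mul_mem ha hb
      | inv a _ ha =>
        rw [show D.α σ * a⁻¹ * (D.α σ)⁻¹ = (D.α σ * a * (D.α σ)⁻¹)⁻¹ by group]
        exact inv_mem ha
    have htop : R.comap D.α = ⊤ := by
      refine eq_top_of_cyc _ fun a b c hab hbc hac => ?_
      rcases exists_even_map (p3 n D.hn) (three a b c hab hbc hac) a b hab with ⟨σ, hσ⟩ | ⟨σ, hσ⟩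
      · have e : σ * c3 n D.hn * σ⁻¹ = cyc a b c hab hbc hac := conj_emb σ _ _ hσ a3
        rw [mem_comap, ← e, map_mul, map_mul, map_inv]
        exact hinv σ _ hc
      · have e : σ * c3 n D.hn * σ⁻¹ = cyc b a c hab.symm hac hbc := by
          refine conj_emb σ _ (three b a c hab.symm hac hbc) (fun i => ?_) a3
          rw [hσ]
          fin_cases i
          · exact Equiv.swap_apply_left a b
          · exact Equiv.swap_apply_right a b
          · exact Equiv.swap_apply_of_ne_of_ne hac.symm hbc.symm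
        have h2 : (cyc b a c hab.symm hac hbc)⁻¹ ∈ R.comap D.α := by
          refine inv_mem ?_
          rw [mem_comap, ← e, map_mul, map_mul, map_inv]
          exact hinv σ _ hc
        rwa [cyc_inv] at h2
    intro σ
    exact (htop ▸ mem_top σ : σ ∈ R.comap D.α)

end GenRels

end Cfsg.Agent.Small.BoundedPres
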