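import Mathlib
import Cfsg.Agent.Lib.Small.BoundedPres.SLnBase

/-!
The rank one group is generated by an element and its image under the exchange of coordinates.
-/

set_option autoImplicit false
set_option linter.style.haveILetI false

namespace Cfsg.Agent.Small.BoundedPres

open Subgroup Matrix Cfsg.Agent.Lead.SL2Pres Cfsg.Agent.Small.SL3Pres

variable {F : Type*} [Field F]

theorem un_zero : un (0 : F) = 1 := by
  apply Matrix.SpecialLinearGroup.ext; intro i j
  fin_cases i <;> fin_cases j <;> simp [un]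

theorem un_neg (a : F) : un (-a) = (un a)⁻¹ := by
  rw [eq_inv_iff_mul_eq_one, ← un_add, neg_add_cancel, un_zero]

theorem sw_dg (l : Fˣ) : sw (dg l) = dg l⁻¹ := by
  apply Matrix.SpecialLinearGroup.ext; intro i j
  show (swFun (dg l)).1 i j = _
  rw [swFun_coe]
  fin_cases i <;> fin_cases j <;> simp [dg]

/-- A torus conjugated into the coordinates of a second torus. -/
def gM (c : F) (x : Fˣ) : Matrix.SpecialLinearGroup (Fin 2) F := un (-c) * ln c * dg x * ln (-c) * un c

theorem gM_coe (c : F) (x : Fˣ) : (gM c x).1 =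
    !![(x : F) - c ^ 2 * ((x : F) - (x : F)⁻¹), c * ((x : F) - (x : F)⁻¹) * (1 - c ^ 2);
      c * ((x : F) - (x : F)⁻¹), c ^ 2 * ((x : F) - (x : F)⁻¹) + (x : F)⁻¹] := by
  ext i j
  simp only [gM, Matrix.SpecialLinearGroup.coe_mul]
  fin_cases i <;> fin_cases j <;>
    simp [un, ln, dg, Matrix.mul_apply, Fin.sum_univ_two] <;> ring

variable [Fintype F]

theorem gen_of_triangular (c : F) (l k m : Fˣ) (h10 : (gM c l).1 1 0 ≠ 0)
    (hX : (gM c l * dg m * gM c k).1 1 0 = 0) (hX' : (gM c l * dg m * gM c k).1 0 1 ≠ 0) :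
    ∃ u : Matrix.SpecialLinearGroup (Fin 2) F,
      ((Fintype.card F).Prime ∧ u = un 1 ∨ u ^ (Fintype.card F - 1) = 1) ∧ (∃ x, sw u = x * u⁻¹ * x⁻¹) ∧
      closure ({u, sw u} : Set (Matrix.SpecialLinearGroup (Fin 2) F)) = ⊤ := by
  obtain ⟨ζ, hζ⟩ := IsCyclic.exists_generator (α := Fˣ)
  set u := un c * dg ζ * (un c)⁻¹ with hu
  refine ⟨u, Or.inr ?_, ⟨ln c * (un c)⁻¹, ?_⟩, ?_⟩
  · rw [hu, conj_pow, ← dg_pow, (show ζ ^ (Fintype.card F - 1) = 1 by rw [← Nat.card_eq_fintype_card, ← Nat.card_units]; exact pow_card_eq_one')]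
    rw [mul_inv_eq_one, mul_eq_left]
    apply Matrix.SpecialLinearGroup.ext; intro i j
    fin_cases i <;> fin_cases j <;> simp [dg]
  · rw [hu, map_mul, map_mul, map_inv, sw_un, sw_dg]
    have e : dg ζ⁻¹ = (dg ζ)⁻¹ := by
      rw [eq_inv_iff_mul_eq_one]
      apply Matrix.SpecialLinearGroup.ext; intro i j
      simp only [Matrix.SpecialLinearGroup.coe_mul]
      fin_cases i <;> fin_cases j <;> simp [dg, Matrix.mul_apply, Fin.sum_univ_two]
    rw [e]; group
  set H := closure ({u, sw u} : Set (Matrix.SpecialLinearGroup (Fin 2) F))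
  set e := (MulAut.conj (un c)).toMonoidHom with he
  set H' := H.comap e with hH'
  have hmem : ∀ y, y ∈ H' ↔ un c * y * (un c)⁻¹ ∈ H := fun y => Iff.rfl
  have pw : ∀ (n : ℕ), un c * dg (ζ ^ n) * (un c)⁻¹ = u ^ n := fun n => by
    rw [dg_pow, hu, conj_pow]
  have hum : u ∈ H := Subgroup.subset_closure (Or.inl rfl)
  have hsum : sw u ∈ H := Subgroup.subset_closure (Or.inr rfl)
  have hd : ∀ x : Fˣ, dg x ∈ H' := fun x => by
    obtain ⟨n, rfl⟩ := zpow_surjective hζ x
    rw [hmem, pw]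
    exact pow_mem hum n
  have hM : ∀ x : Fˣ, gM c x ∈ H' := fun x => by
    obtain ⟨n, hn⟩ := zpow_surjective hζ x⁻¹
    have e1 : un c * gM c x * (un c)⁻¹ = sw (un c * dg x⁻¹ * (un c)⁻¹) := by
      rw [← un_neg, map_mul, map_mul, sw_un, sw_un, sw_dg, inv_inv, gM, un_neg]
      group
    rw [hmem, e1, hn, pw, map_pow]
    exact pow_mem hsum n
  set X := gM c l * dg m * gM c k
  have hXmem : X ∈ H' := mul_mem (mul_mem (hM l) (hd m)) (hM k)
  have hdet : X.1 0 0 * X.1 1 1 = 1 := by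
    have := X.2
    rwa [Matrix.det_fin_two, hX, mul_zero, sub_zero] at this
  have h00 : X.1 0 0 ≠ 0 := left_ne_zero_of_mul_eq_one hdet
  set d := X.1 0 1 * X.1 0 0 with hddef
  have hd0 : d ≠ 0 := mul_ne_zero hX' h00
  have hXu : X * dg (Units.mk0 _ h00)⁻¹ = un d := by
    have h11 : X.1 1 1 = (X.1 0 0)⁻¹ := eq_inv_of_mul_eq_one_right hdet
    apply Matrix.SpecialLinearGroup.ext; intro i j
    simp only [Matrix.SpecialLinearGroup.coe_mul]
    fin_cases i <;> fin_cases j <;> simp [dg, un, hddef, Matrix.mul_apply, Fin.sum_univ_two, hX, h11, h00]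
  have hud : un d ∈ H' := hXu ▸ mul_mem hXmem (hd _)
  have hu' : ∀ x : F, un x ∈ H' := by
    intro x
    have key : ∀ y ∈ AddSubgroup.closure {y : F | ∃ l : Fˣ, y = (l : F) ^ 2}, un (y * d) ∈ H' := by
      intro y hy
      induction hy using AddSubgroup.closure_induction with
      | mem z hz =>
        obtain ⟨z, rfl⟩ := hz
        have : un ((z : F) ^ 2 * d) = dg z * un d * (dg z)⁻¹ := by rw [dg_un, mul_inv_cancel_right]
        rw [this]
        exact mul_mem (mul_mem (hd z) hud) (inv_mem (hd z))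
      | zero => rw [zero_mul, un_zero]; exact one_mem _
      | add a b _ _ ha hb => rw [add_mul, un_add]; exact mul_mem ha hb
      | neg a _ ha => rw [neg_mul, un_neg]; exact inv_mem ha
    have := key (x / d) (by rw [squares_span (F := F)]; exact AddSubgroup.mem_top _)
    rwa [div_mul_cancel₀ _ hd0] at this
  have ht : tw ∈ H' := by
    rcases exists_bruhat (gM c l) with ⟨x, y, hxy⟩ | ⟨x, y, z, hxyz⟩
    · refine absurd ?_ h10
      rw [hxy]
      simp only [Matrix.SpecialLinearGroup.coe_mul]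
      simp [un, dg, Matrix.mul_apply, Fin.sum_univ_two]
    · have : tw = (un x * dg y)⁻¹ * gM c l * (un z)⁻¹ := by rw [hxyz]; group
      rw [this]
      exact mul_mem (mul_mem (inv_mem (mul_mem (hu' x) (hd y))) (hM l)) (inv_mem (hu' z))
  have htop : H' = ⊤ :=
    surjective_of_gens (MonoidHom.id _) (fun x => ⟨x, rfl⟩) ζ hζ H' hu' (hd ζ) ht
  rw [eq_top_iff]
  intro g _
  have : (un c)⁻¹ * g * un c ∈ H' := htop ▸ mem_top _
  rw [hmem] at this
  simpa [mul_assoc] using this

/-- A second torus with a monomial element. -/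
theorem gen_of_root (c : F) (l m : Fˣ) (hc : c ^ 2 * ((l : F) ^ 2 - 1) + 1 = 0) (hl1 : (l : F) ^ 2 ≠ 1)
    (hl2 : (l : F) ^ 2 ≠ -1) (hm : (m : F) ^ 2 ≠ 1) :
    ∃ u : Matrix.SpecialLinearGroup (Fin 2) F,
      ((Fintype.card F).Prime ∧ u = un 1 ∨ u ^ (Fintype.card F - 1) = 1) ∧ (∃ x, sw u = x * u⁻¹ * x⁻¹) ∧
      closure ({u, sw u} : Set (Matrix.SpecialLinearGroup (Fin 2) F)) = ⊤ := by
  have hl0 := l.ne_zero
  have hm0 := m.ne_zero
  have hc0 : c ≠ 0 := fun h => by rw [h] at hc; simp at hc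
  have hL : (l : F) - (l : F)⁻¹ ≠ 0 := fun h => hl1 (by field_simp at h; linear_combination h)
  have hD : c ^ 2 * ((l : F) - (l : F)⁻¹) + (l : F)⁻¹ = 0 := by field_simp; linear_combination hc
  refine gen_of_triangular c l l⁻¹ m ?_ ?_ ?_
  · rw [gM_coe]; simpa using mul_ne_zero hc0 hL
  · simp only [Matrix.SpecialLinearGroup.coe_mul, gM_coe]
    simp [Matrix.mul_apply, Fin.sum_univ_two, dg]
    rw [hD, show (l : F)⁻¹ - c ^ 2 * ((l : F)⁻¹ - l) = c ^ 2 * ((l : F) - (l : F)⁻¹) + (l : F)⁻¹ by ring, hD]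
    simp
  · have e : (gM c l * dg m * gM c l⁻¹).1 0 1 =
        ((l : F) + (l : F)⁻¹) * (c * ((l : F) - (l : F)⁻¹) * (1 - c ^ 2)) * ((m : F)⁻¹ - m) := by
      simp only [Matrix.SpecialLinearGroup.coe_mul, gM_coe]
      simp [Matrix.mul_apply, Fin.sum_univ_two, dg]
      linear_combination (c * ((l : F) - (l : F)⁻¹) * (1 - c ^ 2) * ((m : F) - (m : F)⁻¹)) * hD
    rw [e]
    refine mul_ne_zero (mul_ne_zero ?_ (mul_ne_zero (mul_ne_zero hc0 hL) ?_)) ?_
    · exact fun h => hl2 (by field_simp at h; linear_combination h)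
    · intro h
      have : (l : F) ^ 2 = 0 := by linear_combination hc + ((l : F) ^ 2 - 1) * h
      exact hl0 (by simpa using this)
    · exact fun h => hm (by field_simp at h; linear_combination -h)

/-- The rank one group is generated by an element and its image under the exchange of coordinates. -/
theorem exists_sw_gen_ord : ∃ u : Matrix.SpecialLinearGroup (Fin 2) F,
      ((Fintype.card F).Prime ∧ u = un 1 ∨ u ^ (Fintype.card F - 1) = 1) ∧ (∃ x, sw u = x * u⁻¹ * x⁻¹) ∧
    closure ({u, sw u} : Set (Matrix.SpecialLinearGroup (Fin 2) F)) = ⊤ := by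
  classical
  obtain ⟨p, hp⟩ := CharP.exists F
  obtain ⟨n, hpp, hcard⟩ := FiniteField.card F p
  haveI : Fact p.Prime := ⟨hpp⟩
  haveI := hp
  obtain ⟨ζ, hζ⟩ := IsCyclic.exists_generator (α := Fˣ)
  have hord : orderOf ζ = Fintype.card F - 1 := by
    rw [orderOf_eq_card_of_forall_mem_zpowers hζ, Nat.card_units, Nat.card_eq_fintype_card]
  have hne : ∀ j, 0 < j → j < Fintype.card F - 1 → (ζ : F) ^ j ≠ 1 := fun j h1 h2 h => by
    have : ζ ^ j = 1 := Units.ext (by simpa using h)
    have := Nat.le_of_dvd h1 (orderOf_dvd_of_pow_eq_one this)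
    omega
  by_cases h1 : (n : ℕ) = 1
  · refine ⟨un 1, Or.inl ⟨by rw [hcard, h1, pow_one]; exact hpp, rfl⟩, ⟨tw, ?_⟩, ?_⟩
    · rw [← un_neg, sw_un, eq_mul_inv_iff_mul_eq]
      apply Matrix.SpecialLinearGroup.ext; intro i j
      simp only [Matrix.SpecialLinearGroup.coe_mul]
      fin_cases i <;> fin_cases j <;> simp [ln, un, tw, Matrix.mul_apply, Fin.sum_univ_two]
    rw [sw_un]
    set H := closure ({un 1, ln 1} : Set (Matrix.SpecialLinearGroup (Fin 2) F))
    have hbij : Function.Bijective (ZMod.castHom (dvd_refl p) F) := by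
      refine (Fintype.bijective_iff_injective_and_card _).2 ⟨(ZMod.castHom (dvd_refl p) F).injective, ?_⟩
      rw [ZMod.card, hcard, h1, pow_one]
    have hnat : ∀ x : F, ∃ j : ℕ, x = (j : F) := fun x => by
      obtain ⟨y, rfl⟩ := hbij.2 x
      exact ⟨y.val, by rw [← map_natCast (ZMod.castHom (dvd_refl p) F), ZMod.natCast_zmod_val]⟩
    have hU : ∀ x : F, un x ∈ H := fun x => by
      obtain ⟨j, rfl⟩ := hnat x
      induction j with
      | zero => rw [Nat.cast_zero, un_zero]; exact one_mem _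
      | succ j ih => rw [Nat.cast_succ, un_add]; exact mul_mem ih (Subgroup.subset_closure (Or.inl rfl))
    have hL : ∀ x : F, ln x ∈ H := fun x => by
      obtain ⟨j, rfl⟩ := hnat x
      induction j with
      | zero => rw [← sw_un, Nat.cast_zero, un_zero, map_one]; exact one_mem _
      | succ j ih =>
        rw [← sw_un, Nat.cast_succ, un_add, map_mul, sw_un, sw_un]
        exact mul_mem ih (Subgroup.subset_closure (Or.inr rfl))
    have ht : tw ∈ H := by rw [tw_eq]; exact mul_mem (mul_mem (hU _) (hL _)) (hU _)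
    refine surjective_of_gens (MonoidHom.id _) (fun x => ⟨x, rfl⟩) ζ hζ H hU ?_ ht
    show dg ζ ∈ H
    rw [dg_eq]
    exact mul_mem (mul_mem (mul_mem (hU _) (hL _)) (hU _)) (inv_mem ht)
  have hn2 : 2 ≤ (n : ℕ) := by have := n.pos; omega
  have hq : p ^ 2 ≤ Fintype.card F := hcard ▸ Nat.pow_le_pow_right hpp.pos hn2
  by_cases h2 : p = 2
  · subst h2
    have h2F : (2 : F) = 0 := CharTwo.two_eq_zero
    have hq4 : 4 ≤ Fintype.card F := hq
    have hζ1 : (ζ : F) ≠ 1 := by simpa using hne 1 one_pos (by omega)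
    have hζ2 : (ζ : F) ^ 2 ≠ 1 := hne 2 two_pos (by omega)
    have hs : 1 + (ζ : F) ≠ 0 := fun h => hζ1 (by linear_combination h - h2F)
    refine gen_of_root (1 + (ζ : F))⁻¹ ζ ζ ?_ hζ2 (fun h => hζ2 (by linear_combination h - h2F)) hζ2
    field_simp
    linear_combination ((ζ : F) ^ 2 + (ζ : F)) * h2F
  have h2F : (2 : F) ≠ 0 := Ring.two_ne_zero (by rw [← ringChar.eq F p] at h2; exact h2)
  have hp3 : 3 ≤ p := by have := hpp.two_le; omega
  by_cases h9 : Fintype.card F = 9
  · have h3 : p = 3 := by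
      by_contra h
      have : 4 ^ 2 ≤ p ^ 2 := Nat.pow_le_pow_left (by omega) 2
      omega
    subst h3
    have h3F : (3 : F) = 0 := by exact_mod_cast CharP.cast_eq_zero F 3
    obtain ⟨i, hi⟩ : ∃ i : F, i ^ 2 = -1 := by
      refine ⟨(ζ : F) ^ 2, ?_⟩
      have h8 : ((ζ : F) ^ 4) ^ 2 = 1 := by
        rw [← pow_mul, ← Units.val_pow_eq_pow_val, show (4 * 2 : ℕ) = Fintype.card F - 1 by omega, ← hord,
          pow_orderOf_eq_one, Units.val_one]
      rw [← pow_mul]
      exact (sq_eq_one_iff.1 h8).resolve_left (hne 4 (by norm_num) (by omega))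
    have ha : (1 - i) * (1 + i) = 2 := by linear_combination -hi
    have ha0 : (1 - i) * (1 + i) ≠ 0 := ha ▸ h2F
    have hi0 : i ≠ 0 := fun h => by rw [h] at hi; simp at hi
    let ui : Fˣ := ⟨i, -i, by linear_combination -hi, by linear_combination -hi⟩
    let uk : Fˣ := ⟨1 + i, i - 1, by linear_combination hi - h3F, by linear_combination hi - h3F⟩
    let um : Fˣ := ⟨1 - i, -1 - i, by linear_combination hi - h3F, by linear_combination hi - h3F⟩
    have e1 : i⁻¹ = -i := inv_eq_of_mul_eq_one_right (by linear_combination -hi)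
    have e2 : (1 + i)⁻¹ = i - 1 := inv_eq_of_mul_eq_one_right (by linear_combination hi - h3F)
    have e3 : (1 - i)⁻¹ = -1 - i := inv_eq_of_mul_eq_one_right (by linear_combination hi - h3F)
    have hu1 : (ui : F) = i := rfl
    have hu2 : (uk : F) = 1 + i := rfl
    have hu3 : (um : F) = 1 - i := rfl
    have i3 : i ^ 3 = -i := by linear_combination i * hi
    refine gen_of_triangular (1 - i) ui uk um ?_ ?_ ?_
    · rw [gM_coe]
      simp [e1, hu1]
      exact ⟨fun h => ha0 (by rw [h, zero_mul]), fun h => h2F (by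
        have : i * 2 = 0 := by linear_combination h
        exact (mul_eq_zero.1 this).resolve_left hi0)⟩
    · simp only [Matrix.SpecialLinearGroup.coe_mul, gM_coe]
      simp [Matrix.mul_apply, Fin.sum_univ_two, dg, e1, e2, e3, hu1, hu2, hu3]
      grobner
    · intro h
      apply hi0
      simp only [Matrix.SpecialLinearGroup.coe_mul, gM_coe] at h
      simp [Matrix.mul_apply, Fin.sum_univ_two, dg, e1, e2, e3, hu1, hu2, hu3] at h
      grobner
  have hq10 : 9 < Fintype.card F := by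
    have : 3 ^ 2 ≤ p ^ 2 := Nat.pow_le_pow_left hp3 2
    omega
  obtain ⟨t, ht⟩ : ∃ t : F, t * (t ^ 4 - 1) * (t ^ 4 + 6 * t ^ 2 + 1) ≠ 0 := by
    let P : Polynomial F := Polynomial.X * (Polynomial.X ^ 4 - 1) * (Polynomial.X ^ 4 + 6 * Polynomial.X ^ 2 + 1)
    have hdeg : P.natDegree ≤ 9 := by simp only [P]; compute_degree
    have hP : P ≠ 0 := by
      intro h
      have : P.coeff 9 = 1 := by simp only [P]; compute_degree!
      rw [h] at this; simp at this
    obtain ⟨t, ht⟩ := Polynomial.exists_eval_ne_zero_of_natDegree_lt_card P hP (by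
      rw [Cardinal.mk_fintype]; exact_mod_cast lt_of_le_of_lt hdeg hq10)
    exact ⟨t, by simpa [P] using ht⟩
  simp only [mul_ne_zero_iff] at ht
  obtain ⟨⟨ht0, ht4⟩, ht6⟩ := ht
  have hp1 : 1 + t ^ 2 ≠ 0 := fun h => ht4 (by linear_combination (t ^ 2 - 1) * h)
  have hm1 : 1 - t ^ 2 ≠ 0 := fun h => ht4 (by linear_combination -(t ^ 2 + 1) * h)
  have hl0 : 2 * t / (1 + t ^ 2) ≠ 0 := div_ne_zero (mul_ne_zero h2F ht0) hp1
  refine gen_of_root ((1 + t ^ 2) / (1 - t ^ 2)) (Units.mk0 _ hl0) (Units.mk0 t ht0) ?_ ?_ ?_ ?_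
  · simp only [Units.val_mk0]; field_simp; ring
  · simp only [Units.val_mk0]
    intro h
    field_simp at h
    exact hm1 (pow_eq_zero_iff two_ne_zero |>.1 (by linear_combination -h))
  · simp only [Units.val_mk0]
    intro h
    field_simp at h
    exact ht6 (by linear_combination h)
  · simp only [Units.val_mk0]
    exact fun h => hm1 (by linear_combination -h)

/-- The rank one group is generated by an element and its image under the exchange of coordinates. -/
theorem exists_sw_gen : ∃ u : Matrix.SpecialLinearGroup (Fin 2) F,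
    closure ({u, sw u} : Set (Matrix.SpecialLinearGroup (Fin 2) F)) = ⊤ := by
  obtain ⟨u, -, -, h⟩ := exists_sw_gen_ord (F := F)
  exact ⟨u, h⟩

end Cfsg.Agent.Small.BoundedPres
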