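import Mathlib
import Cfsg.Agent.Lib.Small.BoundedPres.SLnCore
import Cfsg.Agent.Lib.Small.BoundedPres.SLnGen
import Cfsg.Agent.Lib.Small.BoundedPres.PresNTools

/-!
Presentations of the special linear groups with seven relations besides those of the two building blocks.
-/

set_option autoImplicit false
set_option linter.style.haveILetI false

namespace Cfsg.Agent.Small.BoundedPres

open Cfsg.Agent.Small.AltDeg Equiv Subgroup Matrix Cfsg.Agent.Lead.SL2Pres Cfsg.Agent.Small.SL3Pres

local notation "T" => Matrix.SpecialLinearGroup.transvection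

variable {F : Type*} [Field F] [Fintype F]

theorem sw_sw (g : Matrix.SpecialLinearGroup (Fin 2) F) : sw (sw g) = g := by
  apply Matrix.SpecialLinearGroup.ext; intro i j
  show (swFun (swFun g)).1 i j = _
  rw [swFun_coe, swFun_coe]
  fin_cases i <;> fin_cases j <;> simp

/-- The second image of the first pair, a translate of the first one from six points on. -/
theorem exists_sigma_b {n : ℕ} (hn : 4 ≤ n) (σa : A n)
    (ha0 : (σa : Perm (Fin n)) ⟨0, by omega⟩ = ⟨2, by omega⟩)
    (ha1 : (σa : Perm (Fin n)) ⟨1, by omega⟩ = ⟨3, by omega⟩) :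
    ∃ σb : A n, (σb : Perm (Fin n)) ⟨0, by omega⟩ = ⟨3, by omega⟩ ∧
      (σb : Perm (Fin n)) ⟨1, by omega⟩ = ⟨2, by omega⟩ ∧
      (6 ≤ n → ∃ τ : A n, (τ : Perm (Fin n)) ⟨0, by omega⟩ = ⟨0, by omega⟩ ∧
        (τ : Perm (Fin n)) ⟨1, by omega⟩ = ⟨1, by omega⟩ ∧ σb = τ * σa) := by
  by_cases h6 : 6 ≤ n
  · let ι : Fin 4 ↪ Fin n := ⟨fun a => ⟨a.val, by omega⟩, fun a b h => Fin.ext (Fin.mk.inj_iff.mp h)⟩
    obtain ⟨τ, hτ⟩ := exists_map (r := n) (k := 4) (by omega) ι ((Equiv.swap (2 : Fin 4) 3).toEmbedding.trans ι)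
    refine ⟨τ * σa, ?_, ?_, fun _ => ⟨τ, hτ 0, hτ 1, rfl⟩⟩
    · show (τ : Perm (Fin n)) ((σa : Perm (Fin n)) _) = _
      rw [ha0]; exact hτ 2
    · show (τ : Perm (Fin n)) ((σa : Perm (Fin n)) _) = _
      rw [ha1]; exact hτ 3
  · let p : Fin 2 ↪ Fin n := ⟨fun a => ⟨a.val, by omega⟩, fun a b h => Fin.ext (Fin.mk.inj_iff.mp h)⟩
    let q : Fin 2 ↪ Fin n := ⟨![⟨3, by omega⟩, ⟨2, by omega⟩], fun a b h => by
      fin_cases a <;> fin_cases b <;> simp_all⟩
    obtain ⟨σb, hb⟩ := exists_map (r := n) (k := 2) (by omega) p q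
    exact ⟨σb, hb 0, hb 1, fun h => absurd h h6⟩

/-- Generators of the stabiliser of the first pair and representatives of the pairs of disjoint pairs: at most
three in all. -/
theorem stab_quad {n : ℕ} (hn : 4 ≤ n) (St : Finset (Fin n)) (hc : St.card = n - 2) (i0 i1 i2 i3 : Fin n)
    (mSt : ∀ x, x ∉ St ↔ (x = i0 ∨ x = i1)) (σa σb : A n)
    (hb : 6 ≤ n → ∃ τ : A n, (τ : Perm (Fin n)) i0 = i0 ∧ (τ : Perm (Fin n)) i1 = i1 ∧ σb = τ * σa) :
    ∃ St' Q : Finset (A n), St'.card + Q.card ≤ (if n = 4 then 2 else 3) ∧ (∀ σ ∈ St', Supp St σ) ∧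
      (∀ σ, Supp St σ → σ ∈ closure (St' : Set (A n))) ∧ (∀ σ ∈ Q, σ = σa ∨ σ = σb) ∧
      ∀ σ, σ = σa ∨ σ = σb → σ ∈ Q ∨ ∃ τ : A n, Supp St τ ∧ ∃ σ' ∈ Q, σ = τ * σ' := by
  classical
  rcases (show n = 4 ∨ n = 5 ∨ 6 ≤ n by omega) with h | h | h
  · refine ⟨∅, {σa, σb}, ?_, by simp, fun σ hσ => ?_, fun σ hσ => by simpa using hσ,
      fun σ hσ => Or.inl (by simpa using hσ)⟩
    · have := Finset.card_le_two (a := σa) (b := σb)
      simp only [Finset.card_empty, if_pos h]; omega
    · obtain ⟨ι, hι⟩ := exists_pts_eq (S := St) rfl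
      obtain ⟨y, rfl⟩ := mem_range_of_supp ι (g := σ) (hι.symm ▸ hσ)
      have key : ∀ k, k = 2 → ∀ y : A k, y = 1 := by rintro k rfl; decide
      have hk : St.card = 2 := by rw [hc, h]
      have : y = 1 := key _ hk y
      rw [this, map_one]; exact one_mem _
  · obtain ⟨t, ht, hgen⟩ : ∃ t : A n, Supp St t ∧ ∀ σ, Supp St σ → σ ∈ closure ({t} : Set (A n)) := by
      obtain ⟨ι, hι⟩ := exists_pts_eq (S := St) rfl
      have key : ∀ k, k = 3 → ∃ t : A k, ∀ y : A k, y ∈ closure ({t} : Set (A k)) := by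
        rintro k rfl
        refine ⟨a3, fun y => ?_⟩
        have : y = 1 ∨ y = a3 ∨ y = a3 * a3 := by revert y; decide
        rcases this with rfl | rfl | rfl
        · exact one_mem _
        · exact Subgroup.subset_closure rfl
        · exact mul_mem (Subgroup.subset_closure rfl) (Subgroup.subset_closure rfl)
      have hk : St.card = 3 := by rw [hc, h]
      obtain ⟨t, ht⟩ := key St.card hk
      refine ⟨emb ι t, (emb_supp ι t).mono hι.le, fun σ hσ => ?_⟩
      obtain ⟨y, rfl⟩ := mem_range_of_supp ι (g := σ) (hι.symm ▸ hσ)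
      have := Subgroup.mem_map_of_mem (emb ι) (ht y)
      rwa [MonoidHom.map_closure, Set.image_singleton] at this
    refine ⟨{t}, {σa, σb}, ?_, by simpa using ht, fun σ hσ => by simpa using hgen σ hσ,
      fun σ hσ => by simpa using hσ, fun σ hσ => Or.inl (by simpa using hσ)⟩
    have := Finset.card_le_two (a := σa) (b := σb)
    simp only [Finset.card_singleton, if_neg (show n ≠ 4 by omega)]; omega
  · obtain ⟨t₁, t₂, h1, h2, hgen⟩ := two_gen_supp St
    obtain ⟨τ, τ0, τ1, rfl⟩ := hb h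
    have hτ : Supp St τ := fun x hx => by
      rcases (mSt x).1 hx with rfl | rfl
      exacts [τ0, τ1]
    refine ⟨{t₁, t₂}, {σa}, ?_, ?_, fun σ hσ => ?_, fun σ hσ => Or.inl (by simpa using hσ), ?_⟩
    · have := Finset.card_le_two (a := t₁) (b := t₂)
      simp only [Finset.card_singleton, if_neg (show n ≠ 4 by omega)]; omega
    · simp [h1, h2]
    · simpa using hgen σ hσ
    · rintro σ (rfl | rfl)
      · simp
      · exact Or.inr ⟨τ, hτ, σa, by simp, rfl⟩

set_option maxHeartbeats 1000000 in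
/-- Special linear groups of degree at least four from presentations of the alternating group and the rank one
group, with six or seven further relations besides the field classes. -/
theorem presN_SL_of' (n : ℕ) (hn : 4 ≤ n) {gA rA g2 rS : ℕ} (hA : PresN gA (A n) rA)
    (hS2 : PresN g2 (Matrix.SpecialLinearGroup (Fin 2) F) rS) (K : Finset F) {kK : ℕ} (hK2 : K.card ≤ kK)
    (hK0 : ∀ k ∈ K, k ≠ 0)
    (hspan : AddSubgroup.closure {x : F | ∃ k ∈ (K : Set F), ∃ l : Fˣ, x = k * (l : F) ^ 3} = ⊤)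
    (hspan' : AddSubgroup.closure {x : F | ∃ k ∈ (K : Set F), ∃ l : Fˣ, x = k⁻¹ * (l : F) ^ 3} = ⊤) :
    PresN (gA + g2) (Matrix.SpecialLinearGroup (Fin n) F) (rA + (rS + (kK + if n = 4 then 6 else 7))) := by
  classical
  obtain ⟨relsA, qA, hcA, hqA, hrA, huA⟩ := hA.exists_hom
  obtain ⟨rels2, q2, hc2, hq2, hrl2, hu2⟩ := hS2.exists_hom
  choose sA hsA using hqA
  choose sS hsS using hq2
  obtain ⟨ζ, hζ⟩ := IsCyclic.exists_generator (α := Fˣ)
  obtain ⟨u, hu⟩ := exists_sw_gen (F := F)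
  let i0 : Fin n := ⟨0, by omega⟩
  let i1 : Fin n := ⟨1, by omega⟩
  let i2 : Fin n := ⟨2, by omega⟩
  let i3 : Fin n := ⟨3, by omega⟩
  have n01 : i0 ≠ i1 := by simp [i0, i1]
  have n23 : i2 ≠ i3 := by simp [i2, i3]
  have pair : ∀ {i j : Fin n}, i ≠ j →
      ∃ σ : A n, (σ : Perm (Fin n)) i0 = i ∧ (σ : Perm (Fin n)) i1 = j := by
    intro i j h
    obtain ⟨σ, hσ⟩ := exists_map (r := n) (k := 2) (by omega)
      ⟨![i0, i1], fun a b e => by
        fin_cases a <;> fin_cases b <;> first | rfl | exact absurd e n01 | exact absurd e n01.symm⟩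
      ⟨![i, j], fun a b e => by
        fin_cases a <;> fin_cases b <;> first | rfl | exact absurd e h | exact absurd e h.symm⟩
    exact ⟨σ, hσ 0, hσ 1⟩
  obtain ⟨σ0, hσ00, hσ01⟩ := pair n01.symm
  obtain ⟨σa, hσa0, hσa1⟩ := pair n23
  obtain ⟨σb, hσb0, hσb1, hσb⟩ := exists_sigma_b hn σa hσa0 hσa1
  let St : Finset (Fin n) := Finset.univ.filter fun x => x ≠ i0 ∧ x ≠ i1
  have mSt : ∀ x, x ∉ St ↔ (x = i0 ∨ x = i1) := fun x => by simp [St]; tauto
  have hStc : St.card = n - 2 := by
    rw [show St = Finset.univ \ ({i0, i1} : Finset (Fin n)) from Finset.ext fun x => by simp [St],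
      Finset.card_univ_diff, Finset.card_pair n01, Fintype.card_fin]
  obtain ⟨St', Q, hcount, hSt', htgen, hQ⟩ := stab_quad hn St hStc i0 i1 i2 i3 (fun x => mSt x)
    σa σb hσb
  let c := c3 n hn
  -- the model
  obtain ⟨Ψ, hΨ⟩ := exists_block (F := F) (m := n) (by omega) (p3 n hn)
  let ψ0 : Matrix.SpecialLinearGroup (Fin 2) F →* Matrix.SpecialLinearGroup (Fin n) F := Ψ.comp emb
  have hψun : ∀ a, ψ0 (un a) = T n01 a := fun a => by
    show Ψ (emb (un a)) = _
    rw [emb_un a (by decide), hΨ]; rfl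
  have hψln : ∀ a, ψ0 (ln a) = T n01.symm a := fun a => by
    show Ψ (emb (ln a)) = _
    rw [emb_ln a (by decide), hΨ]; rfl
  have hstab : ∀ σ : A n, (σ : Perm (Fin n)) i0 = i0 → (σ : Perm (Fin n)) i1 = i1 → ∀ g,
      pm σ * ψ0 g * (pm σ : Matrix.SpecialLinearGroup (Fin n) F)⁻¹ = ψ0 g := by
    intro σ h0 h1
    have : (MulAut.conj (pm σ : Matrix.SpecialLinearGroup (Fin n) F)).toMonoidHom.comp ψ0 = ψ0 := hom_ext2
      (fun a => by
        show pm σ * ψ0 (un a) * (pm σ : Matrix.SpecialLinearGroup (Fin n) F)⁻¹ = _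
        rw [hψun, pm_conj]
        exact Subtype.ext (by simp only [Matrix.SpecialLinearGroup.transvection_coe, h0, h1]))
      (fun a => by
        show pm σ * ψ0 (ln a) * (pm σ : Matrix.SpecialLinearGroup (Fin n) F)⁻¹ = _
        rw [hψln, pm_conj]
        exact Subtype.ext (by simp only [Matrix.SpecialLinearGroup.transvection_coe, h0, h1]))
    exact fun g => DFunLike.congr_fun this g
  have hswap : ∀ g, pm σ0 * ψ0 g * (pm σ0 : Matrix.SpecialLinearGroup (Fin n) F)⁻¹ = ψ0 (sw g) := by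
    have : (MulAut.conj (pm σ0 : Matrix.SpecialLinearGroup (Fin n) F)).toMonoidHom.comp ψ0 = ψ0.comp sw := hom_ext2
      (fun a => by
        show pm σ0 * ψ0 (un a) * (pm σ0 : Matrix.SpecialLinearGroup (Fin n) F)⁻¹ = ψ0 (sw (un a))
        rw [sw_un, hψun, hψln, pm_conj]
        exact Subtype.ext (by simp only [Matrix.SpecialLinearGroup.transvection_coe, hσ00, hσ01]))
      (fun a => by
        show pm σ0 * ψ0 (ln a) * (pm σ0 : Matrix.SpecialLinearGroup (Fin n) F)⁻¹ = ψ0 (sw (ln a))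
        rw [sw_ln, hψun, hψln, pm_conj]
        exact Subtype.ext (by simp only [Matrix.SpecialLinearGroup.transvection_coe, hσ00, hσ01]))
    exact fun g => DFunLike.congr_fun this g
  have hcm : (pm c : Matrix.SpecialLinearGroup (Fin n) F) = Ψ cm := by
    have hx : ∀ (a b : Fin 3) (h : a ≠ b) (t : F) (v : Fin n → F) (k : Fin n),
        ((Ψ (T h t)).1 *ᵥ v) k = if k = p3 n hn a then v k + t * v (p3 n hn b) else v k := fun a b h t v k => by
      rw [hΨ, transvection_mulVec]
    have hcm2 : (cm : Matrix.SpecialLinearGroup (Fin 3) F) =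
        T (show (0 : Fin 3) ≠ 1 by decide) (-1) * T (show (1 : Fin 3) ≠ 0 by decide) 1 *
          T (show (0 : Fin 3) ≠ 1 by decide) (-1) *
        (T (show (1 : Fin 3) ≠ 2 by decide) (-1) * T (show (2 : Fin 3) ≠ 1 by decide) 1 *
          T (show (1 : Fin 3) ≠ 2 by decide) (-1)) := by
      apply Matrix.SpecialLinearGroup.ext; intro i j
      simp only [Matrix.SpecialLinearGroup.coe_mul]
      fin_cases i <;> fin_cases j <;>
        simp [cm, Matrix.SpecialLinearGroup.transvection, Matrix.transvection, Matrix.single,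
          Matrix.mul_apply, Fin.sum_univ_three]
    refine sl_ext_mulVec fun v k => ?_
    rw [hcm2]
    simp only [map_mul, Matrix.SpecialLinearGroup.coe_mul, ← Matrix.mulVec_mulVec, hx]
    rw [pm_mulVec]
    have hne : ∀ a b : Fin 3, a ≠ b → p3 n hn a ≠ p3 n hn b := fun a b h => (p3 n hn).injective.ne h
    have n1 := hne 0 1 (by decide)
    have n2 := hne 1 2 (by decide)
    have n3 := hne 0 2 (by decide)
    have hs := emb_supp (p3 n hn) a3
    have hcapp := c3_apply hn
    by_cases k0 : k = p3 n hn 0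
    · subst k0
      rw [show (c : Perm (Fin n))⁻¹ (p3 n hn 0) = p3 n hn 2 by
        rw [Perm.inv_def, Equiv.symm_apply_eq]; exact (hcapp 2).symm]
      simp [n1, n1.symm, n2, n2.symm, n3, n3.symm]
    by_cases k1 : k = p3 n hn 1
    · subst k1
      rw [show (c : Perm (Fin n))⁻¹ (p3 n hn 1) = p3 n hn 0 by
        rw [Perm.inv_def, Equiv.symm_apply_eq]; exact (hcapp 0).symm]
      simp [n1, n1.symm, n2, n2.symm, n3, n3.symm]
    by_cases k2 : k = p3 n hn 2
    · subst k2
      rw [show (c : Perm (Fin n))⁻¹ (p3 n hn 2) = p3 n hn 1 by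
        rw [Perm.inv_def, Equiv.symm_apply_eq]; exact (hcapp 1).symm]
      simp [n1, n1.symm, n2, n2.symm, n3, n3.symm]
    · rw [show (c : Perm (Fin n))⁻¹ k = k by
        rw [Perm.inv_def, Equiv.symm_apply_eq]
        refine (hs k fun h => ?_).symm
        obtain ⟨a, ha⟩ := mem_pts.1 h
        fin_cases a
        exacts [k0 ha.symm, k1 ha.symm, k2 ha.symm]]
      simp [k0, k1, k2]
  let WA : FreeGroup (Fin gA) →* FreeGroup (Fin gA ⊕ Fin g2) := FreeGroup.map Sum.inl
  let WS : FreeGroup (Fin g2) →* FreeGroup (Fin gA ⊕ Fin g2) := FreeGroup.map Sum.inr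
  let a : A n → FreeGroup (Fin gA ⊕ Fin g2) := fun σ => WA (sA σ)
  let s : Matrix.SpecialLinearGroup (Fin 2) F → FreeGroup (Fin gA ⊕ Fin g2) := fun g => WS (sS g)
  let f : Fin gA ⊕ Fin g2 → Matrix.SpecialLinearGroup (Fin n) F :=
    Sum.elim (fun i => pm (qA (FreeGroup.of i))) (fun i => ψ0 (q2 (FreeGroup.of i)))
  have hfA : ∀ w, FreeGroup.lift f (WA w) = pm (qA w) := fun w => DFunLike.congr_fun
    (FreeGroup.ext_hom ((FreeGroup.lift f).comp WA) (pm.comp qA) fun i => by simp [WA, f]) w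
  have hfS : ∀ w, FreeGroup.lift f (WS w) = ψ0 (q2 w) := fun w => DFunLike.congr_fun
    (FreeGroup.ext_hom ((FreeGroup.lift f).comp WS) (ψ0.comp q2) fun i => by simp [WS, f]) w
  have hfa : ∀ σ, FreeGroup.lift f (a σ) = pm σ := fun σ => (hfA _).trans (by rw [hsA])
  have hfs : ∀ g, FreeGroup.lift f (s g) = ψ0 g := fun g => (hfS _).trans (by rw [hsS])
  let rst : A n → Matrix.SpecialLinearGroup (Fin 2) F → FreeGroup (Fin gA ⊕ Fin g2) := fun σ g =>
    a σ * s g * (a σ)⁻¹ * (s g)⁻¹
  let rsw : Matrix.SpecialLinearGroup (Fin 2) F → FreeGroup (Fin gA ⊕ Fin g2) := fun g =>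
    a σ0 * s g * (a σ0)⁻¹ * (s (sw g))⁻¹
  let rcj : Matrix.SpecialLinearGroup (Fin 2) F → FreeGroup (Fin gA ⊕ Fin g2) := fun g =>
    (a c * s (dg ζ) * (a c)⁻¹) * s g * (a c * s (dg ζ) * (a c)⁻¹)⁻¹ * (s (dconj ζ g))⁻¹
  let rbs : F → FreeGroup (Fin gA ⊕ Fin g2) := fun k =>
    s (un 1) * (a c * s (un k) * (a c)⁻¹) * (s (un 1))⁻¹ *
      ((a c * a c * s (ln k) * ((a c)⁻¹ * (a c)⁻¹)) * (a c * s (un k) * (a c)⁻¹))⁻¹
  let rqd : A n → FreeGroup (Fin gA ⊕ Fin g2) := fun σ =>
    s (un 1) * (a σ * s (un 1) * (a σ)⁻¹) * ((a σ * s (un 1) * (a σ)⁻¹) * s (un 1))⁻¹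
  let R : Finset (FreeGroup (Fin gA ⊕ Fin g2)) := relsA.image WA ∪ (rels2.image WS ∪ (K.image rbs ∪
    (St'.image (fun σ => rst σ u) ∪ (Q.image rqd ∪
      {rsw u, s tw * a c * (a c * (s tw)⁻¹ * (a c)⁻¹)⁻¹, rcj u, rcj (sw u)}))))
  have hRc : R.card ≤ rA + (rS + (kK + if n = 4 then 6 else 7)) := by
    have h9 : (if n = 4 then 2 else 3) + 4 = if n = 4 then 6 else 7 := by split_ifs <;> rfl
    have h4 : ({rsw u, s tw * a c * (a c * (s tw)⁻¹ * (a c)⁻¹)⁻¹, rcj u, rcj (sw u)} :
        Finset (FreeGroup (Fin gA ⊕ Fin g2))).card ≤ 4 := by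
      repeat refine (Finset.card_insert_le _ _).trans (Nat.succ_le_succ ?_)
      simp
    refine (Finset.card_union_le _ _).trans (Nat.add_le_add (Finset.card_image_le.trans hcA)
      ((Finset.card_union_le _ _).trans (Nat.add_le_add (Finset.card_image_le.trans hc2)
        ((Finset.card_union_le _ _).trans (Nat.add_le_add (Finset.card_image_le.trans hK2) ?_)))))
    have h5 := Finset.card_union_le (St'.image fun σ => rst σ u)
      (Q.image rqd ∪ {rsw u, s tw * a c * (a c * (s tw)⁻¹ * (a c)⁻¹)⁻¹, rcj u, rcj (sw u)})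
    have h6 := Finset.card_union_le (Q.image rqd)
      ({rsw u, s tw * a c * (a c * (s tw)⁻¹ * (a c)⁻¹)⁻¹, rcj u, rcj (sw u)} : Finset _)
    have h7 := Finset.card_image_le (s := St') (f := fun σ => rst σ u)
    have h8 := Finset.card_image_le (s := Q) (f := rqd)
    omega
  have hR : ∀ w ∈ R, FreeGroup.lift f w = 1 := by
    intro w hw
    simp only [R, Finset.mem_union, Finset.mem_image, Finset.mem_insert, Finset.mem_singleton] at hw
    rcases hw with ⟨v, hv, rfl⟩ | ⟨v, hv, rfl⟩ | ⟨k, hk, rfl⟩ | ⟨σ, hσ, rfl⟩ | ⟨σ, hσ, rfl⟩ | hw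
    · rw [hfA, hrA v hv, map_one]
    · rw [hfS, hrl2 v hv, map_one]
    · simp only [rbs, map_mul, map_inv, hfa, hfs, mul_inv_eq_one, hcm]
      have e := congrArg Ψ (base_rel (F := F) k)
      simp only [map_mul, map_inv] at e
      exact e
    · simp only [rst, map_mul, map_inv, hfa, hfs, mul_inv_eq_one]
      exact hstab σ (hSt' σ hσ _ ((mSt _).2 (Or.inl rfl))) (hSt' σ hσ _ ((mSt _).2 (Or.inr rfl))) u
    · rcases hQ.1 σ hσ with rfl | rfl
      all_goals
        simp only [rqd, map_mul, map_inv, hfa, hfs, mul_inv_eq_one]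
        rw [hψun, pm_conj]
        obtain ⟨S, hS⟩ := SchurSLn.exists_St (K := F) (n := n) (by omega)
        have hx : ∀ {a b : Fin n} (h : a ≠ b) (t : F), S.x a b t = T h t := fun {a b} h t => by
          rw [← hS (S.x a b t), S.φx a b h]
        rw [← hx, ← hx]
        refine (S.comm _ _ _ _ n01 ((_ : A n).1.injective.ne n01) ?_ ?_ 1 1).eq
        all_goals first
          | (rw [hσa1]; simp [i0, i3]) | (rw [hσa0]; simp [i1, i2])
          | (rw [hσb1]; simp [i0, i2]) | (rw [hσb0]; simp [i1, i3])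
    rcases hw with rfl | rfl | rfl | rfl
    · simp only [rsw, map_mul, map_inv, hfa, hfs, mul_inv_eq_one]; exact hswap _
    · simp only [map_mul, map_inv, hfa, hfs, mul_inv_eq_one, hcm]
      have e := congrArg Ψ (tw_cm (F := F))
      simp only [map_mul, map_inv] at e
      exact e
    · simp only [rcj, map_mul, map_inv, hfa, hfs, mul_inv_eq_one, hcm]
      have e := congrArg Ψ (cm_dg_conj ζ u)
      simp only [map_mul, map_inv] at e
      exact e
    · simp only [rcj, map_mul, map_inv, hfa, hfs, mul_inv_eq_one, hcm]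
      have e := congrArg Ψ (cm_dg_conj ζ (sw u))
      simp only [map_mul, map_inv] at e
      exact e
  set m := PresentedGroup.mk (↑R : Set (FreeGroup (Fin gA ⊕ Fin g2))) with hm
  have one : ∀ w ∈ R, m w = 1 := fun w hw => PresentedGroup.one_of_mem (Finset.mem_coe.mpr hw)
  obtain ⟨α, hα⟩ := huA (m.comp WA) fun v hv =>
    one _ (Finset.mem_union_left _ (Finset.mem_image_of_mem _ hv))
  obtain ⟨ψ, hψ⟩ := hu2 (m.comp WS) fun v hv =>
    one _ (Finset.mem_union_right _ (Finset.mem_union_left _ (Finset.mem_image_of_mem _ hv)))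
  have eA : ∀ σ, m (a σ) = α σ := fun σ => by
    show m.comp WA (sA σ) = _
    rw [← hα, hsA]
  have eS : ∀ g, m (s g) = ψ g := fun g => by
    show m.comp WS (sS g) = _
    rw [← hψ, hsS]
  have ext2 : ∀ {φ φ' : Matrix.SpecialLinearGroup (Fin 2) F →* PresentedGroup (↑R : Set (FreeGroup (Fin gA ⊕ Fin g2)))},
      φ u = φ' u → φ (sw u) = φ' (sw u) → φ = φ' := fun h1 h2 =>
    MonoidHom.eq_of_eqOn_dense hu (by rintro x (rfl | rfl) <;> assumption)
  have memR : ∀ w, w ∈ St'.image (fun σ => rst σ u) ∪ (Q.image rqd ∪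
      {rsw u, s tw * a c * (a c * (s tw)⁻¹ * (a c)⁻¹)⁻¹, rcj u, rcj (sw u)}) → w ∈ R := fun w hw =>
    Finset.mem_union_right _ (Finset.mem_union_right _ (Finset.mem_union_right _ hw))
  have memT : ∀ w, w ∈ ({rsw u, s tw * a c * (a c * (s tw)⁻¹ * (a c)⁻¹)⁻¹, rcj u, rcj (sw u)} :
      Finset (FreeGroup (Fin gA ⊕ Fin g2))) → w ∈ R := fun w hw =>
    memR w (Finset.mem_union_right _ (Finset.mem_union_right _ hw))
  have comm_u : ∀ σ : A n, Supp St σ → Commute (α σ) (ψ u) := by
    intro σ hσ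
    have hσ' := htgen σ hσ
    clear hσ
    induction hσ' using Subgroup.closure_induction with
    | mem y hy =>
      have h2 := one (rst y u) (memR _ (Finset.mem_union_left _ (Finset.mem_image_of_mem _ hy)))
      simp only [rst, map_mul, map_inv, eA, eS, mul_inv_eq_one, mul_inv_eq_iff_eq_mul] at h2
      rw [one_mul] at h2
      exact h2
    | one => rw [map_one]; exact Commute.one_left _
    | mul p q _ _ hp hq => rw [map_mul]; exact hp.mul_left hq
    | inv p _ hp => rw [map_inv]; exact hp.inv_left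
  have sw_u : α σ0 * ψ u * (α σ0)⁻¹ = ψ (sw u) := by
    have h2 := one (rsw u) (memT _ (by simp))
    simp only [rsw, map_mul, map_inv, eA, eS, mul_inv_eq_one] at h2
    exact h2
  have i0St : i0 ∉ St := (mSt _).2 (Or.inl rfl)
  have i1St : i1 ∉ St := (mSt _).2 (Or.inr rfl)
  have comm_swu : ∀ σ : A n, Supp St σ → Commute (α σ) (ψ (sw u)) := by
    intro σ hσ
    have hs : Supp St (σ0⁻¹ * σ * σ0) := fun x hx => by
      show (σ0 : Perm (Fin n))⁻¹ ((σ : Perm (Fin n)) ((σ0 : Perm (Fin n)) x)) = x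
      rw [Perm.inv_def, Equiv.symm_apply_eq]
      rcases (mSt x).1 hx with rfl | rfl
      · rw [hσ00]; exact hσ _ i1St
      · rw [hσ01]; exact hσ _ i0St
    have h := (comm_u _ hs).map (MulAut.conj (α σ0)).toMonoidHom
    rw [map_mul, map_mul α, map_inv] at h
    simp only [MulEquiv.coe_toMonoidHom, MulAut.conj_apply, sw_u] at h
    rwa [show α σ0 * ((α σ0)⁻¹ * α σ * α σ0) * (α σ0)⁻¹ = α σ by group] at h
  let D : GenRels F (PresentedGroup (↑R : Set (FreeGroup (Fin gA ⊕ Fin g2)))) n :=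
  { hn := hn
    ψ := ψ
    α := α
    stab := fun σ h0 h1 g => by
      have hsupp : Supp St σ := fun x hx => by
        rcases (mSt x).1 hx with rfl | rfl
        exacts [h0, h1]
      have hg : g ∈ closure ({u, sw u} : Set (Matrix.SpecialLinearGroup (Fin 2) F)) := hu ▸ mem_top g
      induction hg using Subgroup.closure_induction with
      | mem v hv => rcases hv with rfl | rfl; exacts [comm_u σ hsupp, comm_swu σ hsupp]
      | one => rw [map_one]; exact Commute.one_right _
      | mul p q _ _ hp hq => rw [map_mul]; exact hp.mul_right hq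
      | inv p _ hp => rw [map_inv]; exact hp.inv_right
    σ0 := σ0
    σ0_zero := hσ00
    σ0_one := hσ01
    swap := by
      have e : (MulAut.conj (α σ0)).toMonoidHom.comp ψ = ψ.comp sw := by
        refine ext2 sw_u ?_
        show α σ0 * ψ (sw u) * (α σ0)⁻¹ = ψ (sw (sw u))
        rw [sw_sw]
        have hs : Supp St (σ0 * σ0) := fun x hx => by
          show (σ0 : Perm (Fin n)) ((σ0 : Perm (Fin n)) x) = x
          rcases (mSt x).1 hx with rfl | rfl
          · rw [hσ00, hσ01]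
          · rw [hσ01, hσ00]
        have h := comm_u _ hs
        rw [map_mul] at h
        rw [← sw_u, show α σ0 * (α σ0 * ψ u * (α σ0)⁻¹) * (α σ0)⁻¹ = (α σ0 * α σ0) * ψ u * (α σ0 * α σ0)⁻¹ by group,
          h.eq, mul_inv_cancel_right]
      exact fun g => DFunLike.congr_fun e g
    ζ := ζ
    gen := hζ
    twc := by
      have h2 := one (s tw * a c * (a c * (s tw)⁻¹ * (a c)⁻¹)⁻¹) (memT _ (by simp))
      simp only [map_mul, map_inv, eA, eS, mul_inv_eq_one] at h2
      exact h2
    conj := by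
      have e : (MulAut.conj (α c * ψ (dg ζ) * (α c)⁻¹)).toMonoidHom.comp ψ = ψ.comp (dconj ζ) := by
        have key : ∀ v, rcj v ∈ R →
            (α c * ψ (dg ζ) * (α c)⁻¹) * ψ v * (α c * ψ (dg ζ) * (α c)⁻¹)⁻¹ = ψ (dconj ζ v) := fun v hv => by
          have h2 := one _ hv
          simp only [rcj, map_mul, map_inv, eA, eS, mul_inv_eq_one] at h2
          exact h2
        exact ext2 (key u (memT _ (by simp))) (key (sw u) (memT _ (by simp)))
      exact fun g => DFunLike.congr_fun e g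
    K := (K : Set F)
    ne := fun k hk => hK0 k hk
    base := fun k hk => by
      have h2 := one (rbs k) (Finset.mem_union_right _ (Finset.mem_union_right _
        (Finset.mem_union_left _ (Finset.mem_image_of_mem _ hk))))
      simp only [rbs, map_mul, map_inv, eA, eS, mul_inv_eq_one] at h2
      exact h2
    span := hspan
    span' := hspan'
    σa := σa
    σa_zero := hσa0
    σa_one := hσa1
    σb := σb
    σb_zero := hσb0
    σb_one := hσb1
    quad := by
      have key : ∀ σ ∈ Q, Commute (ψ (un 1)) (α σ * ψ (un 1) * (α σ)⁻¹) := fun σ hσ => by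
        have h2 := one (rqd σ)
          (memR _ (Finset.mem_union_right _ (Finset.mem_union_left _ (Finset.mem_image_of_mem _ hσ))))
        simp only [rqd, map_mul, map_inv, eA, eS, mul_inv_eq_one] at h2
        exact h2
      intro σ hσ
      rcases hQ.2 σ hσ with hmem | ⟨τ, hτ, σ', hσ', rfl⟩
      · exact key σ hmem
      have ct : Commute (α τ) (ψ (un 1)) := by
        have hg : un (1 : F) ∈ closure ({u, sw u} : Set (Matrix.SpecialLinearGroup (Fin 2) F)) := hu ▸ mem_top _
        generalize un (1 : F) = g at hg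
        induction hg using Subgroup.closure_induction with
        | mem v hv => rcases hv with rfl | rfl; exacts [comm_u τ hτ, comm_swu τ hτ]
        | one => rw [map_one]; exact Commute.one_right _
        | mul p q _ _ hp hq => rw [map_mul]; exact hp.mul_right hq
        | inv p _ hp => rw [map_inv]; exact hp.inv_right
      have h := (key σ' hσ').map (MulAut.conj (α τ)).toMonoidHom
      simp only [MulEquiv.coe_toMonoidHom, MulAut.conj_apply] at h
      rw [ct.eq, mul_inv_cancel_right] at h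
      rwa [show α (τ * σ') * ψ (un 1) * (α (τ * σ'))⁻¹ = α τ * (α σ' * ψ (un 1) * (α σ')⁻¹) * (α τ)⁻¹ by
        rw [map_mul]; group] }
  let π := PresentedGroup.toGroup (f := f) (rels := (↑R : Set (FreeGroup (Fin gA ⊕ Fin g2))))
    (fun w hw => hR w (Finset.mem_coe.mp hw))
  have hπm : ∀ w, π (m w) = FreeGroup.lift f w := fun w => rfl
  have hπα : ∀ σ, π (α σ) = pm σ := fun σ => by rw [← eA, hπm, hfa]
  have hπψ : ∀ b, π (ψ (un b)) = T n01 b := fun b => by rw [← eS, hπm, hfs, hψun]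
  let S := D.st π hπψ hπα
  have hgenS : S.gen Finset.univ = ⊤ := by
    obtain ⟨hψR, hαR⟩ := D.gen_le
    have hle : closure D.rootSet ≤ S.gen Finset.univ := by
      rw [closure_le]
      rintro g ⟨i, j, h, t, rfl⟩
      exact S.x_mem_gen (Finset.mem_univ _) (Finset.mem_univ _) h t
    rw [eq_top_iff, ← PresentedGroup.closure_range_of (↑R : Set (FreeGroup (Fin gA ⊕ Fin g2))), closure_le]
    rintro _ ⟨i, rfl⟩
    rcases i with i | i
    · have e : PresentedGroup.of (Sum.inl i) = α (qA (FreeGroup.of i)) := by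
        rw [hα]; simp [WA, hm]; rfl
      rw [e]; exact hle (hαR _)
    · have e : PresentedGroup.of (Sum.inr i) = ψ (q2 (FreeGroup.of i)) := by
        rw [hψ]; simp [WS, hm]; rfl
      rw [e]; exact hle (hψR _)
  have hinj : Function.Injective π := by
    rw [injective_iff_map_eq_one]
    intro g hg
    exact S.inj Finset.univ g (by rw [hgenS]; exact mem_top _) hg
  haveI : Nontrivial (Fin n) := Fin.nontrivial_iff_two_le.2 (by omega)
  have hsurj : Function.Surjective π := by
    rw [← MonoidHom.range_eq_top, eq_top_iff, ← Classical.sl_closure_transvections, closure_le]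
    rintro _ ⟨i, j, hij, t, rfl⟩
    exact ⟨D.x i j t, S.φx i j hij t⟩
  let e := MulEquiv.ofBijective π ⟨hinj, hsurj⟩
  refine (PresN.of_inv (show Fintype.card (Fin gA ⊕ Fin g2) = gA + g2 by simp) R f hR e.symm.toMonoidHom (fun i => ?_) ?_).mono hRc
  · show e.symm (f i) = PresentedGroup.of i
    rw [MulEquiv.symm_apply_eq]
    exact (PresentedGroup.toGroup.of (rels := (↑R : Set (FreeGroup (Fin gA ⊕ Fin g2)))) (fun w hw => hR w (Finset.mem_coe.mp hw))).symm
  · rw [← FreeGroup.range_lift_eq_closure, MonoidHom.range_eq_top]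
    intro g
    obtain ⟨y, rfl⟩ := hsurj g
    obtain ⟨w, rfl⟩ := PresentedGroup.mk_surjective _ y
    exact ⟨w, rfl⟩

/-- Special linear groups of degree at least four from presentations of the alternating group and the rank one
group, with seven further relations besides the field classes. -/
theorem presN_SL_of (n : ℕ) (hn : 4 ≤ n) {gA rA g2 rS : ℕ} (hA : PresN gA (A n) rA)
    (hS2 : PresN g2 (Matrix.SpecialLinearGroup (Fin 2) F) rS) (K : Finset F) {kK : ℕ} (hK2 : K.card ≤ kK)
    (hK0 : ∀ k ∈ K, k ≠ 0)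
    (hspan : AddSubgroup.closure {x : F | ∃ k ∈ (K : Set F), ∃ l : Fˣ, x = k * (l : F) ^ 3} = ⊤)
    (hspan' : AddSubgroup.closure {x : F | ∃ k ∈ (K : Set F), ∃ l : Fˣ, x = k⁻¹ * (l : F) ^ 3} = ⊤) :
    PresN (gA + g2) (Matrix.SpecialLinearGroup (Fin n) F) (rA + (rS + (kK + 7))) :=
  (presN_SL_of' n hn hA hS2 K hK2 hK0 hspan hspan').mono (by split_ifs <;> omega)

end Cfsg.Agent.Small.BoundedPres
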