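import Mathlib
import Cfsg.Agent.Lib.Small.BoundedPres.ShortAll

/-!
The smallest degrees.
-/

set_option autoImplicit false
set_option linter.style.haveILetI false

namespace Cfsg.Agent.Small.BoundedPres

open Cfsg.Agent.Small.AltDeg Equiv Subgroup

theorem presN_two_of_pres {G : Type*} [Group G] {r : ℕ} (h : Pres G r)
    (hg : ∃ a b : G, closure ({a, b} : Set G) = ⊤) : PresN 2 G (r + 2) := by
  obtain ⟨a, b, hab⟩ := hg
  exact h.two_gen a b hab

/-- A cyclic group. -/
theorem presN_cyclic {G : Type*} [Group G] [IsCyclic G] : PresN 2 G 2 := by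
  classical
  obtain ⟨a, ha⟩ := IsCyclic.exists_generator (α := G)
  let W : Fin 2 → FreeGroup (Fin 2) := ![FreeGroup.of 0 ^ orderOf a, FreeGroup.of 1]
  let f : Fin 2 → G := ![a, 1]
  have hf : ∀ i, FreeGroup.lift f (W i) = 1 := fun i => by
    fin_cases i <;> simp [W, f, pow_orderOf_eq_one]
  obtain ⟨rels, hc, e, -⟩ := pres_equiv W f hf (by
    rw [eq_top_iff]
    intro x _
    obtain ⟨i, rfl⟩ := Subgroup.mem_zpowers_iff.1 (ha x)
    have hmem : a ∈ closure (Set.range f) := Subgroup.subset_closure ⟨0, rfl⟩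
    exact zpow_mem hmem i) (by
    set π := PresentedGroup.toGroup (f := f) (rels := Set.range W) (by rintro _ ⟨i, rfl⟩; exact hf i) with hπ
    rw [Subgroup.eq_bot_iff_forall]
    intro q hq
    rw [MonoidHom.mem_ker] at hq
    set u : PresentedGroup (Set.range W) := PresentedGroup.of 0
    have h1 : (PresentedGroup.of 1 : PresentedGroup (Set.range W)) = 1 := PresentedGroup.one_of_mem ⟨1, rfl⟩
    have h0 : u ^ orderOf a = 1 := PresentedGroup.one_of_mem (rels := Set.range W) ⟨0, rfl⟩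
    have hq' : q ∈ zpowers u := by
      have : closure (Set.range (PresentedGroup.of (rels := Set.range W))) ≤ zpowers u := by
        rw [Subgroup.closure_le]
        rintro _ ⟨i, rfl⟩
        fin_cases i
        · exact mem_zpowers u
        · show PresentedGroup.of 1 ∈ zpowers u
          rw [h1]; exact one_mem _
      rw [PresentedGroup.closure_range_of] at this
      exact this (Subgroup.mem_top q)
    obtain ⟨i, rfl⟩ := Subgroup.mem_zpowers_iff.1 hq'
    have hu : π u = a := by simp [π, u, f]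
    rw [map_zpow, hu] at hq
    obtain ⟨j, hj⟩ := orderOf_dvd_iff_zpow_eq_one.2 hq
    rw [hj, zpow_mul, zpow_natCast, h0, one_zpow])
  exact ⟨rels, hc, ⟨e⟩⟩

theorem alt_small_le (n : ℕ) (h : n ≤ 4) : PresN 2 (A n) 8 := by
  rcases (show n ≤ 2 ∨ n = 3 ∨ n = 4 by omega) with h' | h' | h'
  · haveI : Subsingleton (A n) := by
      refine Finite.card_le_one_iff_subsingleton.1 ?_
      interval_cases n <;> (rw [Nat.card_eq_fintype_card]; decide)
    exact PresN.mono presN_cyclic (by norm_num)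
  · subst h'
    exact PresN.mono (presN_two_of_pres (pres_small 1 le_rfl) (two_gen 3)) (by norm_num)
  · subst h'
    exact PresN.mono (presN_two_of_pres (pres_small 2 (by norm_num)) (two_gen 4)) (by norm_num)

theorem sym_small_le (n : ℕ) (h : n ≤ 4) : PresN 2 (Perm (Fin n)) 8 := by
  rcases (show n ≤ 2 ∨ n = 3 ∨ n = 4 by omega) with h' | h' | h'
  · haveI : IsCyclic (Perm (Fin n)) := by
      rcases (show n = 0 ∨ n = 1 ∨ n = 2 by omega) with rfl | rfl | rfl
      · exact isCyclic_of_subsingleton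
      · exact isCyclic_of_subsingleton
      · haveI : Fact (Nat.Prime 2) := ⟨Nat.prime_two⟩
        exact isCyclic_of_prime_card (p := 2) (by simp [Nat.card_eq_fintype_card, Fintype.card_perm])
    exact PresN.mono presN_cyclic (by norm_num)
  · subst h'
    haveI : Fact (Nat.Prime 3) := ⟨Nat.prime_three⟩
    have key : (∀ i, mrel (2 + 1) (Equiv.swap (0 : Fin (2 + 1)) 1) (finRotate (2 + 1)) i = 1) ∧
        finRotate (2 + 1) = (List.ofFn fun i : Fin 2 => Equiv.swap i.castSucc i.succ).prod ∧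
        finRotate (2 + 1) ^ (2 + 1) = 1 := by decide +kernel
    exact PresN.mono (sym_moore 2 le_rfl key.1 key.2.1 key.2.2) (by norm_num)
  · subst h'
    exact PresN.mono (sym_moore_small 4 le_rfl (by norm_num)) (by norm_num)

/-- Relators for six points. -/
def srel6 (d : FreeGroup (Fin 4)) {Q : Type*} [Group Q] (u x : Q) : Fin 5 → Q :=
  ![u ^ 4, x ^ 3, (x * (u * x * u⁻¹)⁻¹) ^ 2, (x * (u ^ 2 * x * (u ^ 2)⁻¹)) ^ 2,
    u * (FreeGroup.lift ![x, (u * x * u⁻¹)⁻¹, u ^ 2 * x * (u ^ 2)⁻¹, (u ^ 3 * x * (u ^ 3)⁻¹)⁻¹] d)⁻¹]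

theorem map_srel6 (d : FreeGroup (Fin 4)) {Q Q' : Type*} [Group Q] [Group Q'] (f : Q →* Q') (u x : Q)
    (i : Fin 5) : f (srel6 d u x i) = srel6 d (f u) (f x) i := by
  fin_cases i
  · simp [srel6]
  · simp [srel6]
  · simp [srel6]
  · simp [srel6]
  · show f (u * _⁻¹) = f u * _⁻¹
    rw [map_mul, map_inv, map_lift]
    congr 4
    funext j
    fin_cases j <;> simp

theorem alt_six : PresN 2 (A 6) 5 := by
  classical
  let up : Perm (Fin 6) := c[2, 3, 4, 5] * Equiv.swap 0 1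
  let U : A 6 := ⟨up, Perm.mem_alternatingGroup.2 (by decide +kernel)⟩
  let X : A 6 := gcyc 4 0
  obtain ⟨g3, g2⟩ := gcyc_rels 4
  have hswap : ∀ (i : ℕ) (c : Fin 4), ((U ^ i : A 6) : Perm (Fin 6)) ⟨0, by omega⟩ = ⟨1, by omega⟩ →
      ((U ^ i : A 6) : Perm (Fin 6)) ⟨1, by omega⟩ = ⟨0, by omega⟩ →
      ((U ^ i : A 6) : Perm (Fin 6)) ⟨2, by omega⟩ = ⟨c.val + 2, by omega⟩ →
      U ^ i * X * (U ^ i)⁻¹ = (gcyc 4 c)⁻¹ := by
    intro i c h0 h1 h2
    show U ^ i * cyc _ _ _ _ _ _ * (U ^ i)⁻¹ = (cyc _ _ _ _ _ _)⁻¹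
    refine (conj_cyc _ _ _ _).trans (Eq.trans ?_ (cyc_inv _ _ _).symm)
    exact cyc_congr _ _ _ _ _ _ h0 h1 h2
  have v1 : (U * X * U⁻¹)⁻¹ = gcyc 4 1 := by
    have := hswap 1 1 (by decide +kernel) (by decide +kernel) (by decide +kernel)
    rw [pow_one] at this
    rw [this, inv_inv]
  have v2 : U ^ 2 * X * (U ^ 2)⁻¹ = gcyc 4 2 :=
    conj_gcyc _ _ _ (by decide +kernel) (by decide +kernel) (by decide +kernel)
  have v3 : (U ^ 3 * X * (U ^ 3)⁻¹)⁻¹ = gcyc 4 3 := by
    rw [hswap 3 3 (by decide +kernel) (by decide +kernel) (by decide +kernel), inv_inv]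
  have hU4 : U ^ 4 = 1 := Subtype.ext (by decide +kernel)
  have hvec : (![X, (U * X * U⁻¹)⁻¹, U ^ 2 * X * (U ^ 2)⁻¹, (U ^ 3 * X * (U ^ 3)⁻¹)⁻¹] : Fin 4 → A 6) = gcyc 4 := by
    funext j; fin_cases j
    · rfl
    · exact v1
    · exact v2
    · exact v3
  have hsurj : Function.Surjective (FreeGroup.lift (gcyc 4)) := by
    rw [← MonoidHom.range_eq_top, FreeGroup.range_lift_eq_closure, gcyc_top]
  obtain ⟨d, hd⟩ := hsurj U
  let f : Fin 2 → A 6 := ![U, X]
  let W : Fin 5 → FreeGroup (Fin 2) := srel6 d (FreeGroup.of 0) (FreeGroup.of 1)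
  have hf : ∀ i, FreeGroup.lift f (W i) = 1 := fun i => by
    simp only [W, map_srel6, FreeGroup.lift_apply_of]
    show srel6 d U X i = 1
    fin_cases i
    · exact hU4
    · exact g3 _
    · show (X * (U * X * U⁻¹)⁻¹) ^ 2 = 1
      rw [v1]; exact g2 _ _ (by decide)
    · show (X * (U ^ 2 * X * (U ^ 2)⁻¹)) ^ 2 = 1
      rw [v2]; exact g2 _ _ (by decide)
    · show U * (FreeGroup.lift _ d)⁻¹ = 1
      rw [hvec, hd, mul_inv_cancel]
  set π := PresentedGroup.toGroup (f := f) (rels := Set.range W) (by rintro _ ⟨i, rfl⟩; exact hf i) with hπ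
  set u : PresentedGroup (Set.range W) := PresentedGroup.of 0
  set x : PresentedGroup (Set.range W) := PresentedGroup.of 1
  have hP : ∀ i, srel6 d u x i = 1 := fun i => by
    have h := PresentedGroup.one_of_mem (rels := Set.range W) ⟨i, rfl⟩
    rwa [map_srel6] at h
  have u4 : u ^ 4 = 1 := hP 0
  have x3 : x ^ 3 = 1 := hP 1
  set v : Fin 4 → PresentedGroup (Set.range W) :=
    ![x, (u * x * u⁻¹)⁻¹, u ^ 2 * x * (u ^ 2)⁻¹, (u ^ 3 * x * (u ^ 3)⁻¹)⁻¹] with hv
  have p01 : (v 0 * v 1) ^ 2 = 1 := hP 2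
  have p02 : (v 0 * v 2) ^ 2 = 1 := hP 3
  have shift : ∀ i : Fin 4, u * v i * u⁻¹ = (v (i + 1))⁻¹ := by
    intro i
    fin_cases i
    · simp [hv]
    · simp [hv, pow_succ, mul_assoc]
    · simp [hv, pow_succ, mul_assoc]
    · show u * (u ^ 3 * x * (u ^ 3)⁻¹)⁻¹ * u⁻¹ = x⁻¹
      calc _ = u ^ 4 * x⁻¹ * (u ^ 4)⁻¹ := by group
        _ = _ := by rw [u4]; simp
  have sw : ∀ a b : PresentedGroup (Set.range W), (a * b) ^ 2 = 1 → (b * a) ^ 2 = 1 := fun a b h => by
    calc (b * a) ^ 2 = b * (a * b) ^ 2 * b⁻¹ := by rw [pow_two, pow_two]; group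
      _ = 1 := by rw [h, mul_one, mul_inv_cancel]
  have step : ∀ i j : Fin 4, (v i * v j) ^ 2 = 1 → (v (i + 1) * v (j + 1)) ^ 2 = 1 := by
    intro i j h
    have h1 := congrArg (fun t => u * t * u⁻¹) h
    simp only [mul_one, mul_inv_cancel] at h1
    rw [← conj_pow, show u * (v i * v j) * u⁻¹ = u * v i * u⁻¹ * (u * v j * u⁻¹) by group, shift, shift,
      ← mul_inv_rev, inv_pow, inv_eq_one] at h1
    exact sw _ _ h1
  have v2' : ∀ i j : Fin 4, i ≠ j → (v i * v j) ^ 2 = 1 := by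
    have a12 := step _ _ p01
    have a23 := step _ _ a12
    have a30 := step _ _ a23
    have a13 := step _ _ p02
    intro i j hij
    fin_cases i <;> fin_cases j
    all_goals first
      | exact absurd rfl hij
      | exact p01 | exact p02 | exact a12 | exact a23 | exact a30 | exact a13
      | exact sw _ _ p01 | exact sw _ _ p02 | exact sw _ _ a12 | exact sw _ _ a23 | exact sw _ _ a30 | exact sw _ _ a13
  have v3' : ∀ i, v i ^ 3 = 1 := fun i => by
    fin_cases i
    · exact x3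
    · show (u * x * u⁻¹)⁻¹ ^ 3 = 1
      rw [inv_pow, conj_pow, x3]; simp
    · show (u ^ 2 * x * (u ^ 2)⁻¹) ^ 3 = 1
      rw [conj_pow, x3]; simp
    · show (u ^ 3 * x * (u ^ 3)⁻¹)⁻¹ ^ 3 = 1
      rw [inv_pow, conj_pow, x3]; simp
  obtain ⟨θ, hθ⟩ := carmichael_hom 4 (by norm_num) v v3' v2'
  obtain ⟨rels, hc, e, -⟩ := pres_equiv W f hf (by
    rw [eq_top_iff, ← gcyc_top, Subgroup.closure_le]
    rintro _ ⟨j, rfl⟩
    rw [← hvec]
    have hu : U ∈ closure (Set.range f) := Subgroup.subset_closure ⟨0, rfl⟩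
    have hx : X ∈ closure (Set.range f) := Subgroup.subset_closure ⟨1, rfl⟩
    fin_cases j
    · exact hx
    · exact inv_mem (mul_mem (mul_mem hu hx) (inv_mem hu))
    · exact mul_mem (mul_mem (pow_mem hu 2) hx) (inv_mem (pow_mem hu 2))
    · exact inv_mem (mul_mem (mul_mem (pow_mem hu 3) hx) (inv_mem (pow_mem hu 3))))
    (ker_bot_of_inv f _ (fun i => by simp) θ (fun i => by
      fin_cases i
      · show θ U = u
        rw [← hd, map_lift, show (fun i => θ (gcyc 4 i)) = v from funext hθ]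
        exact (mul_inv_eq_one.1 (hP 4)).symm
      · exact hθ 0))
  exact ⟨rels, hc, ⟨e⟩⟩

theorem presN_exact {G : Type*} [Group G] {r : ℕ} (h : Pres G r) (a b : G)
    (hab : closure ({a, b} : Set G) = ⊤) :
    ∃ rels : Finset (FreeGroup (Fin 2)), rels.card ≤ r + 2 ∧
      ∃ e : PresentedGroup (↑rels : Set (FreeGroup (Fin 2))) ≃* G,
        e (PresentedGroup.of 0) = a ∧ e (PresentedGroup.of 1) = b := by
  classical
  obtain ⟨g, rels, q, hc, hq, hrel, huniv⟩ := h.exists_hom
  let f : Fin 2 → G := ![a, b]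
  have hfs : Function.Surjective (FreeGroup.lift f) := by
    rw [← MonoidHom.range_eq_top, FreeGroup.range_lift_eq_closure, eq_top_iff, ← hab]
    refine Subgroup.closure_mono ?_
    rintro x (rfl | rfl)
    · exact ⟨0, rfl⟩
    · exact ⟨1, rfl⟩
  choose s hs using fun i : Fin g => hfs (q (FreeGroup.of i))
  let θ : FreeGroup (Fin g) →* FreeGroup (Fin 2) := FreeGroup.lift s
  have hθ : ∀ v, FreeGroup.lift f (θ v) = q v := fun v => DFunLike.congr_fun
    (FreeGroup.ext_hom ((FreeGroup.lift f).comp θ) q fun i => by simp [θ, hs]) v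
  choose wd hwd using fun i : Fin 2 => hq (f i)
  let R : Finset (FreeGroup (Fin 2)) :=
    rels.image θ ∪ Finset.univ.image (fun i => θ (wd i) * (FreeGroup.of i)⁻¹)
  have hR : ∀ v ∈ (↑R : Set (FreeGroup (Fin 2))), FreeGroup.lift f v = 1 := by
    intro v hv
    rcases Finset.mem_union.mp (Finset.mem_coe.mp hv) with hv | hv
    · obtain ⟨u, hu, rfl⟩ := Finset.mem_image.mp hv
      rw [hθ, hrel u hu]
    · obtain ⟨i, -, rfl⟩ := Finset.mem_image.mp hv
      rw [map_mul, map_inv, hθ, hwd, FreeGroup.lift_apply_of, mul_inv_cancel]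
  set m := PresentedGroup.mk (↑R : Set (FreeGroup (Fin 2)))
  obtain ⟨φ, hφ⟩ := huniv (m.comp θ) fun u hu => PresentedGroup.one_of_mem
    (Finset.mem_coe.mpr (Finset.mem_union_left _ (Finset.mem_image_of_mem _ hu)))
  let π := PresentedGroup.toGroup hR
  refine ⟨R, ?_, MulEquiv.ofBijective π ⟨?_, ?_⟩, ?_, ?_⟩
  · refine (Finset.card_union_le _ _).trans (Nat.add_le_add (Finset.card_image_le.trans hc) ?_)
    exact Finset.card_image_le.trans (by simp)
  · have : φ.comp π = MonoidHom.id _ := PresentedGroup.ext fun i => by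
      show φ (π (PresentedGroup.of i)) = PresentedGroup.of i
      simp only [π, PresentedGroup.toGroup.of]
      rw [← hwd i, hφ]
      show m (θ (wd i)) = m (FreeGroup.of i)
      rw [← mul_inv_eq_one, ← map_inv, ← map_mul]
      exact PresentedGroup.one_of_mem
        (Finset.mem_coe.mpr (Finset.mem_union_right _ (Finset.mem_image_of_mem (s := Finset.univ) _ (Finset.mem_univ i))))
    exact Function.LeftInverse.injective (g := φ) fun x => DFunLike.congr_fun this x
  · intro x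
    obtain ⟨v, rfl⟩ := hfs x
    exact ⟨m v, rfl⟩
  · show π (PresentedGroup.of 0) = a
    simp [π, f]
  · show π (PresentedGroup.of 1) = b
    simp [π, f]

theorem alt_two (n : ℕ) (hn : 5 ≤ n) : PresN 2 (A n) 7 := by
  rcases (show n = 5 ∨ n = 6 ∨ 7 ≤ n by omega) with e | e | e
  · subst e; exact PresN.mono (alt_base_pres 3 Nat.prime_three le_rfl) (by norm_num)
  · subst e; exact PresN.mono alt_six (by norm_num)
  · exact alt_seven n e

theorem alt_three (n : ℕ) (hn : 5 ≤ n) : PresN 3 (A n) 7 := by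
  rcases (show n = 5 ∨ n = 6 ∨ 7 ≤ n by omega) with e | e | e
  · subst e; exact PresN.mono (alt_base_pres 3 Nat.prime_three le_rfl).succ (by norm_num)
  · subst e; exact PresN.mono alt_six.succ (by norm_num)
  · exact alt_seven3 n e

end Cfsg.Agent.Small.BoundedPres
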