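import Mathlib
import Cfsg.Agent.Lib.Small.BoundedPres.SLnShort
import Cfsg.Agent.Lib.Small.BoundedPres.ShortTiny
import Cfsg.Agent.S2286
import Cfsg.Agent.Lib.Small.SchurSLFinal

/-!
Short presentations of special linear groups and their projective quotients.
-/

set_option autoImplicit false
set_option linter.style.haveILetI false

namespace Cfsg.Agent.Small.BoundedPres

open Cfsg.Agent.Small.AltDeg Equiv Subgroup Cfsg.Agent.Lead.SL2Pres Cfsg.Agent.Small.SL3Pres

/-- Three relations on two generators for four points. -/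
theorem alt_four : PresN 2 (A 4) 3 := by
  classical
  obtain ⟨g3, g2⟩ := gcyc_rels 2
  let W : Fin 3 → FreeGroup (Fin 2) :=
    ![FreeGroup.of 0 ^ 3, FreeGroup.of 1 ^ 3, (FreeGroup.of 0 * FreeGroup.of 1) ^ 2]
  have hf : ∀ i, FreeGroup.lift (gcyc 2) (W i) = 1 := fun i => by
    fin_cases i
    · simpa [W] using g3 0
    · simpa [W] using g3 1
    · simpa [W] using g2 0 1 (by decide)
  set u : PresentedGroup (Set.range W) := PresentedGroup.of 0
  set v : PresentedGroup (Set.range W) := PresentedGroup.of 1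
  have u3 : u ^ 3 = 1 := PresentedGroup.one_of_mem (rels := Set.range W) ⟨0, rfl⟩
  have v3 : v ^ 3 = 1 := PresentedGroup.one_of_mem (rels := Set.range W) ⟨1, rfl⟩
  have uv : (u * v) ^ 2 = 1 := PresentedGroup.one_of_mem (rels := Set.range W) ⟨2, rfl⟩
  have vu : (v * u) ^ 2 = 1 := by
    calc (v * u) ^ 2 = v * (u * v) ^ 2 * v⁻¹ := by rw [pow_two, pow_two]; group
      _ = 1 := by rw [uv, mul_one, mul_inv_cancel]
  obtain ⟨θ, hθ⟩ := carmichael_hom 2 (by norm_num) ![u, v]
    (fun i => by fin_cases i; exacts [u3, v3])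
    (fun i j hij => by
      fin_cases i <;> fin_cases j
      all_goals first | exact absurd rfl hij | exact uv | exact vu)
  obtain ⟨rels, hc, e, -⟩ := pres_equiv W (gcyc 2) hf (gcyc_top 2)
    (ker_bot_of_inv (gcyc 2) _ (fun i => by simp) θ fun i => by
      rw [hθ]; fin_cases i <;> rfl)
  exact ⟨rels, hc, ⟨e⟩⟩

variable {F : Type*} [Field F] [Fintype F]

/-- The rank one group in characteristic two. -/
theorem presN_SL2_even [CharP F 2] : PresN 3 (Matrix.SpecialLinearGroup (Fin 2) F) 5 := by
  obtain ⟨n, hpp, hcard⟩ := FiniteField.card F 2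
  refine even_case (n : ℕ) (by rw [Nat.card_eq_fintype_card, hcard]) (MonoidHom.id _) (fun x => ⟨x, rfl⟩)
    un_injective ?_
  rw [Cfsg.Agent.Small.SL2C.card_SL2, hcard, mul_assoc]
  congr 1
  rw [mul_comm, ← Nat.sq_sub_sq, one_pow]

/-- Special linear groups from a presentation of the alternating group. -/
theorem presN_SL_alt' (n : ℕ) (hn : 4 ≤ n) {g r : ℕ} (hA : PresN g (A n) r) :
    PresN (g + 3) (Matrix.SpecialLinearGroup (Fin n) F) (r + if n = 4 then 16 else 17) := by
  classical
  by_cases h4 : Fintype.card F = 4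
  · obtain ⟨p, hp⟩ := CharP.exists F
    obtain ⟨e, hpp, hcard⟩ := FiniteField.card F p
    haveI := hp
    have hp2 : p = 2 := by
      have hdvd : p ∣ 2 ^ 2 := by
        rw [show (2 ^ 2 : ℕ) = Fintype.card F from h4.symm, hcard]; exact dvd_pow_self p e.pos.ne'
      exact (Nat.prime_dvd_prime_iff_eq hpp Nat.prime_two).1 (hpp.dvd_of_dvd_pow hdvd)
    subst hp2
    obtain ⟨K, hK2, hK0, hspan, hspan'⟩ := cube_classes (F := F)
    exact (presN_SL_of' n hn hA presN_SL2_even K hK2 hK0 hspan hspan').mono (by split_ifs <;> omega)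
  · obtain ⟨rels, hc, he⟩ := (Cfsg.Agent.S2286.result (F := F)).1
    have hspan : AddSubgroup.closure {x : F | ∃ l : Fˣ, x = (l : F) ^ 3} = ⊤ := cubes_span h4
    refine (presN_SL_of' n hn hA (⟨rels, hc, he⟩ : PresN 3 _ 9) ({1} : Finset F) (kK := 1) (by simp) (by simp)
      ?_ ?_).mono (by split_ifs <;> omega)
    all_goals
      rw [eq_top_iff, ← hspan]
      refine AddSubgroup.closure_mono ?_
      rintro _ ⟨l, rfl⟩
      exact ⟨1, by simp, l, by simp⟩

/-- Special linear groups from a presentation of the alternating group. -/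
theorem presN_SL_alt (n : ℕ) (hn : 4 ≤ n) {g r : ℕ} (hA : PresN g (A n) r) :
    PresN (g + 3) (Matrix.SpecialLinearGroup (Fin n) F) (r + 17) :=
  (presN_SL_alt' n hn hA).mono (by split_ifs <;> omega)

/-- The projective quotient costs one relation. -/
theorem presN_PSL {n g r : ℕ} [NeZero n] (h : PresN g (Matrix.SpecialLinearGroup (Fin n) F) r) :
    PresN g (Matrix.ProjectiveSpecialLinearGroup (Fin n) F) (r + 1) := by
  obtain ⟨hcyc, -⟩ := SchurSLFinal.center_cyclic (K := F) n
  haveI := hcyc
  obtain ⟨z, hz⟩ := IsCyclic.exists_generator (α := center (Matrix.SpecialLinearGroup (Fin n) F))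
  have hN : normalClosure {(z : Matrix.SpecialLinearGroup (Fin n) F)} =
      center (Matrix.SpecialLinearGroup (Fin n) F) := by
    refine le_antisymm (normalClosure_le_normal (by rintro _ rfl; exact z.2)) fun y hy => ?_
    obtain ⟨i, hi⟩ := mem_zpowers_iff.1 (hz ⟨y, hy⟩)
    have e : (z : Matrix.SpecialLinearGroup (Fin n) F) ^ i = y := by rw [← Subgroup.coe_zpow, hi]
    have hm : (z : Matrix.SpecialLinearGroup (Fin n) F) ^ i ∈
        normalClosure {(z : Matrix.SpecialLinearGroup (Fin n) F)} :=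
      Subgroup.zpow_mem _ (subset_normalClosure (Set.mem_singleton _)) i
    rwa [e] at hm
  exact h.quotient _ _ hN

/-- Six generators and twenty-four relations. -/
theorem presN_SL_six (n : ℕ) (hn : 4 ≤ n) : PresN 6 (Matrix.SpecialLinearGroup (Fin n) F) 24 := by
  rcases Nat.lt_or_ge n 5 with h | h
  · obtain rfl : n = 4 := by omega
    exact (presN_SL_alt 4 le_rfl alt_four.succ).mono (by norm_num)
  · exact presN_SL_alt n hn (alt_three n h)

theorem presN_SL_four : PresN 5 (Matrix.SpecialLinearGroup (Fin 4) F) 20 :=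
  presN_SL_alt 4 le_rfl alt_four

theorem presN_SL_four_short : PresN 5 (Matrix.SpecialLinearGroup (Fin 4) F) 19 :=
  presN_SL_alt' 4 le_rfl alt_four

theorem presN_SL_five : PresN 5 (Matrix.SpecialLinearGroup (Fin 5) F) 21 :=
  presN_SL_alt 5 (by norm_num) (alt_base_pres 3 Nat.prime_three le_rfl)

end Cfsg.Agent.Small.BoundedPres
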